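import Cfsg.Agent.H4.Small
import Cfsg.Agent.H7.Basic
import Cfsg.Agent.S3681
import Cfsg.Agent.S4275

/-! Subgroups of index `n` in `Aₙ`, and automorphisms of `Aₙ`. -/

set_option maxSynthPendingDepth 3

namespace H8

open Subgroup MulAction Equiv

variable {G Ω : Type*} [Group G]

theorem fix_or_prim [MulAction G Ω] [Finite Ω] [Nontrivial Ω]
    (h : ∀ L : Subgroup G, 2 ≤ L.index → Nat.card Ω < 2 * L.index) :
    (∃ x : Ω, ∀ g : G, g • x = x) ∨ IsPreprimitive G Ω := by
  refine or_iff_not_imp_left.2 fun hf => ?_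
  have h1 : ∀ x : Ω, stabilizer G x ≠ ⊤ := fun x e => hf ⟨x, fun g => (e ▸ mem_top g : g ∈ stabilizer G x)⟩
  have h2 : ∀ x : Ω, Nat.card Ω < 2 * (orbit G x).ncard := fun x => by
    have := (Set.ncard_pos (s := orbit G x)).2 (nonempty_orbit x)
    rw [← index_stabilizer] at this ⊢
    exact h _ (by have := mt index_eq_one.1 (h1 x); omega)
  haveI : IsPretransitive G Ω := ⟨fun x y => by_contra fun e => by
    have := Set.ncard_le_card (orbit G x ∪ orbit G y)
    rw [Set.ncard_union_eq (s := orbit G x) (t := orbit G y) (Set.disjoint_left.2 fun _ ⟨g, hg⟩ ⟨k, hk⟩ =>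
      e ⟨k⁻¹ * g, by rw [mul_smul, inv_smul_eq_iff]; exact hg.trans hk.symm⟩)] at this
    have := h2 x; have := h2 y; omega⟩
  obtain ⟨a⟩ : Nonempty Ω := inferInstance
  refine (isCoatom_stabilizer_iff_preprimitive G a).1 ⟨h1 a, fun L hL => by_contra fun e => ?_⟩
  have h3 := relIndex_mul_index hL.le
  rw [index_stabilizer_of_transitive] at h3
  have h4 := mt relIndex_eq_one.1 hL.not_ge
  have h5 := mt index_eq_one.1 e
  have h6 := Nat.card_pos (α := Ω)
  have h7 : 2 ≤ L.index ∧ 2 ≤ (stabilizer G a).relIndex L := by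
    have := mul_ne_zero_iff.1 (h3 ▸ h6.ne'); omega
  have := h L h7.1
  nlinarith

theorem alt_stab [Finite G] [MulAction G Ω] [Finite Ω] (hf : (toPermHom G Ω).ker = ⊥) (a : Ω) {n : ℕ}
    (hn : Nat.card Ω = n + 1) (hG : 2 * Nat.card (stabilizer G a) = n.factorial) :
    Nonempty (stabilizer G a ≃* alternatingGroup (Fin n)) :=
  H4.equiv_alt_of_injective (toPermHom (stabilizer G a) (SubMulAction.ofStabilizer G a))
    ((injective_iff_map_eq_one _).2 fun g hg => by
      have : (g : G) ∈ (toPermHom G Ω).ker := Equiv.ext fun x => by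
        by_cases e : x = a
        · subst e; exact g.2
        · exact congrArg Subtype.val (DFunLike.congr_fun hg ⟨x, e⟩)
      rwa [hf, mem_bot, OneMemClass.coe_eq_one] at this)
    (by have := SubMulAction.nat_card_ofStabilizer_add_one_eq G a; omega) hG

theorem alt_of_index [Finite G] [IsSimpleGroup G] {H : Subgroup G} {n : ℕ} (hn : H.index = n + 1) (h1 : n ≠ 0)
    (hG : 2 * Nat.card G = (n + 1).factorial) : Nonempty (H ≃* alternatingGroup (Fin n)) := by
  have h2 : H.normalCore = ⊥ := H.normalCore_normal.eq_bot_or_eq_top.resolve_right fun e => by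
    rw [show H = ⊤ from top_le_iff.1 (e ▸ H.normalCore_le), index_top] at hn; omega
  have h3 := H.card_mul_index
  obtain ⟨e⟩ := alt_stab ((normalCore_eq_ker H).symm.trans h2) ((1 : G) : G ⧸ H) hn
    (by rw [stabilizer_quotient]; rw [hn, Nat.factorial_succ] at *; nlinarith)
  exact ⟨(MulEquiv.subgroupCongr (stabilizer_quotient H).symm).trans e⟩

theorem alt_index_ne_two [Fintype Ω] [DecidableEq Ω] (L : Subgroup (alternatingGroup Ω)) : L.index ≠ 2 := fun h => by
  have : L = ⊤ := top_le_iff.1 (alternatingGroup.closure_isThreeCycles_eq_top.ge.trans ((closure_le L).2 fun g hg => by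
    have h3 : g ^ 3 = 1 := Subtype.ext (by simpa using hg.orderOf ▸ pow_orderOf_eq_one (g : Perm Ω))
    have := sq_mem_of_index_two h (g ^ 2)
    rwa [← pow_mul, pow_succ, h3, one_mul] at this))
  simp [this] at h

theorem alt_index_large {n : ℕ} (hn : 4 ≤ n) (L : Subgroup (alternatingGroup (Fin n))) (h : 2 ≤ L.index) :
    n + 1 < 2 * L.index := by
  have h2 := alt_index_ne_two L
  rcases hn.eq_or_lt with rfl | hn
  · omega
  haveI := alternatingGroup.isSimpleGroup (α := Fin n) (by rw [Nat.card_fin]; omega)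
  by_contra! e
  have h3 := Nat.le_of_dvd (Nat.factorial_pos _) (H4.card_dvd_factorial_of_simple L fun e => by simp [e] at h)
  obtain ⟨m, rfl⟩ : ∃ m, n = m + 2 := ⟨n - 2, by omega⟩
  have h4 := two_mul_nat_card_alternatingGroup (α := Fin (m + 2))
  rw [Nat.card_perm, Nat.card_fin, Nat.factorial_succ, Nat.factorial_succ] at h4
  have h5 := Nat.factorial_le (show L.index ≤ m by omega)
  have := Nat.mul_le_mul_right m.factorial (show 3 ≤ (m + 1 + 1) * (m + 1) by nlinarith)
  have := Nat.factorial_pos m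
  rw [← mul_assoc] at h4
  omega

variable [Fintype Ω] [DecidableEq Ω]

theorem fix_or_prim_alt (hn : 4 ≤ Nat.card Ω) {H : Subgroup (alternatingGroup Ω)} (hH : H.index = Nat.card Ω) :
    (∃ x : Ω, ∀ g : H, g • x = x) ∨ IsPreprimitive H Ω := by
  haveI : Nontrivial Ω := Finite.one_lt_card_iff_nontrivial.1 (by omega)
  have h1 := two_mul_nat_card_alternatingGroup (α := Ω)
  rw [Nat.card_perm] at h1
  refine fix_or_prim fun L hL => ?_
  rcases hn.eq_or_lt with e | e
  · have h2 := H.card_mul_index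
    have h3 := L.index_dvd_card
    rw [← e] at h1 hH ⊢
    rw [show Nat.card H = 3 by rw [hH] at h2; rw [show (4 : ℕ).factorial = 24 from rfl] at h1; omega] at h3
    have := (Nat.dvd_prime Nat.prime_three).1 h3
    omega
  haveI := alternatingGroup.isSimpleGroup (α := Ω) e
  obtain ⟨m, hm⟩ : ∃ m, Nat.card Ω = m + 1 := ⟨Nat.card Ω - 1, by omega⟩
  rw [hm] at hH h1 ⊢
  obtain ⟨φ⟩ := alt_of_index hH (by omega) h1
  rw [← index_map_equiv _ φ] at hL ⊢
  exact alt_index_large (by omega) _ hL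

theorem fact_bound {n : ℕ} (hn : 7 ≤ n) : 2 * n < ((n + 1) / 2).factorial := by
  obtain ⟨m, hm⟩ : ∃ m, (n + 1) / 2 = m + 4 := ⟨(n + 1) / 2 - 4, by omega⟩
  have := Nat.factorial_le (show 3 ≤ m + 3 by omega)
  rw [hm, Nat.factorial_succ (m + 3)]
  norm_num [Nat.factorial] at this ⊢
  nlinarith [show n ≤ 2 * (m + 4) by omega]

theorem fix_of_index (hn : 4 ≤ Nat.card Ω) {H : Subgroup (alternatingGroup Ω)} (hH : H.index = Nat.card Ω)
    (h6 : Nat.card Ω ≠ 6 ∨ ∃ g ∈ H, (g : Perm Ω).IsThreeCycle) : ∃ x : Ω, ∀ g : H, g • x = x := by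
  haveI : Nontrivial Ω := Finite.one_lt_card_iff_nontrivial.1 (by omega)
  refine (fix_or_prim_alt hn hH).resolve_right fun hp => ?_
  have h1 := two_mul_nat_card_alternatingGroup (α := Ω)
  have h2 := H.card_mul_index
  have h3 : (toPermHom H Ω).range = H.map (alternatingGroup Ω).subtype := by
    ext g; exact ⟨fun ⟨x, e⟩ => ⟨x, x.2, e⟩, fun ⟨x, hx, e⟩ => ⟨⟨x, hx⟩, e⟩⟩
  have h4 : ¬ alternatingGroup Ω ≤ (toPermHom H Ω).range := fun e => by
    have : H = ⊤ := top_le_iff.1 fun g _ => by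
      obtain ⟨x, hx, e'⟩ := h3.le (e g.2)
      rwa [← Subtype.ext e']
    rw [this, index_top] at hH; omega
  rw [Nat.card_perm, hH] at *
  rcases h6 with h6 | ⟨g, hg, h6⟩
  · by_cases h7 : 7 ≤ Nat.card Ω
    · have := Cfsg.Agent.S3681.result hp h4
      rw [← Nat.card_eq_fintype_card] at this
      have := fact_bound h7
      have := Nat.card_pos (α := H)
      nlinarith
    obtain ⟨a⟩ : Nonempty Ω := inferInstance
    have := index_stabilizer_of_transitive H a ▸ (stabilizer H a).index_dvd_card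
    interval_cases Nat.card Ω <;> simp only [Nat.factorial] at h1 <;> omega
  · refine h4 (Perm.alternatingGroup_le_of_isPreprimitive_of_isThreeCycle_mem ?_ h6 (h3.ge ⟨g, hg, rfl⟩))
    exact IsPreprimitive.of_surjective (φ := (toPermHom H Ω).rangeRestrict) (f := ⟨id, fun _ _ => rfl⟩)
      Function.surjective_id

theorem aut_alt (hn : 4 ≤ Nat.card Ω) (φ : MulAut (alternatingGroup Ω)) (h6 : Nat.card Ω ≠ 6 ∨
    ∃ g : alternatingGroup Ω, (g : Perm Ω).IsThreeCycle ∧ (φ g : Perm Ω).IsThreeCycle) :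
    ∃ σ : Perm Ω, ∀ g, (φ g : Perm Ω) = σ * g * σ⁻¹ := by
  haveI := alternatingGroup.isPretransitive_of_three_le_card Ω (by omega)
  obtain ⟨o, ho⟩ : ∃ o : Ω, Nat.card Ω ≠ 6 ∨ ∃ g ∈ (stabilizer (alternatingGroup Ω) o).map φ.toMonoidHom,
      (g : Perm Ω).IsThreeCycle := by
    rcases h6 with h6 | ⟨g, hg, h6⟩
    · exact ⟨(Nat.card_pos_iff.1 (by omega : 0 < Nat.card Ω)).1.some, Or.inl h6⟩
    obtain ⟨o, -, ho⟩ := Finset.exists_mem_notMem_of_card_lt_card (s := (g : Perm Ω).support) (t := Finset.univ)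
      (by rw [hg.card_support, Finset.card_univ, ← Nat.card_eq_fintype_card]; omega)
    exact ⟨o, Or.inr ⟨_, ⟨g, Perm.notMem_support.1 ho, rfl⟩, h6⟩⟩
  obtain ⟨x, hx⟩ := fix_of_index hn ((index_map_equiv _ φ).trans (index_stabilizer_of_transitive _ o)) ho
  obtain ⟨σ, -, h⟩ := (Cfsg.Agent.S4275.result _ this o φ).2 ⟨x, fun g hg => hx ⟨g, hg⟩⟩
  exact ⟨σ, h⟩

theorem conjNormal_inj (hn : 4 ≤ Nat.card Ω) :
    Function.Injective (MulAut.conjNormal : Perm Ω →* MulAut (alternatingGroup Ω)) := by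
  refine (injective_iff_map_eq_one _).2 fun σ h => Equiv.ext fun x => by_contra fun e => ?_
  obtain ⟨y, -, hy⟩ := Finset.exists_mem_notMem_of_card_lt_card (s := {x, σ x}) (t := Finset.univ) (by
    rw [Finset.card_univ, ← Nat.card_eq_fintype_card]; exact Finset.card_le_two.trans_lt (by omega))
  obtain ⟨z, -, hz⟩ := Finset.exists_mem_notMem_of_card_lt_card (s := {x, σ x, y}) (t := Finset.univ) (by
    rw [Finset.card_univ, ← Nat.card_eq_fintype_card]; exact Finset.card_le_three.trans_lt (by omega))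
  simp only [Finset.mem_insert, Finset.mem_singleton, not_or] at hy hz
  have h1 := DFunLike.congr_fun (congrArg Subtype.val (DFunLike.congr_fun h ⟨swap (σ x) y * swap (σ x) z,
    Perm.mul_mem_alternatingGroup_of_isSwap ⟨_, _, Ne.symm hy.2, rfl⟩ ⟨_, _, Ne.symm hz.2.1, rfl⟩⟩)) (σ x)
  have e' : x ≠ σ x := Ne.symm e
  simp [swap_apply_of_ne_of_ne e' (Ne.symm hy.1), swap_apply_of_ne_of_ne e' (Ne.symm hz.1),
    swap_apply_of_ne_of_ne hz.2.1 hz.2.2] at h1
  exact hz.2.1 h1.symm

/-- extensions of `Aₙ` by a group of order two inducing permutation automorphisms -/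
theorem perm_of_alt [Finite G] (hn : 4 ≤ Nat.card Ω) {M : Subgroup G} [M.Normal] (e : M ≃* alternatingGroup Ω)
    (hM : M.index = 2) (hc : centralizer (M : Set G) = ⊥)
    (h : ∀ g : G, ∃ σ : Perm Ω, ∀ x, (e (MulAut.conjNormal g (e.symm x)) : Perm Ω) = σ * x * σ⁻¹) :
    Nonempty (G ≃* Perm Ω) := by
  haveI : Nontrivial Ω := Finite.one_lt_card_iff_nontrivial.1 (by omega)
  let f : G →* MulAut (alternatingGroup Ω) := (MulAut.congr e).toMonoidHom.comp MulAut.conjNormal
  let f' := (MonoidHom.ofInjective (conjNormal_inj hn)).symm.toMonoidHom.comp (f.codRestrict _ fun g =>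
    let ⟨σ, hσ⟩ := h g; ⟨σ, MulEquiv.ext fun x => Subtype.ext (hσ x).symm⟩)
  refine ⟨MulEquiv.ofBijective f' (Function.Injective.bijective_of_nat_card_le
    ((injective_iff_map_eq_one _).2 fun g hg => ?_) ?_)⟩
  · have h0 : f g = 1 := congrArg Subtype.val
      ((MonoidHom.ofInjective (conjNormal_inj hn)).symm.map_eq_one_iff.1 hg)
    have h1 := (MulAut.congr e).map_eq_one_iff.1 h0
    exact mem_bot.1 (hc.le fun x hx => (mul_inv_eq_iff_eq_mul.1
      (congrArg Subtype.val (DFunLike.congr_fun h1 (⟨x, hx⟩ : M)) : g * x * g⁻¹ = x)).symm)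
  · rw [← two_mul_nat_card_alternatingGroup, ← M.card_mul_index, hM, Nat.card_congr e.toEquiv, mul_comm]

end H8
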