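import Cfsg.Agent.H3.Iso
import Cfsg.Agent.H3.Lift
import Cfsg.Agent.H3.Cong
import Cfsg.Agent.H7.Cop

/-! Products of two involutions; arithmetic for the Brauer–Suzuki–Wall theorem. -/

set_option maxSynthPendingDepth 3

namespace H8

open Subgroup Cfsg H7 H3
open scoped ComplexConjugate

variable {G : Type*} [Group G]

/-- number of ways of writing `x` as a product of two conjugates of `t` -/
noncomputable def nPr (t x : G) : ℕ := Nat.card {u : G // IsConj t u ∧ IsConj t (u⁻¹ * x)}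

theorem nPr_conj (t x g : G) : nPr t (g * x * g⁻¹) = nPr t x := by
  refine Nat.card_congr (Equiv.subtypeEquiv (MulAut.conj g).toEquiv fun u => ?_).symm
  have f : ∀ v, IsConj t (g * v * g⁻¹) ↔ IsConj t v := fun v =>
    ⟨fun h => h.trans (isConj_iff.2 ⟨g, rfl⟩).symm, fun h => h.trans (isConj_iff.2 ⟨g, rfl⟩)⟩
  rw [← f u, ← f (u⁻¹ * x)]
  simp [mul_assoc]

variable [Fintype G]

theorem nPr_eq (t x : G) : (nPr t x : ℂ) = ∑ u, classInd t u * classInd t (u⁻¹ * x) := by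
  classical
  rw [nPr, Nat.card_eq_fintype_card, Fintype.card_subtype, Finset.card_filter, Nat.cast_sum]
  refine Finset.sum_congr rfl fun u _ => ?_
  by_cases h1 : IsConj t u <;> by_cases h2 : IsConj t (u⁻¹ * x) <;> simp [classInd, h1, h2, -isConj_iff]

theorem sum_mul_nPr {ψ : G → ℂ} (hψ : SIrr G ψ) (t : G) :
    ψ 1 * ∑ x, ψ x * nPr t x = ((cen1 t).index * ψ t) ^ 2 := by
  obtain ⟨ε, χ, hε, hχ, rfl⟩ := hψ.exists_sign
  have h1 : ∑ x, χ x * nPr t x = ∑ v, classInd t v * ∑ u, classInd t u * χ (u * v) := by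
    simp only [nPr_eq, Finset.mul_sum]
    rw [Finset.sum_comm, Finset.sum_comm (f := fun v u => classInd t v * (classInd t u * χ (u * v)))]
    refine Finset.sum_congr rfl fun u _ => (Fintype.sum_equiv (Equiv.mulLeft u) _ _ fun v => ?_).symm
    simp only [Equiv.coe_mulLeft, inv_mul_cancel_left]; ring
  have h2 : χ 1 * ∑ x, χ x * nPr t x = ((cen1 t).index * χ t) ^ 2 := by
    rw [h1, Finset.mul_sum]
    simp only [fun v => mul_left_comm (χ 1) (classInd t v), hχ.central_formula (isClassFunction_classInd t),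
      sum_classInd_mul t hχ.isClassFunction]
    rw [Finset.sum_congr rfl fun v _ => mul_left_comm (classInd t v) _ _, ← Finset.mul_sum,
      sum_classInd_mul t hχ.isClassFunction, sq]
  simp only [Pi.smul_apply, smul_eq_mul, mul_assoc ε, ← Finset.mul_sum]
  linear_combination ε ^ 2 * h2

omit [Fintype G] in
theorem nPr_le [Finite G] {t x : G} (ht : t * t = 1) : nPr t x ≤ ord (cen1 x) ∧
    (nPr t x ≠ 0 → ∃ u, IsConj t u ∧ u * x * u⁻¹ = x⁻¹) ∧
    (nPr t x = ord (cen1 x) → ∃ u, IsConj t u ∧ ∀ c ∈ cen1 x, u * c * u⁻¹ = c⁻¹) := by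
  have h1 : ∀ u, IsConj t u → u * u = 1 := fun u hu => by
    obtain ⟨c, rfl⟩ := isConj_iff.1 hu; simp [ht]
  have h2 : ∀ u, IsConj t u ∧ IsConj t (u⁻¹ * x) → u * x * u⁻¹ = x⁻¹ := fun u hu => by
    have := h1 _ hu.2
    rw [inv_eq_of_mul_eq_one_right (h1 u hu.1)] at this ⊢
    exact eq_inv_of_mul_eq_one_left (by rw [← this]; group)
  rcases isEmpty_or_nonempty {u : G // IsConj t u ∧ IsConj t (u⁻¹ * x)} with h | ⟨⟨u, hu⟩⟩
  · have : nPr t x = 0 := Nat.card_of_isEmpty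
    exact ⟨by omega, fun h => (h this).elim, fun h => absurd (this ▸ h) (card_pos' _).ne⟩
  let f : {u : G // IsConj t u ∧ IsConj t (u⁻¹ * x)} → cen1 x := fun v => ⟨u⁻¹ * v, mem_cen1.2 (by
    calc _ = u⁻¹ * (v * x * v.1⁻¹) * v := by group
      _ = u⁻¹ * (u * x * u⁻¹)⁻¹⁻¹ * v := by rw [h2 _ v.2, h2 _ hu, inv_inv]
      _ = _ := by group)⟩
  have hf : Function.Injective f := fun v w h => Subtype.ext (mul_left_cancel (congrArg Subtype.val h))
  refine ⟨Nat.card_le_card_of_injective f hf, fun _ => ⟨u, hu.1, h2 u hu⟩, fun h => ⟨u, hu.1, fun c hc => ?_⟩⟩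
  obtain ⟨v, hv⟩ := ((Nat.bijective_iff_injective_and_card f).2 ⟨hf, h⟩).2 ⟨c, hc⟩
  obtain rfl : u⁻¹ * v = c := congrArg Subtype.val hv
  rw [mul_inv_rev, inv_eq_of_mul_eq_one_right (h1 _ v.2.1), inv_inv, mul_inv_cancel_left,
    inv_eq_of_mul_eq_one_right (h1 u hu.1)]

theorem klein_bound {n a b c : ℤ} (hn : 0 < n) (ha : a % 4 = 1) (hb : b % 4 = 1) (hc : c % 4 = 1)
    (hs : 1 + a + b + c = 0) (h : n * (a * b * c + b * c + a * c + a * b) = 8 * (a * b * c)) :
    n < 27 := by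
  have f : ∀ a : ℤ, a % 4 = 1 → 2 * |a| ≤ 3 * |a + 1| ∧ 0 < |a + 1| ∧
      (a ≠ -3 → 2 * |a| < 3 * |a + 1|) := fun a ha => by
    rcases abs_cases a with h | h <;> rcases abs_cases (a + 1) with h' | h' <;> omega
  have e : n * (|a + 1| * |b + 1| * |c + 1|) = 2 * |a| * (2 * |b|) * (2 * |c|) := by
    have : n * ((a + 1) * (b + 1) * (c + 1)) = 8 * (a * b * c) := by linear_combination h + n * hs
    have := congrArg abs this
    simp only [abs_mul, abs_of_pos hn] at this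
    rw [this, show |(8 : ℤ)| = 8 from rfl]; ring
  obtain ⟨a1, a2, a3⟩ := f a ha
  obtain ⟨b1, b2, b3⟩ := f b hb
  obtain ⟨c1, c2, c3⟩ := f c hc
  have : 2 * |a| * (2 * |b|) * (2 * |c|) < 3 * |a + 1| * (3 * |b + 1|) * (3 * |c + 1|) := by
    by_cases h1 : a = -3
    · by_cases h2 : b = -3
      · exact mul_lt_mul' (by gcongr) (c3 (by omega)) (by positivity) (by positivity)
      · exact mul_lt_mul (mul_lt_mul' a1 (b3 h2) (by positivity) (by positivity)) c1
          (by have : c ≠ 0 := by omega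
              positivity) (by positivity)
    · have : c ≠ 0 := by omega
      have : b ≠ 0 := by omega
      exact mul_lt_mul (mul_lt_mul (a3 h1) b1 (by positivity) (by positivity)) c1
          (by positivity) (by positivity)
  by_contra hh
  have : 27 * (|a + 1| * |b + 1| * |c + 1|) ≤ n * (|a + 1| * |b + 1| * |c + 1|) := by
    gcongr; omega
  linarith

theorem klein_eq {n a b c : ℤ} (hn : 0 < n) (ha : a % 4 = 1) (hb : b % 4 = 1) (hc : c % 4 = 1)
    (hs : 1 + a + b + c = 0) (h : n * (a * b * c + b * c + a * c + a * b) = 8 * (a * b * c))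
    (da : a ∣ 4 * n) (db : b ∣ 4 * n) : a = b ∨ b = c ∨ a = c := by
  have h1 := klein_bound hn ha hb hc hs h
  have f : ∀ a : ℤ, a % 4 = 1 → a ∣ 4 * n → a ∣ n ∧ -27 < a ∧ a < 27 := fun a ha hd => by
    have : a ∣ n := (Int.isCoprime_iff_gcd_eq_one.2 (by
      rw [← Int.gcd_emod, ha]; rfl)).dvd_of_dvd_mul_left hd
    have := Int.le_of_dvd hn ((abs_dvd _ _).2 this)
    exact ⟨‹_›, by rcases abs_cases a with h | h <;> omega⟩
  obtain ⟨a1, a2, a3⟩ := f a ha da
  obtain ⟨b1, b2, b3⟩ := f b hb db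
  obtain rfl : c = -1 - a - b := by omega
  obtain ⟨a, rfl⟩ : ∃ k, a = 4 * k + 1 := ⟨a / 4, by omega⟩
  obtain ⟨b, rfl⟩ : ∃ k, b = 4 * k + 1 := ⟨b / 4, by omega⟩
  have : -7 ≤ a := by omega
  have : a ≤ 6 := by omega
  have : -7 ≤ b := by omega
  have : b ≤ 6 := by omega
  interval_cases a <;> interval_cases b <;> omega

end H8
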