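import Cfsg.Agent.H8.BSW9

/-! Involution centraliser dihedral of order 8: the mixed case. -/

namespace H8

open Subgroup Cfsg H7 Equiv

variable {G : Type*} [Group G] [Finite G] {t s a x g u v : G} {S H O M Q : Subgroup G} {n : ℕ}

omit [Finite G] in
theorem cen1_coe (x : M) : cen1 x = (cen1 (x : G)).subgroupOf M := by
  ext y; simp only [mem_subgroupOf, mem_cen1, Subtype.ext_iff, coe_mul]

omit [Finite G] in
theorem syl_sub {p : ℕ} (h : IsSylowIn p (S ⊓ M) M) : IsSylowIn p (S.subgroupOf M) ⊤ :=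
  ⟨le_top, inf_subgroupOf_right S M ▸ h.isPGroup.comap_subtype, by
    rw [relIndex_top_right, ← inf_subgroupOf_right]; exact h.not_dvd⟩

omit [Finite G] in
theorem cen_inf_eq_bot {Ω : Type*} [Fintype Ω] [DecidableEq Ω] (hn : 4 ≤ Nat.card Ω) (e : M ≃* alternatingGroup Ω)
    (hx : x ∈ cen M) (hM : x ∈ M) : x = 1 := by
  have : e ⟨x, hM⟩ ∈ center (alternatingGroup Ω) := mem_center_iff.2 fun g => by
    obtain ⟨y, rfl⟩ := e.surjective g
    rw [← map_mul, ← map_mul]; exact congrArg e (Subtype.ext (hx y y.2))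
  rw [alternatingGroup.center_eq_bot hn, mem_bot, e.map_eq_one_iff] at this
  exact congrArg Subtype.val this

theorem perm_of_alt' {Ω : Type*} [Fintype Ω] [DecidableEq Ω] (hn : 4 ≤ Nat.card Ω) (h6 : Nat.card Ω ≠ 6) [M.Normal]
    (e : M ≃* alternatingGroup Ω) (hM : M.index = 2) (hc : cen M = ⊥) : Nonempty (G ≃* Perm Ω) :=
  perm_of_alt hn e hM hc fun g => aut_alt hn (MulAut.congr e (MulAut.conjNormal g)) (Or.inl h6)

theorem d8_mixed (h : Dih (cen1 t) a s) (ht : t ∈ zpowers a) (h2 : t * t = 1) (h1 : t ≠ 1) (ha : orderOf a = 4)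
    (hS : IsSylowIn 2 (cen1 t) ⊤) (hs : ¬ IsConj s t) (hs' : IsConj (s * a) t) :
    Op' 2 ⊤ ⊔ cen1 t = ⊤ ∨ Nonempty (G ≃* Perm (Fin 4)) ∨ Nonempty (G ≃* Perm (Fin 5)) := by
  obtain ⟨M, -, m1, m2⟩ := h.transfer hS ht h2 h1 fun g _ e => hs (isConj_iff.2 ⟨g, e⟩)
  rw [relIndex_top_right] at m1
  haveI := normal_of_index_eq_two m1
  have a2 : a * a ≠ 1 := fun e => by
    have := orderOf_dvd_of_pow_eq_one ((pow_two a).trans e); rw [ha] at this; omega
  have a4 : ∀ d ∈ zpowers a, d * d * (d * d) = 1 := fun d hd => by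
    have := orderOf_dvd_iff_pow_eq_one.1 (orderOf_dvd_card' hd)
    rw [Nat.card_zpowers, ha] at this; rw [← this]; simp [pow_succ, mul_assoc]
  have tM : t ∈ M := invol_zpowers (mul_mem (mem_zpowers a) (mem_zpowers a)) ht (a4 a (mem_zpowers a)) h2 a2 h1 ▸
    mul_self_mem_of_index_two m1 a
  have saM : s * a ∈ M := by obtain ⟨g, rfl⟩ := isConj_iff.1 hs'; simpa [mul_assoc] using (normal_of_index_eq_two m1).mem_comm tM
  have hV : ∀ c ∈ cen1 t ⊓ M, c * c = 1 := fun c hc => ((h.mem c).1 hc.1).elim (fun e => by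
    obtain ⟨d, hd, e | e⟩ := h.refl_cases (g := s * c) (by rwa [← mul_assoc, h.s2, one_mul])
    · rw [mul_left_cancel e]; exact a4 d hd
    · exact (m2 ((mul_mem_cancel_right (mem_inf.1 hc).2).1 (e ▸ mul_mem saM (mul_self_mem_of_index_two m1 d)))).elim)
    fun e => (h.out e).2.1
  have h4 : ord (cen1 t ⊓ M : Subgroup G) = 4 := by
    have h5 := relIndex_mul_card' (inf_le_left : cen1 t ⊓ M ≤ _)
    rcases (Nat.dvd_prime Nat.prime_two).1 (m1 ▸ relIndex_dvd_index_of_normal M (cen1 t)) with e | e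
    · exact (m2 (relIndex_eq_one.1 e h.sS)).elim
    · rw [inf_relIndex_left, e, h.card, ha] at h5; omega
  have hc : cen M ≤ M := fun c hc => by_contra fun e => a2 (by
    have h5 : c⁻¹ * s ∈ cen1 t ⊓ M := mem_inf.2 ⟨mul_mem (inv_mem (mem_cen1.2 (hc t tM).symm)) h.sS, by
      rw [mul_mem_iff_of_index_two m1, inv_mem_iff]; tauto⟩
    have h6 := comm_of_inv (s := 1) (fun k hk => by simpa [eq_inv_iff_mul_eq_one] using hV k hk) h5
      (show s * a ∈ cen1 t ⊓ M from ⟨mul_mem h.sS h.aS, saM⟩)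
    rw [← mul_assoc (s * a), (show Commute (s * a) c from hc _ saM).inv_right.eq, mul_assoc, mul_assoc c⁻¹,
      mul_right_inj, mul_assoc, mul_right_inj] at h6
    rw [mul_eq_one_iff_eq_inv, ← h.inv, h6, mul_inv_cancel_right])
  rcases v4_main (t := (⟨t, tM⟩ : M)) (by rw [cen1_coe, H1.card_subgroupOf, h4])
    (fun c hc => Subtype.ext (hV c ⟨(cen1_coe _).le hc, c.2⟩)) (fun e => h1 (congrArg Subtype.val e))
    (by rw [cen1_coe]; exact syl_sub (syl_inf hS le_top (le_nrm_of_normal _ _))) with e | ⟨-, ⟨-, ⟨e⟩⟩ | ⟨-, ⟨e⟩⟩⟩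
  · have h5 := congrArg (map M.subtype) e
    rw [Subgroup.map_sup, map_Opi_of_inj _ M.subtype_injective, ← MonoidHom.range_eq_map, range_subtype,
      cen1_coe, subgroupOf_map_subtype] at h5
    have h6 : M ≤ Op' 2 ⊤ ⊔ cen1 t :=
      h5.ge.trans (sup_le_sup (Opi_le_of_normal _ le_top (le_nrm_of_normal _ _)) inf_le_left)
    exact Or.inl ((H1.eq_or_eq_of_index_prime (m1 ▸ Nat.prime_two) h6).resolve_left fun e =>
      m2 (e.le (mem_sup_right h.sS)))
  · exact Or.inr (Or.inl (perm_of_alt' (by simp) (by simp) e m1 (eq_bot_iff.2 fun c h =>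
      cen_inf_eq_bot (by simp) e h (hc h))))
  · exact Or.inr (Or.inr (perm_of_alt' (by simp) (by simp) e m1 (eq_bot_iff.2 fun c h =>
      cen_inf_eq_bot (by simp) e h (hc h))))

end H8
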