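import Cfsg.Agent.H8.BSW1

/-! Brauer–Suzuki–Wall: the set-up and the exceptional characters. -/

set_option maxSynthPendingDepth 3

namespace H8

open Subgroup Cfsg H7 H3
open scoped ComplexConjugate

variable {G : Type*} [Group G] {t s x g : G} {K : Subgroup G}

/-- the Brauer–Suzuki–Wall configuration -/
structure BSW (t s : G) (K : Subgroup G) : Prop where
  t1 : t ≠ 1
  t2 : t * t = 1
  comm : ∀ a ∈ K, ∀ b ∈ K, a * b = b * a
  tK : t ∈ K
  s2 : s * s = 1
  sK : s ∉ K
  cen_iff : ∀ g, g ∈ cen1 t ↔ g ∈ K ∨ s * g ∈ K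
  inv : ∀ x ∈ K, s * x * s⁻¹ = x⁻¹
  sq : ∀ x ∈ K, x * x = 1 → x = 1 ∨ x = t
  ti : ∀ g, ∀ x ∈ K, x ≠ 1 → g * x * g⁻¹ ∈ K → g ∈ cen1 t
  cls : ∀ u, u ≠ 1 → u * u = 1 → IsConj t u

/-- `x` is conjugate into `K` -/
def InK (K : Subgroup G) (x : G) : Prop := ∃ g, g * x * g⁻¹ ∈ K

theorem InK.of_conj {y : G} (h : InK K y) (e : IsConj x y) : InK K x := by
  obtain ⟨c, rfl⟩ := isConj_iff.1 e
  obtain ⟨g, hg⟩ := h
  exact ⟨g * c, by simpa [mul_assoc] using hg⟩

theorem inK_of_mem (h : x ∈ K) : InK K x := ⟨1, by simpa using h⟩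

theorem sq_of_isConj {u : G} (ht : t * t = 1) (h : IsConj t u) : u * u = 1 := by
  obtain ⟨c, rfl⟩ := isConj_iff.1 h; simp [ht]

theorem ne_one_of_isConj {u : G} (ht : t ≠ 1) (h : IsConj t u) : u ≠ 1 := by
  obtain ⟨c, rfl⟩ := isConj_iff.1 h; simpa using ht

namespace BSW
variable (h : BSW t s K)
include h

theorem sinv : s⁻¹ = s := inv_eq_of_mul_eq_one_right h.s2

theorem out (hg : s * g ∈ K) : g ∉ K ∧ IsConj t g ∧ ∀ x ∈ K, g * x * g⁻¹ = x⁻¹ := by
  have h1 : g ∉ K := fun e => h.sK ((mul_mem_cancel_right e).1 hg)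
  obtain ⟨y, rfl⟩ : ∃ y, g = s * y := ⟨s * g, by rw [← mul_assoc, h.s2, one_mul]⟩
  rw [← mul_assoc, h.s2, one_mul] at hg
  refine ⟨h1, h.cls _ (fun e => h1 (e ▸ one_mem _)) ?_, fun x hx => ?_⟩
  · have := h.inv y hg
    rw [h.sinv] at this
    rw [← mul_assoc, this]; simp
  · rw [← h.inv x hx, mul_assoc s y, h.comm y hg x hx]; group

theorem le_cen : K ≤ cen1 t := fun _ hx => (h.cen_iff _).2 (Or.inl hx)

theorem inK_of_cen (hx : x ∈ cen1 t) : InK K x :=
  ((h.cen_iff x).1 hx).elim inK_of_mem fun e => (inK_of_mem h.tK).of_conj (h.out e).2.1.symm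

theorem inK_of_comm {y : G} (hy : InK K y) (hy1 : y ≠ 1) (e : x * y = y * x) : InK K x := by
  obtain ⟨g, hg⟩ := hy
  refine (h.inK_of_cen (h.ti (g * x * g⁻¹) _ hg (by simpa using hy1) ?_)).of_conj (isConj_iff.2 ⟨g, rfl⟩)
  rwa [show g * x * g⁻¹ * (g * y * g⁻¹) * (g * x * g⁻¹)⁻¹ = g * (x * y * x⁻¹) * g⁻¹ by group, e,
    mul_inv_cancel_right]

theorem relIndex_eq : K.relIndex (cen1 t) = 2 :=
  index_eq_two_iff'.2 ⟨⟨s, (h.cen_iff s).2 (Or.inr (h.s2 ▸ one_mem _))⟩, fun b =>
    ((h.cen_iff b).1 b.2).elim (fun e => Or.inr ⟨e, fun e' => (h.out e').1 e⟩)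
      fun e => Or.inl ⟨e, (h.out e).1⟩⟩

theorem card_cen [Finite G] : ord (cen1 t) = 2 * ord K := by
  rw [← relIndex_mul_card' h.le_cen, h.relIndex_eq]

theorem card_G [Finite G] : Nat.card G = 2 * ord K * (cen1 t).index := by
  rw [← h.card_cen, card_mul_index]

theorem nPr_K (hx : x ∈ K) (hx1 : x ≠ 1) : nPr t x = ord K := by
  refine Nat.card_congr (Equiv.subtypeEquiv (Equiv.mulLeft s) fun u => ⟨fun hu => ?_, fun hu => ?_⟩)
  · have h1 := sq_of_isConj h.t2 hu.1
    have h2 := sq_of_isConj h.t2 hu.2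
    rw [inv_eq_of_mul_eq_one_right h1] at h2 hu
    have h3 : u * x * u⁻¹ = x⁻¹ := by
      rw [inv_eq_of_mul_eq_one_right h1]; exact eq_inv_of_mul_eq_one_left (by rw [← h2]; group)
    refine ((h.cen_iff u).1 (h.ti u x hx hx1 (h3 ▸ inv_mem hx))).resolve_left fun e => hx1 ?_
    obtain rfl := (h.sq u e h1).resolve_left (ne_one_of_isConj h.t1 hu.1)
    simpa using (h.sq _ (mul_mem h.tK hx) h2).resolve_left (ne_one_of_isConj h.t1 hu.2)
  · have h1 := (h.out hu).2.1
    refine ⟨h1, (h.out ?_).2.1⟩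
    rw [inv_eq_of_mul_eq_one_right (sq_of_isConj h.t2 h1), ← mul_assoc]
    exact mul_mem hu hx

variable [Fintype G]

theorem ind_apply {f : K → ℂ} (hf : f 1 = 0) (x : K) : indFun K f x = f x + f x⁻¹ := by
  classical
  by_cases hx : x = 1
  · subst hx; simp [indFun_one, hf]
  have hx1 : (x : G) ≠ 1 := fun e => hx (Subtype.ext e)
  have h1 : ∀ g : G, extendByZero K f (g * x * g⁻¹) =
      (if g ∈ K then f x else 0) + if s * g ∈ K then f x⁻¹ else 0 := fun g => by
    by_cases h1 : g ∈ K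
    · rw [if_pos h1, if_neg fun e => (h.out e).1 h1, h.comm g h1 x x.2]; simp [ext0_coe]
    by_cases h2 : s * g ∈ K
    · rw [if_neg h1, if_pos h2, (h.out h2).2.2 x x.2, zero_add]; exact ext0_coe f x⁻¹
    rw [if_neg h1, if_neg h2, ext0_of_not_mem _ fun e => ((h.cen_iff g).1 (h.ti g x x.2 hx1 e)).elim h1 h2,
      add_zero]
  have h2 : ∀ c : ℂ, ∑ g : G, (if g ∈ K then c else 0) = ord K * c := fun c => by
    rw [← Finset.sum_filter, Finset.sum_const, Nat.card_eq_fintype_card, Fintype.card_subtype]; simp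
  rw [indFun_apply', Finset.sum_congr rfl fun g _ => h1 g, Finset.sum_add_distrib, h2,
    Fintype.sum_equiv (Equiv.mulLeft s) (fun g => if s * g ∈ K then f x⁻¹ else 0)
      (fun g => if g ∈ K then f x⁻¹ else 0) fun _ => rfl, h2]
  have := card_ne_zero K
  field_simp

end BSW

/-- complex conjugate of an irreducible character -/
def bar {K : Type*} [Group K] [Finite K] (l : IrrCharacter K) : IrrCharacter K :=
  ⟨fun x => conj (l.1 x), l.2.conj⟩

/-- the trivial character -/
def one' (K : Type*) [Group K] : IrrCharacter K := ⟨fun _ => 1, isIrrCharacter_one⟩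

variable [Fintype G]

/-- the induced virtual character `(1 - λ)^G` -/
noncomputable def th (K : Subgroup G) (l : IrrCharacter K) : G → ℂ := indFun K ((one' K).1 - l.1)

theorem th_gen (l : IrrCharacter K) : IsGeneralizedCharacter G (th K l) :=
  ((one' K).2.isGen.sub l.2.isGen).ind

theorem th_of_not_inK (l : IrrCharacter K) (hx : ¬ InK K x) : th K l x = 0 :=
  indFun_eq_zero_of_not_conj K _ fun g hg => hx ⟨g, hg⟩

theorem bar_bar {K : Type*} [Group K] [Finite K] (l : IrrCharacter K) : bar (bar l) = l :=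
  Subtype.ext (funext fun x => by simp [bar])

theorem bar_one {K : Type*} [Group K] [Finite K] : bar (one' K) = one' K :=
  Subtype.ext (funext fun x => by simp [bar, one'])

namespace BSW
variable (h : BSW t s K)
include h

theorem commK (a b : K) : a * b = b * a := Subtype.ext (h.comm a a.2 b b.2)

theorem deg (l : IrrCharacter K) : l.1 1 = 1 := l.2.deg_eq_one_of_comm h.commK

theorem th_apply (l : IrrCharacter K) (x : K) : th K l x = 2 - l.1 x - (bar l).1 x := by
  rw [th, h.ind_apply (by simp [one', h.deg])]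
  simp only [one', bar, Pi.sub_apply, l.2.isCharacter.map_inv]; ring

theorem th_one (l : IrrCharacter K) : th K l 1 = 0 := by
  have := h.th_apply l 1
  rw [h.deg, h.deg] at this
  exact this.trans (by norm_num)

theorem val_t (l : IrrCharacter K) : (l.1 ⟨t, h.tK⟩ = 1 ∨ l.1 ⟨t, h.tK⟩ = -1) ∧
    th K l t = 2 - 2 * l.1 ⟨t, h.tK⟩ := by
  have h1 : l.1 ⟨t, h.tK⟩ = 1 ∨ l.1 ⟨t, h.tK⟩ = -1 := mul_self_eq_one_iff.1 (by
    rw [← l.2.isCharacter.map_mul_of_deg_one (h.deg l), ← h.deg l]; exact congrArg l.1 (Subtype.ext h.t2))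
  refine ⟨h1, (h.th_apply l ⟨t, h.tK⟩).trans ?_⟩
  rcases h1 with e | e <;> simp [bar, e] <;> norm_num

open Classical in
theorem ip_th {l m : IrrCharacter K} (hl : l ≠ one' K) (hm : m ≠ one' K) :
    ip (th K l) (th K m) = 2 + (if l = m then 1 else 0) + (if l = bar m then 1 else 0) := by
  have e : (fun x : K => th K m x) = ((one' K).1 - m.1) + ((one' K).1 - (bar m).1) := by
    funext x; rw [h.th_apply]; simp [one']; ring
  have hm' : bar m ≠ one' K := fun e => hm (by rw [← bar_bar m, e, bar_one])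
  have f : ∀ a b : IrrCharacter K, ip a.1 b.1 = if a = b then 1 else 0 := fun a b => by
    rw [a.2.ip_eq_ite b.2]; simp [Subtype.ext_iff]
  rw [th, ip_indFun_left _ _ (th_gen m).isClassFunction, e]
  simp only [ip_add_right, ip_sub_left, ip_sub_right, f, if_neg hl, if_neg hm.symm, if_neg hm'.symm]
  simp; ring

theorem ip_th_one {l : IrrCharacter K} (hl : l ≠ one' K) : ip (th K l) (one' G).1 = 1 := by
  classical
  rw [th, ip_indFun_left _ _ (one' G).2.isClassFunction, ip_sub_left]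
  change ip _ (one' K).1 - ip _ (one' K).1 = 1
  rw [(one' K).2.ip_self, l.2.ip_of_ne (one' K).2 fun e => hl (Subtype.ext e), sub_zero]

theorem sum_th_nPr {l : IrrCharacter K} (hl : l ≠ one' K) :
    ∑ x, th K l x * nPr t x = Nat.card G * ord K := by
  classical
  have h1 := card_mul_inner (th K l) fun x => nPr t x
  simp only [map_natCast] at h1
  rw [← h1, th, inner_indFun_left _ _ fun g x => by rw [nPr_conj]]
  have : classInner ((one' K).1 - l.1) (fun x : K => (nPr t x : ℂ)) =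
      classInner ((one' K).1 - l.1) ((ord K : ℂ) • (one' K).1) := by
    unfold classInner
    congr 1
    refine Finset.sum_congr rfl fun x _ => ?_
    by_cases hx : x = 1
    · subst hx; simp [one', h.deg]
    · simp [h.nPr_K x.2 fun e => hx (Subtype.ext e), one']
  rw [this, H3.inner_smul_right, H3.inner_sub_left, (one' K).2.inner_self,
    l.2.inner_of_ne (one' K).2 fun e => hl (Subtype.ext e)]
  simp

theorem exists_real : ∃ l₀ : IrrCharacter K, l₀ ≠ one' K ∧ bar l₀ = l₀ ∧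
    ∀ l, bar l = l → l = one' K ∨ l = l₀ := by
  classical
  have h1 : ((Finset.univ.filter fun l : IrrCharacter K => bar l = l).card : ℂ) = 2 := by
    rw [Finset.card_filter, Nat.cast_sum]
    have e1 : ∀ l : IrrCharacter K, (((if bar l = l then 1 else 0 : ℕ)) : ℂ) =
        (ord K : ℂ)⁻¹ * ∑ x, l.1 x⁻¹ * conj (l.1 x) := fun l => by
      simp only [l.2.isCharacter.map_inv]
      refine Eq.trans ?_ (show classInner (bar l).1 l.1 = _ from rfl)
      rw [inner_irr]; simp
    simp only [e1]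
    rw [← Finset.mul_sum, Finset.sum_comm]
    have e2 : ∀ x : K, ∑ l : IrrCharacter K, l.1 x⁻¹ * conj (l.1 x) =
        if x ∈ ({1, ⟨t, h.tK⟩} : Finset K) then (ord K : ℂ) else 0 := fun x => by
      rw [column_orthogonality, show cen1 x⁻¹ = ⊤ from eq_top_iff.2 fun y _ => mem_cen1.2 (h.commK _ _), card_top]
      refine @if_congr _ _ _ (_) (_) _ _ _ _ ⟨fun e => ?_, fun e => ?_⟩ rfl rfl
      · obtain ⟨c, hc⟩ := isConj_iff.1 e
        rw [h.commK c, mul_inv_cancel_right, inv_eq_iff_mul_eq_one] at hc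
        rw [Finset.mem_insert, Finset.mem_singleton, Subtype.ext_iff, Subtype.ext_iff]
        exact h.sq x x.2 (congrArg Subtype.val hc)
      · rw [inv_eq_of_mul_eq_one_right (b := x)]
        rcases Finset.mem_insert.1 e with rfl | e
        · simp
        · rw [Finset.mem_singleton.1 e]; exact Subtype.ext h.t2
    rw [Finset.sum_congr rfl fun x _ => e2 x, Finset.sum_ite_mem, Finset.univ_inter, Finset.sum_const,
      Finset.card_pair fun e => h.t1 (congrArg Subtype.val e).symm]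
    have := card_ne_zero K
    simp; field_simp
  obtain ⟨a, b, hab, e⟩ := Finset.card_eq_two.1 (by exact_mod_cast h1 :
    (Finset.univ.filter fun l : IrrCharacter K => bar l = l).card = 2)
  have h2 : ∀ l, bar l = l ↔ l = a ∨ l = b := fun l => by simpa using Finset.ext_iff.1 e l
  rcases (h2 _).1 bar_one with e | e
  · exact ⟨b, e ▸ hab.symm, (h2 _).2 (Or.inr rfl), fun l hl => e ▸ (h2 l).1 hl⟩
  · exact ⟨a, e ▸ hab, (h2 _).2 (Or.inl rfl), fun l hl => e ▸ ((h2 l).1 hl).symm⟩

theorem val2 {l₀ : IrrCharacter K} (h0 : l₀ ≠ one' K) (h2 : ∀ l, bar l = l → l = one' K ∨ l = l₀)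
    {ψ : G → ℂ} (hψ : IsGeneralizedCharacter G ψ) {a b : ℝ} (ha : ip ψ (th K l₀) = a)
    (hb : ∀ l, bar l ≠ l → ip ψ (th K l) = b) {z : K} (hz : z ≠ 1) :
    ψ z = b * (1 + l₀.1 z) - a * l₀.1 z := by
  classical
  have e0 : ∑ l : IrrCharacter K, l.1 z = 0 := by simpa [h.deg] using sum_deg_mul_eq_zero hz
  have e1 := (hψ.isClassFunction.res K).apply_eq_sum z
  have e2 : ∀ l : IrrCharacter K, classInner (fun x : K => ψ x) l.1 =
      classInner (fun x : K => ψ x) (one' K).1 - ip ψ (th K l) := fun l => by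
    rw [← hψ.inner_eq_ip (th_gen l), th, inner_indFun_right _ _ hψ.isClassFunction, H3.inner_sub_right]; ring
  have e3 : ∀ l : IrrCharacter K, (ip ψ (th K l) : ℂ) * l.1 z = b * l.1 z -
      (if l = one' K then (b : ℂ) else 0) + if l = l₀ then (a - b) * l₀.1 z else 0 := fun l => by
    by_cases e : l = one' K
    · subst e; rw [if_neg h0.symm]; simp [th, indFun_zero, ip_zero_right, one']
    by_cases e' : l = l₀
    · subst e'; simp [ha, e]; ring
    · simp [hb l fun h => (h2 l h).elim e e', e, e']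
  rw [Finset.sum_congr rfl fun l _ => by rw [e2 l, sub_mul, e3 l]] at e1
  simp only [Finset.sum_sub_distrib, Finset.sum_add_distrib, ← Finset.mul_sum, e0] at e1
  rw [e1, Finset.sum_ite_eq', Finset.sum_ite_eq', if_pos (Finset.mem_univ _), if_pos (Finset.mem_univ _)]
  ring

end BSW

end H8
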