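import Cfsg.Agent.H8.BSW2

/-! Brauer–Suzuki–Wall: the characters `a, c, d` and the order of the group. -/

set_option maxSynthPendingDepth 3

namespace H8

open Subgroup Cfsg H7 H3
open scoped ComplexConjugate

variable {G : Type*} [Group G] [Fintype G] {t s x g : G} {K : Subgroup G} {a b c d e : G → ℂ}
  {l m l₀ : IrrCharacter K}

theorem ip_zero_of_add (ha : SIrr G a) (he : SIrr G e) (h : ip a b = 0) (h' : ip (a + b) e = 0) :
    ip a e = 0 := by
  rcases ha.ip_cases he with ⟨rfl, h1⟩ | ⟨rfl, h1⟩ | h1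
  · rw [ip_add_left, h1, ip_comm, h] at h'; norm_num at h'
  · rw [ip_add_left, h1, ip_comm b, ← neg_neg (ip e b), ← ip_neg_left, h] at h'; norm_num at h'
  · exact h1

/-- decomposition of `(1 - λ₀)^G` -/
structure Dec (l₀ : IrrCharacter K) (a c d : G → ℂ) : Prop where
  ne : l₀ ≠ one' K
  real : bar l₀ = l₀
  uniq : ∀ l, bar l = l → l = one' K ∨ l = l₀
  sa : SIrr G a
  sc : SIrr G c
  sd : SIrr G d
  ac : ip a c = 0
  ad : ip a d = 0
  cd : ip c d = 0
  a1 : ip a (one' G).1 = 0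
  c1 : ip c (one' G).1 = 0
  d1 : ip d (one' G).1 = 0
  eq : th K l₀ = (one' G).1 + a + c + d

theorem Dec.swap (h : Dec l₀ a c d) : Dec l₀ c a d :=
  ⟨h.ne, h.real, h.uniq, h.sc, h.sa, h.sd, ip_comm a c ▸ h.ac, h.cd, h.ad, h.c1, h.a1, h.d1,
    by rw [h.eq]; abel⟩

theorem Dec.swap' (h : Dec l₀ a c d) : Dec l₀ a d c :=
  ⟨h.ne, h.real, h.uniq, h.sa, h.sd, h.sc, h.ad, h.ac, ip_comm c d ▸ h.cd, h.a1, h.d1, h.c1,
    by rw [h.eq]; abel⟩

theorem Dec.ip_a (h : Dec l₀ a c d) : ip a (th K l₀) = 1 := by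
  rw [h.eq]; simp [ip_add_right, h.a1, h.ac, h.ad, h.sa.ip_self]

theorem ne_one_of_bar (hl : bar l ≠ l) : l ≠ one' K := fun e => hl (e ▸ bar_one)

theorem ip_one_one : ip (one' G).1 (one' G).1 = 1 := (one' G).2.ip_self

namespace BSW
variable (h : BSW t s K)
include h

theorem exists_dec : ∃ (l₀ : IrrCharacter K) (a c d : G → ℂ), Dec l₀ a c d := by
  obtain ⟨l₀, h0, h1, h2⟩ := h.exists_real
  have e1 := h.ip_th_one h0
  obtain ⟨a, c, d, ha, hc, hd, h3, h4, h5, e⟩ := ((th_gen l₀).sub (one' G).2.isGen).exists_of_ip_three (by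
    rw [ip_sub_left, ip_sub_right, ip_sub_right, h.ip_th h0 h0, ip_comm (one' G).1, e1, ip_one_one, h1]
    norm_num)
  have e2 : ip (a + c + d) (one' G).1 = 0 := by rw [← e, ip_sub_left, e1, ip_one_one, sub_self]
  refine ⟨l₀, a, c, d, h0, h1, h2, ha, hc, hd, h3, h4, h5,
    ip_zero_of_add (b := c + d) ha (one' G).2.sirr (by rw [ip_add_right, h3, h4, add_zero]) (by rwa [← add_assoc]),
    ip_zero_of_add (b := a + d) hc (one' G).2.sirr (by rw [ip_add_right, ip_comm, h3, h5, add_zero])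
      (by rwa [← add_assoc, add_comm c]),
    ip_zero_of_add (b := a + c) hd (one' G).2.sirr
      (by rw [ip_add_right, ip_comm, h4, ip_comm, h5, add_zero]) (by rwa [add_comm]), ?_⟩
  rw [add_assoc, add_assoc, ← add_assoc a, ← e]; abel

theorem th_bar (l : IrrCharacter K) : th K (bar l) = th K l := by
  classical
  refine (th_gen _).isClassFunction.ext_inner (th_gen _).isClassFunction fun χ hχ => ?_
  have f : ∀ l : IrrCharacter K, classInner (th K l) χ =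
      (ord K : ℂ)⁻¹ * ∑ x : K, (1 - l.1 x) * conj (χ x) := fun l =>
    inner_indFun_left _ _ hχ.isClassFunction
  rw [f, f]
  congr 1
  refine Fintype.sum_equiv (Equiv.inv K) _ _ fun x => ?_
  rw [Equiv.inv_apply, l.2.isCharacter.map_inv, coe_inv, ← h.inv x x.2, hχ.isClassFunction]; rfl

theorem ip_th_self (hl : bar l ≠ l) : ip (th K l) (th K l) = 3 := by
  rw [h.ip_th (ne_one_of_bar hl) (ne_one_of_bar hl), if_pos rfl, if_neg hl.symm]; norm_num

theorem ip_th_real (hd : Dec l₀ a c d) (hl : bar l ≠ l) : ip (th K l) (th K l₀) = 2 := by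
  have : l ≠ l₀ := fun e => hl (e ▸ hd.real)
  rw [h.ip_th (ne_one_of_bar hl) hd.ne, hd.real, if_neg this]; norm_num

theorem tri (hd : Dec l₀ a c d) (hl : bar l ≠ l) :
    (ip a (th K l) = 1 ∧ ip c (th K l) = 0 ∧ ip d (th K l) = 0) ∨
    (ip a (th K l) = 0 ∧ ip c (th K l) = 1 ∧ ip d (th K l) = 0) ∨
    (ip a (th K l) = 0 ∧ ip c (th K l) = 0 ∧ ip d (th K l) = 1) := by
  obtain ⟨i, hi⟩ := hd.sa.isGen.ip_int (th_gen l)
  obtain ⟨j, hj⟩ := hd.sc.isGen.ip_int (th_gen l)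
  obtain ⟨k, hk⟩ := hd.sd.isGen.ip_int (th_gen l)
  have e0 := h.ip_th_one (ne_one_of_bar hl)
  have e1 := h.ip_th_real hd hl
  rw [hd.eq, ip_add_right, ip_add_right, ip_add_right, e0, ip_comm, hi, ip_comm, hj, ip_comm, hk] at e1
  have e2 := ip_self_nonneg (th K l - (one' G).1 - i • a - j • c - k • d)
  simp only [ip_sub_left, ip_sub_right, ip_zsmul_left, ip_zsmul_right, h.ip_th_self hl, e0, hi, hj, hk,
    ip_comm (th K l) a, ip_comm (th K l) c, ip_comm (th K l) d, ip_comm (one' G).1 (th K l),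
    ip_one_one, ip_comm (one' G).1 a, ip_comm (one' G).1 c, ip_comm (one' G).1 d, hd.a1, hd.c1, hd.d1,
    hd.sa.ip_self, hd.sc.ip_self, hd.sd.ip_self, ip_comm c a, ip_comm d a, ip_comm d c, hd.ac, hd.ad,
    hd.cd] at e2
  have e3 : i + j + k = 1 := by exact_mod_cast (by linarith : (i : ℝ) + j + k = 1)
  have e4 : i ^ 2 + j ^ 2 + k ^ 2 ≤ 2 := by exact_mod_cast (by nlinarith : (i : ℝ) ^ 2 + j ^ 2 + k ^ 2 ≤ 2)
  rw [hi, hj, hk]
  have : -1 ≤ i ∧ i ≤ 1 := ⟨by nlinarith, by nlinarith⟩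
  have : -1 ≤ j ∧ j ≤ 1 := ⟨by nlinarith, by nlinarith⟩
  obtain rfl : k = 1 - i - j := by omega
  obtain ⟨⟨_, _⟩, _, _⟩ : (-1 ≤ i ∧ i ≤ 1) ∧ -1 ≤ j ∧ j ≤ 1 := ⟨‹_›, ‹_›⟩
  interval_cases i <;> interval_cases j <;> simp_all

theorem sirr_b (ha : SIrr G a) (h1 : ip a (one' G).1 = 0) (hl : bar l ≠ l) (e : ip a (th K l) = 1) :
    SIrr G (th K l - (one' G).1 - a) :=
  (ha.sub_of_ip_two ((th_gen l).sub (one' G).2.isGen) (by
    rw [ip_sub_left, ip_sub_right, ip_sub_right, h.ip_th_self hl, ip_comm (one' G).1,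
      h.ip_th_one (ne_one_of_bar hl), ip_one_one]; norm_num)
    (by rw [ip_comm, ip_sub_right, e, h1, sub_zero])).1

theorem pair (hd : Dec l₀ a c d) (hl : bar l ≠ l) (hm : bar m ≠ m) (e : ip a (th K l) = 1)
    (e' : ip c (th K m) = 1) : th K l - (one' G).1 - a = th K m - (one' G).1 - c := by
  have e1 : ip c (th K l) = 0 := by rcases h.tri hd hl with h | h | h <;> simp_all
  have e2 : ip a (th K m) = 0 := by rcases h.tri hd hm with h | h | h <;> simp_all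
  refine (h.sirr_b hd.sa hd.a1 hl e).eq_of_ip_pos (h.sirr_b hd.sc hd.c1 hm e') ?_
  have e3 : l ≠ m := by rintro rfl; simp_all
  have e4 : l ≠ bar m := by rintro rfl; rw [h.th_bar] at e; simp_all
  simp only [ip_sub_left, ip_sub_right, h.ip_th (ne_one_of_bar hl) (ne_one_of_bar hm), if_neg e3, if_neg e4,
    h.ip_th_one (ne_one_of_bar hl), h.ip_th_one (ne_one_of_bar hm), ip_comm (one' G).1 (th K m),
    ip_comm (th K l) c, e1, e2, ip_one_one, ip_comm (one' G).1 c, hd.a1, hd.c1, hd.ac]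
  norm_num

theorem deg_sum (hd : Dec l₀ a c d) : 1 + a 1 + c 1 + d 1 = 0 := by
  rw [← h.th_one l₀, hd.eq]; rfl

theorem bad (hd : Dec l₀ a c d) (hl : bar l ≠ l) (hm : bar m ≠ m) (e : ip a (th K l) = 1)
    (e' : ip c (th K m) = 1) : False := by
  have p := h.pair hd hl hm e e'
  have dg : ∀ {c d : G → ℂ} {m : IrrCharacter K}, Dec l₀ a c d → bar m ≠ m → ip c (th K m) = 1 →
      a 1 = c 1 := fun hd hm e' => by
    simpa [h.th_one] using congrFun (h.pair hd hl hm e e') 1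
  by_cases h3 : ∃ n : IrrCharacter K, bar n ≠ n ∧ ip d (th K n) = 1
  · obtain ⟨n, hn, e''⟩ := h3
    have := h.deg_sum hd
    obtain ⟨z, -, hz⟩ := hd.sa.exists_deg
    rw [← dg hd hm e', ← dg hd.swap' hn e'', hz] at this
    have : 1 + z + z + z = 0 := by exact_mod_cast this
    omega
  push Not at h3
  have ht : (⟨t, h.tK⟩ : K) ≠ 1 := fun e => h.t1 (congrArg Subtype.val e)
  have v1 := h.val2 hd.ne hd.uniq hd.sd.isGen hd.swap'.swap.ip_a (b := 0) (fun n hn => by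
    rcases h.tri hd hn with h | h | h
    exacts [h.2.2, h.2.2, (h3 n hn h.2.2).elim]) ht
  have sb := h.sirr_b hd.sa hd.a1 hl e
  have v2 := h.val2 hd.ne hd.uniq sb.isGen (a := 0) (b := 1) (by
    rw [ip_sub_left, ip_sub_left, h.ip_th_real hd hl, hd.ip_a, ip_comm, h.ip_th_one hd.ne]; norm_num)
    (fun n hn => by
      have f : ∀ {a : G → ℂ}, ip a (th K n) = 1 → ip (th K n - (one' G).1 - a) (th K n) = 1 := fun e => by
        rw [ip_sub_left, ip_sub_left, h.ip_th_self hn, e, ip_comm, h.ip_th_one (ne_one_of_bar hn)]; norm_num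
      rcases h.tri hd hn with h' | h' | h'
      · rw [p, ← h.pair hd hn hm h'.1 e']; exact f h'.1
      · rw [h.pair hd hl hn e h'.2.1]; exact f h'.2.1
      · exact (h3 n hn h'.2.2).elim) ht
  have v3 := v2
  rw [p] at v3
  have v4 := congrFun hd.eq t
  have s1 := sum_mul_nPr hd.sa t
  have s2 := sum_mul_nPr hd.sc t
  have s3 : ∑ x, a x * nPr t x = ∑ x, c x * nPr t x := by
    have := congrArg (fun f : G → ℂ => ∑ x, f x * nPr t x) p
    simp only [Pi.sub_apply, sub_mul, Finset.sum_sub_distrib, h.sum_th_nPr (ne_one_of_bar hl),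
      h.sum_th_nPr (ne_one_of_bar hm)] at this
    linear_combination -this
  rw [s3, dg hd hm e', s2, mul_pow, mul_pow] at s1
  have s4 := mul_left_cancel₀ (pow_ne_zero 2 (Nat.cast_ne_zero.2 index_ne_zero_of_finite)) s1
  obtain ⟨w1, u1⟩ := h.val_t l
  obtain ⟨w2, u2⟩ := h.val_t m
  obtain ⟨w3, u3⟩ := h.val_t l₀
  simp only [Pi.sub_apply, Pi.add_apply, one', u1, u2, u3] at v1 v2 v3 v4
  rw [show a t = -2 * l.1 ⟨t, h.tK⟩ - l₀.1 ⟨t, h.tK⟩ by push_cast at v2; linear_combination -v2,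
    show c t = -2 * m.1 ⟨t, h.tK⟩ - l₀.1 ⟨t, h.tK⟩ by push_cast at v3; linear_combination -v3] at s4 v4
  rw [v1] at v4
  rcases w1 with w1 | w1 <;> rcases w2 with w2 | w2 <;> rcases w3 with w3 | w3 <;>
    rw [w1, w2, w3] at s4 v4 <;> first | (norm_num at s4; done) | norm_num at v4

theorem exists_dec' : ∃ (l₀ : IrrCharacter K) (a c d : G → ℂ), Dec l₀ a c d ∧
    ∀ l, bar l ≠ l → ip a (th K l) = 1 ∧ ip c (th K l) = 0 ∧ ip d (th K l) = 0 := by
  obtain ⟨l₀, a, c, d, hd⟩ := h.exists_dec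
  have key : ∀ {a c d : G → ℂ}, Dec l₀ a c d → ∀ m, bar m ≠ m → ip a (th K m) = 1 →
      ∀ l, bar l ≠ l → ip a (th K l) = 1 ∧ ip c (th K l) = 0 ∧ ip d (th K l) = 0 :=
    fun hd m hm e l hl => (h.tri hd hl).elim id fun h' =>
      (h'.elim (fun h' => h.bad hd hm hl e h'.2.1) fun h' => h.bad hd.swap' hm hl e h'.2.2).elim
  by_cases h1 : ∃ m : IrrCharacter K, bar m ≠ m
  · obtain ⟨m, hm⟩ := h1
    rcases h.tri hd hm with e | e | e
    · exact ⟨l₀, a, c, d, hd, key hd m hm e.1⟩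
    · exact ⟨l₀, c, a, d, hd.swap, key hd.swap m hm e.2.1⟩
    · exact ⟨l₀, d, a, c, hd.swap'.swap, key hd.swap'.swap m hm e.2.2⟩
  · exact ⟨l₀, a, c, d, hd, fun l hl => (h1 ⟨l, hl⟩).elim⟩

theorem a_val (hd : Dec l₀ a c d) (ha : ∀ l, bar l ≠ l → ip a (th K l) = 1) (hx : InK K x) (hx1 : x ≠ 1) :
    a x = 1 := by
  obtain ⟨g, hg⟩ := hx
  have := h.val2 hd.ne hd.uniq hd.sa.isGen hd.ip_a ha (z := ⟨_, hg⟩) fun e => hx1 (by
    simpa using congrArg Subtype.val e)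
  rw [← hd.sa.isClassFunction x g, this]; push_cast; ring

theorem a_deg (hd : Dec l₀ a c d) (ha : ∀ l, bar l ≠ l → ip a (th K l) = 1) :
    ∃ m : ℤ, a 1 = (1 + 2 * ord K * m : ℤ) := by
  classical
  obtain ⟨m, hm⟩ := ((hd.sa.isGen.res (cen1 t)).sub isGen_one).inner_int isGen_one
  have := card_mul_inner ((fun x : cen1 t => a x) - fun _ => 1) fun _ => 1
  rw [hm, Finset.sum_eq_single 1 (fun x _ hx => by
    simp [h.a_val hd ha (h.inK_of_cen x.2) fun e => hx (Subtype.ext e)]) (by simp), h.card_cen] at this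
  exact ⟨m, by simp [-Nat.card_eq_fintype_card] at this; push_cast; linear_combination -this⟩

theorem c_sq (hd : Dec l₀ a c d) (ha : ∀ l, bar l ≠ l → ip a (th K l) = 0) : a t ^ 2 = 1 := by
  have := h.val2 hd.ne hd.uniq hd.sa.isGen hd.ip_a ha (z := ⟨t, h.tK⟩) fun e => h.t1 (congrArg Subtype.val e)
  rcases (h.val_t l₀).1 with e | e <;> simp [this, e]

theorem eqn (hd : Dec l₀ a c d)
    (ha : ∀ l, bar l ≠ l → ip a (th K l) = 1 ∧ ip c (th K l) = 0 ∧ ip d (th K l) = 0)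
    {α γ δ : ℤ} (h1 : a 1 = α) (h2 : c 1 = γ) (h3 : d 1 = δ) :
    (cen1 t).index * (α * γ * δ + γ * δ + α * δ + α * γ) = 2 * (ord K : ℤ) ^ 2 * (α * γ * δ) ∧
      ((∃ l : IrrCharacter K, bar l ≠ l) → γ = δ) := by
  have s0 := sum_mul_nPr (one' G).2.sirr t
  have s1 := sum_mul_nPr hd.sa t
  have s2 := sum_mul_nPr hd.sc t
  have s3 := sum_mul_nPr hd.sd t
  have e1 := h.a_val hd (fun l hl => (ha l hl).1) (inK_of_mem h.tK) h.t1
  rw [h1, e1] at s1
  rw [h2, mul_pow, h.c_sq hd.swap fun l hl => (ha l hl).2.1] at s2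
  rw [h3, mul_pow, h.c_sq hd.swap'.swap fun l hl => (ha l hl).2.2] at s3
  have s4 := h.sum_th_nPr hd.ne
  have s5 := s4
  rw [hd.eq, h.card_G] at s4
  simp only [Pi.add_apply, add_mul, Finset.sum_add_distrib] at s4
  have hn : ((cen1 t).index : ℂ) ≠ 0 := Nat.cast_ne_zero.2 index_ne_zero_of_finite
  simp only [one', one_mul, mul_one] at s0 s4
  refine ⟨?_, fun ⟨l, hl⟩ => ?_⟩
  · have : ((cen1 t).index : ℂ) * (α * γ * δ + γ * δ + α * δ + α * γ) = 2 * (ord K : ℂ) ^ 2 * (α * γ * δ) := by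
      refine mul_left_cancel₀ hn ?_
      push_cast at s4
      linear_combination α * γ * δ * s4 - α * γ * δ * s0 - γ * δ * s1 - α * δ * s2 - α * γ * s3
    exact_mod_cast this
  · have s6 := sum_mul_nPr (h.sirr_b hd.sa hd.a1 hl (ha l hl).1) t
    rw [← h.sum_th_nPr (ne_one_of_bar hl), hd.eq] at s5
    have e2 := h.deg_sum hd
    simp only [Pi.add_apply, add_mul, Finset.sum_add_distrib, Pi.sub_apply, sub_mul,
      Finset.sum_sub_distrib, h.th_one, (h.val_t l).2, e1, one', h1, h2, h3] at s5 s6 e2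
    have e3 : l.1 ⟨t, h.tK⟩ ^ 2 = 1 := by rcases (h.val_t l).1 with e | e <;> simp [e]
    have : (((cen1 t).index : ℂ) * (γ - δ)) ^ 2 = 0 := by
      generalize ∑ x, a x * nPr t x = A at *
      generalize ∑ x, c x * nPr t x = C at *
      generalize ∑ x, d x * nPr t x = D at *
      generalize ∑ x, th K l x * nPr t x = T at *
      generalize ∑ x, (1 : ℂ) * nPr t x = U at *
      obtain rfl : T = U + A + C + D := s5.symm
      obtain e4 : (α : ℂ) = -1 - γ - δ := by linear_combination e2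
      rw [e4] at s6
      linear_combination γ * δ * s6 - δ * (γ + δ) * s2 - γ * (γ + δ) * s3 +
        4 * γ * δ * ((cen1 t).index : ℂ) ^ 2 * e3
    exact_mod_cast sub_eq_zero.1 ((mul_eq_zero.1 (pow_eq_zero_iff two_ne_zero |>.1 this)).resolve_left hn)

theorem exists_eq : ∃ (l₀ : IrrCharacter K) (a c d : G → ℂ), Dec l₀ a c d ∧
    (∀ l, bar l ≠ l → ip a (th K l) = 1 ∧ ip c (th K l) = 0 ∧ ip d (th K l) = 0) ∧ c 1 = d 1 := by
  classical
  obtain ⟨l₀, a, c, d, hd, ha⟩ := h.exists_dec'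
  obtain ⟨α, -, h1⟩ := hd.sa.exists_deg
  obtain ⟨γ, -, h2⟩ := hd.sc.exists_deg
  obtain ⟨δ, -, h3⟩ := hd.sd.exists_deg
  obtain ⟨e1, e2⟩ := h.eqn hd ha h1 h2 h3
  by_cases h4 : ∃ l : IrrCharacter K, bar l ≠ l
  · exact ⟨l₀, a, c, d, hd, ha, by rw [h2, h3, e2 h4]⟩
  have h5 : ∀ {P : IrrCharacter K → Prop} l, bar l ≠ l → P l := fun l hl => (h4 ⟨l, hl⟩).elim
  have hk : ord K = 2 := by
    have := sum_deg_sq (G := K)
    rw [show Finset.univ = {one' K, l₀} from Finset.ext fun l => by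
      simpa using hd.uniq l (by_contra fun e => h4 ⟨l, e⟩), Finset.sum_pair hd.ne.symm, h.deg, h.deg] at this
    exact_mod_cast (by linear_combination -this : (ord K : ℂ) = 2)
  have f : ∀ {a c d : G → ℂ} {α : ℤ}, Dec l₀ a c d → a 1 = α → α % 4 = 1 ∧ α ∣ 4 * (cen1 t).index :=
    fun {a c d α} hd h1 => by
      obtain ⟨m, hm⟩ := h.a_deg hd h5
      have : α = 1 + 2 * ord K * m := by exact_mod_cast h1.symm.trans hm
      refine ⟨by rw [hk] at this; omega, ?_⟩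
      obtain ⟨ε, χ, hε, hχ, rfl⟩ := hd.sa.exists_sign
      obtain ⟨n, -, hn⟩ := hχ.exists_deg
      have h6 := hχ.deg_dvd_card hn
      rw [h.card_G, hk] at h6
      have h7 : (n : ℤ) ∣ 4 * (cen1 t).index := by exact_mod_cast h6
      rcases hε with rfl | rfl
      · rwa [show α = n by exact_mod_cast (by simpa [hn] using h1.symm : (α : ℂ) = n)]
      · rwa [show α = -n by exact_mod_cast (by simpa [hn] using h1.symm : (α : ℂ) = -n), neg_dvd]
  have e3 := h.deg_sum hd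
  rw [h1, h2, h3] at e3
  rw [hk] at e1
  rcases klein_eq (by exact_mod_cast Nat.pos_of_ne_zero index_ne_zero_of_finite) (f hd h1).1
    (f hd.swap h2).1 (f hd.swap'.swap h3).1 (by exact_mod_cast e3) (e1.trans (by norm_num)) (f hd h1).2
    (f hd.swap h2).2 with e | e | e
  · exact ⟨l₀, d, a, c, hd.swap'.swap, h5, by rw [h1, h2, e]⟩
  · exact ⟨l₀, a, c, d, hd, h5, by rw [h2, h3, e]⟩
  · exact ⟨l₀, c, a, d, hd.swap, h5, by rw [h1, h3, e]⟩

theorem chars : ∃ (ε : ℤ) (a c d : G → ℂ), (ε = 1 ∨ ε = -1) ∧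
    ((cen1 t).index : ℤ) = (2 * ord K + ε) * (ord K + ε) ∧ SIrr G a ∧ SIrr G c ∧ SIrr G d ∧
    a 1 = (ε * (2 * ord K + ε) : ℤ) ∧ c 1 = (-ε * (ord K + ε) : ℤ) ∧ d 1 = (-ε * (ord K + ε) : ℤ) ∧
    (∀ x, InK K x → x ≠ 1 → a x = 1) ∧ (∀ x, ¬ InK K x → 1 + a x + c x + d x = 0) ∧
    ∑ x, a x = 0 := by
  obtain ⟨l₀, a, c, d, hd, ha, e⟩ := h.exists_eq
  obtain ⟨m, h1⟩ := h.a_deg hd fun l hl => (ha l hl).1
  obtain ⟨γ, hγ, h2⟩ := hd.sc.exists_deg
  have e1 := (h.eqn hd ha h1 h2 (e ▸ h2)).1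
  have e3 := h.deg_sum hd
  rw [h1, ← e, h2] at e3
  have e4 : γ = -(1 + ord K * m) := by
    have : 1 + (1 + 2 * ord K * m) + γ + γ = 0 := by exact_mod_cast e3
    linarith
  have hk : (ord K : ℤ) ≠ 0 := by exact_mod_cast (card_pos' K).ne'
  have e5 : (cen1 t).index * m ^ 2 = (1 + 2 * ord K * m) * (1 + ord K * m) := by
    refine mul_left_cancel₀ (mul_ne_zero hγ (mul_ne_zero two_ne_zero (pow_ne_zero 2 hk))) ?_
    rw [e4] at e1 ⊢
    linear_combination -e1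
  have e6 : m = 1 ∨ m = -1 := Int.isUnit_iff.1 (isUnit_of_dvd_one
    ⟨(cen1 t).index * m - 3 * ord K - 2 * ord K ^ 2 * m, by linear_combination -e5⟩)
  refine ⟨m, a, c, d, e6, by rcases e6 with rfl | rfl <;> linear_combination e5, hd.sa, hd.sc, hd.sd,
    by rw [h1]; congr 1; rcases e6 with rfl | rfl <;> ring,
    by rw [h2, e4]; congr 1; rcases e6 with rfl | rfl <;> ring,
    by rw [← e, h2, e4]; congr 1; rcases e6 with rfl | rfl <;> ring,
    fun x => h.a_val hd fun l hl => (ha l hl).1,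
    fun x hx => by rw [← th_of_not_inK l₀ hx, hd.eq]; rfl, ?_⟩
  have := card_mul_inner a (one' G).1
  rw [hd.sa.isGen.inner_eq_ip (one' G).2.isGen, hd.a1] at this
  simpa [one'] using this.symm

end BSW

end H8
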