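import Cfsg.Agent.H8.BSW3

/-! Brauer–Suzuki–Wall: counting elements. -/

set_option maxSynthPendingDepth 3

namespace H8

open Subgroup Cfsg H7 H3

variable {G : Type*} [Group G] {t s x g : G} {K : Subgroup G} {q r k : ℕ}

theorem bsw_cop (hk : 2 ∣ k) (h : (q = 2 * k + 1 ∧ r = k + 1) ∨ (q + 1 = 2 * k ∧ r + 1 = k)) :
    q.Coprime (2 * k) ∧ r.Coprime (2 * k) ∧ q.Coprime r := by
  have f : ∀ a b : ℕ, (∀ p, p ∣ a → p ∣ b → p ∣ 1) → a.Coprime b := fun a b h =>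
    Nat.eq_one_of_dvd_one (h _ (Nat.gcd_dvd_left a b) (Nat.gcd_dvd_right a b))
  have h1 : r.Coprime k := by
    rcases h with ⟨-, rfl⟩ | ⟨-, rfl⟩ <;> simp
  refine ⟨?_, Nat.Coprime.mul_right (Nat.coprime_two_right.2 (Nat.odd_iff.2 (by omega))) h1, ?_⟩
  · rcases h with ⟨rfl, -⟩ | ⟨h, -⟩
    · simp
    · rw [← h]; simp
  · rw [show q = k + r by omega]; simpa using h1.symm

/-- numerical data of a BSW group -/
structure Dat (t : G) (K : Subgroup G) (q r : ℕ) : Prop where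
  cs : (q = 2 * ord K + 1 ∧ r = ord K + 1) ∨ (q + 1 = 2 * ord K ∧ r + 1 = ord K)
  idx : (cen1 t).index = q * r
  ty : ∀ x, ¬ InK K x → ord (cen1 x) ∣ q ∨ ord (cen1 x) ∣ r
  rr : ∀ x, x ≠ 1 → orderOf x ∣ r → nPr t x = r ∧ ord (cen1 x) = r
  nr : Nat.card {x : G // x ≠ 1 ∧ orderOf x ∣ r} = q * ord K * (r - 1)
  nq : Nat.card {x : G // x ≠ 1 ∧ orderOf x ∣ q} + 1 = q ^ 2
  qq : ∀ x, x ≠ 1 → orderOf x ∣ q → (q = 2 * ord K + 1 → nPr t x = q ∧ ord (cen1 x) = q) ∧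
    (q + 1 = 2 * ord K → nPr t x = 0)

theorem nPr_one (ht : t * t = 1) : nPr t 1 = (cen1 t).index := by
  rw [← card_isConj_eq_index]
  exact Nat.card_congr (Equiv.subtypeEquivRight fun u => and_iff_left_of_imp fun hu => by
    rwa [mul_one, inv_eq_of_mul_eq_one_right (sq_of_isConj ht hu)])

theorem InK.orderOf_dvd (h : InK K x) : orderOf x ∣ ord K := by
  obtain ⟨g, hg⟩ := h
  have := orderOf_dvd_card' hg
  rwa [show g * x * g⁻¹ = MulAut.conj g x from rfl, MulEquiv.orderOf_eq] at this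

theorem not_inK_of_coprime (hx : x ≠ 1) (h : orderOf x ∣ q) (hc : q.Coprime (2 * ord K)) : ¬ InK K x :=
  fun e => hx (orderOf_eq_one_iff.1 (Nat.eq_one_of_dvd_coprimes hc h (e.orderOf_dvd.mul_left 2)))

namespace BSW
variable (h : BSW t s K)
include h

theorem two_dvd : 2 ∣ ord K := orderOf_eq_prime (by rw [pow_two, h.t2]) h.t1 ▸ orderOf_dvd_card' h.tK

theorem card_inK [Finite G] : Nat.card {x : G // InK K x ∧ x ≠ 1} = (cen1 t).index * (ord K - 1) := by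
  have := card_conjugates_of_TI ((K : Set G) \ {1}) (cen1 t) (fun g hg x hx => ⟨?_, by simpa using hx.2⟩)
    fun g x hx e => h.ti g x hx.1 hx.2 e.1
  · rw [show ord K - 1 = Nat.card ((K : Set G) \ {1} : Set G) by
      rw [Nat.card_coe_set_eq, Set.ncard_sdiff_singleton_of_mem K.one_mem]; rfl, ← this]
    exact Nat.card_congr (Equiv.subtypeEquivRight fun x => ⟨fun ⟨⟨g, hg⟩, h⟩ => ⟨g, hg, by simpa using h⟩,
      fun ⟨g, hg, h⟩ => ⟨⟨g, hg⟩, by simpa using h⟩⟩)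
  · rcases (h.cen_iff g).1 hg with e | e
    · exact mul_mem (mul_mem e hx.1) (inv_mem e)
    · rw [(h.out e).2.2 x hx.1]; exact inv_mem hx.1

/-- centralisers of elements not conjugate into `K` have order prime to `2|K|` -/
theorem coprime_cen [Finite G] (hc : (cen1 t).index.Coprime (2 * ord K)) (hx : ¬ InK K x) :
    ord (cen1 x) ∣ (cen1 t).index := by
  refine (Nat.coprime_of_dvd fun p hp h1 h2 => hx ?_ : (ord (cen1 x)).Coprime (2 * ord K)).dvd_of_dvd_mul_left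
    (h.card_G ▸ card_subgroup_dvd_card _)
  haveI := Fact.mk hp
  obtain ⟨y, hy, hy'⟩ := exists_orderOf_eq hp h1
  obtain ⟨P, hP⟩ := H2.exists_isSylowIn p (cen1 t)
  have hP' : IsSylowIn p P ⊤ := ⟨le_top, hP.isPGroup, by
    rw [← relIndex_mul_relIndex P (cen1 t) ⊤ hP.le le_top, relIndex_top_right]
    exact fun e => ((Nat.Prime.dvd_mul hp).1 e).elim hP.not_dvd fun e =>
      hp.one_lt.ne' (Nat.eq_one_of_dvd_coprimes hc e h2)⟩
  obtain ⟨g, -, hg⟩ := hP'.exists_cj_le (Q := zpowers y) (H2.isPGroup_zpowers (k := 1)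
    (by rw [pow_one, ← hy', pow_orderOf_eq_one])) le_top
  exact h.inK_of_comm ((h.inK_of_cen (hP.le (hg (H2.conj_mem_cj (mem_zpowers y))))).of_conj
    (isConj_iff.2 ⟨g, rfl⟩)) (fun e => hp.one_lt.ne' (by rw [← hy', e, orderOf_one])) (mem_cen1.1 hy).symm

theorem exists_dat [Finite G] : ∃ q r, Dat t K q r := by
  classical
  haveI := Fintype.ofFinite G
  obtain ⟨ε, a, c, d, hε, hn, sa, sc, sd, da, dc, dd, v1, v2, v3⟩ := h.chars
  have hk := card_pos' K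
  obtain ⟨q, r, hq, hr, cs⟩ : ∃ q r : ℕ, (q : ℤ) = 2 * ord K + ε ∧ (r : ℤ) = ord K + ε ∧
      ((q = 2 * ord K + 1 ∧ r = ord K + 1) ∨ (q + 1 = 2 * ord K ∧ r + 1 = ord K)) := by
    rcases hε with rfl | rfl
    · exact ⟨_, _, by simp, by simp, Or.inl ⟨rfl, rfl⟩⟩
    · exact ⟨2 * ord K - 1, ord K - 1, by omega, by omega, Or.inr ⟨by omega, by omega⟩⟩
  rw [← hq] at da hn
  rw [← hr] at dc dd hn
  have idx : (cen1 t).index = q * r := by exact_mod_cast hn
  obtain ⟨c1, c2, c3⟩ := bsw_cop h.two_dvd cs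
  have hG := h.card_G
  have van : ∀ {a : G → ℂ} {m n : ℕ} {ε : ℤ}, (ε = 1 ∨ ε = -1) → SIrr G a → a 1 = (ε * m : ℤ) →
      m.Coprime n → Nat.card G = m * n → ∀ x, ¬ orderOf x ∣ n → a x = 0 := fun {a m n ε} hε sa da hc e x hx => by
    obtain ⟨η, χ, hη, hχ, rfl⟩ := sa.exists_sign
    obtain ⟨j, -, hj⟩ := hχ.exists_deg
    have : (m : ℤ) ∣ j := by
      rcases hη with rfl | rfl
      · exact ⟨ε, by exact_mod_cast (by simpa [hj, mul_comm] using da : (j : ℂ) = m * ε)⟩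
      · exact ⟨-ε, by exact_mod_cast (by simpa [hj, mul_comm, neg_eq_iff_eq_neg] using da : (j : ℂ) = m * -ε)⟩
    simp [hχ.eq_zero_of_defect_zero hc e hj (by exact_mod_cast this) hx]
  have hc : ∀ x, ¬ InK K x → ord (cen1 x) ∣ q * r := fun x hx => idx ▸ h.coprime_cen (idx ▸ c1.mul_left c2) hx
  have ho : ∀ x, ¬ InK K x → orderOf x ∣ q * r := fun x hx => (orderOf_dvd_card' (self_mem_cen1 x)).trans (hc x hx)
  have va : ∀ x, ¬ InK K x → ¬ orderOf x ∣ r → a x = 0 := fun x hx e =>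
    van hε sa da (c1.mul_right c3) (by rw [hG, idx]; ring) x fun e' => e
      (((c1.mul_left c2).coprime_dvd_left (ho x hx)).dvd_of_dvd_mul_left e')
  have vc : ∀ x, ¬ InK K x → ¬ orderOf x ∣ q → a x = -1 := fun x hx e => by
    have f : ∀ {c : G → ℂ}, SIrr G c → c 1 = (-ε * r : ℤ) → c x = 0 := fun sc dc =>
      van (by omega) sc dc (c2.mul_right c3.symm) (by rw [hG, idx]; ring) x fun e' => e
        (((c1.mul_left c2).coprime_dvd_left (ho x hx)).dvd_of_dvd_mul_left e')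
    linear_combination v2 x hx - f sc dc - f sd dd
  have ty0 : ∀ x, ¬ InK K x → ¬ orderOf x ∣ r → orderOf x ∣ q := fun x hx e => by_contra fun e' => by
    have := (va x hx e).symm.trans (vc x hx e'); norm_num at this
  have n1 : ∀ x, ¬ InK K x → x ≠ 1 := fun x hx e => hx (inK_of_mem (e ▸ one_mem _))
  have ex : ∀ x, ¬ InK K x → orderOf x ∣ r → ¬ orderOf x ∣ q := fun x hx e e' =>
    n1 x hx (orderOf_eq_one_iff.1 (Nat.eq_one_of_dvd_coprimes c3 e' e))
  have ty1 : ∀ {q r : ℕ}, q.Coprime r → (∀ x, ¬ InK K x → ¬ orderOf x ∣ r → orderOf x ∣ q) →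
      ∀ x, ¬ InK K x → ord (cen1 x) ∣ q * r → orderOf x ∣ q → ord (cen1 x) ∣ q := fun {q r} c3 ty0 x hx e e' => by
    refine (Nat.coprime_of_dvd fun p hp h1 h2 => ?_ : (ord (cen1 x)).Coprime r).dvd_of_dvd_mul_right e
    obtain ⟨y, hy, rfl⟩ := exists_orderOf_eq hp h1
    have hc : Commute x y := (mem_cen1.1 hy).symm
    have h3 := hc.orderOf_mul_eq_mul_orderOf_of_coprime ((c3.coprime_dvd_left e').coprime_dvd_right h2)
    have h4 : ¬ InK K (x * y) := fun e => hx (h.inK_of_comm e (fun e => hp.one_lt.ne' (by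
      rw [e, orderOf_one] at h3; exact Nat.eq_one_of_mul_eq_one_left h3.symm)) (by rw [← mul_assoc, mul_assoc, hc.eq, ← mul_assoc, hc.eq]))
    by_cases h5 : orderOf (x * y) ∣ r
    · exact n1 x hx (orderOf_eq_one_iff.1 (Nat.eq_one_of_dvd_coprimes c3 e' ((h3 ▸ dvd_mul_right _ _).trans h5)))
    · exact hp.one_lt.ne' (Nat.eq_one_of_dvd_coprimes c3 ((h3 ▸ dvd_mul_left _ _).trans (ty0 _ h4 h5)) h2)
  have tq := fun x hx => ty1 c3 ty0 x hx (hc x hx)
  have tr := fun x hx => ty1 c3.symm (fun x hx e => by_contra fun e' => e (ty0 x hx e')) x hx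
    (mul_comm q r ▸ hc x hx)
  set SK := Finset.univ.filter fun x => InK K x ∧ x ≠ 1
  set SR := Finset.univ.filter fun x => ¬ InK K x ∧ orderOf x ∣ r
  set SQ := Finset.univ.filter fun x => ¬ InK K x ∧ ¬ orderOf x ∣ r
  have split : ∀ f : G → ℂ, ∑ x, f x = f 1 + ∑ x ∈ SK, f x + ∑ x ∈ SR, f x + ∑ x ∈ SQ, f x := fun f => by
    rw [← Finset.sum_filter_add_sum_filter_not _ (InK K), ← Finset.sum_filter_add_sum_filter_not
      (Finset.univ.filter fun x => ¬ InK K x) (orderOf · ∣ r), Finset.filter_filter, Finset.filter_filter,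
      ← Finset.add_sum_erase _ _ (show (1 : G) ∈ _ by simpa using inK_of_mem K.one_mem), ← add_assoc]
    congr 4; ext; simp [SK, and_comm]
  have cK : (SK.card : ℤ) = q * r * (ord K - 1) := by
    rw [← Fintype.card_subtype, ← Nat.card_eq_fintype_card, h.card_inK, idx]; push_cast [hk]; rfl
  have mK : ∀ x ∈ SK, a x = 1 ∧ nPr t x = ord K := fun x hx => by
    obtain ⟨⟨g, hg⟩, h1⟩ := (Finset.mem_filter.1 hx).2
    exact ⟨v1 x ⟨g, hg⟩ h1, by rw [← nPr_conj t x g, h.nPr_K hg (by simpa using h1)]⟩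
  have mR : ∀ x ∈ SR, a x = -1 := fun x hx => vc x (Finset.mem_filter.1 hx).2.1
    (ex x (Finset.mem_filter.1 hx).2.1 (Finset.mem_filter.1 hx).2.2)
  have mQ : ∀ x ∈ SQ, a x = 0 := fun x hx => va x (Finset.mem_filter.1 hx).2.1 (Finset.mem_filter.1 hx).2.2
  have e1 := split fun _ => 1
  have e2 := split a
  have e3 := sum_mul_nPr (one' G).2.sirr t
  have e4 := sum_mul_nPr sa t
  rw [split, Finset.sum_congr rfl fun x hx => by rw [(mK x hx).2]] at e3
  rw [split, Finset.sum_congr (s₁ := SK) rfl fun x hx => by rw [(mK x hx).2, (mK x hx).1],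
    Finset.sum_congr (s₁ := SR) rfl fun x hx => by rw [mR x hx],
    Finset.sum_congr (s₁ := SQ) rfl fun x hx => by rw [mQ x hx],
    v1 t (inK_of_mem h.tK) h.t1, da] at e4
  rw [v3, Finset.sum_congr rfl fun x hx => (mK x hx).1, Finset.sum_congr rfl mR, Finset.sum_congr rfl mQ,
    da] at e2
  simp only [one', one_mul, mul_one, Finset.sum_const, nsmul_eq_mul, nPr_one h.t2, idx, zero_mul, mul_zero,
    Finset.card_univ, ← Nat.card_eq_fintype_card, hG, neg_mul, Finset.sum_neg_distrib, ← Nat.cast_sum]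
    at e1 e2 e3 e4
  have f1 : (2 * ord K * (q * r) : ℤ) = 1 + SK.card + SR.card + SQ.card := by exact_mod_cast e1
  have f2 : (0 : ℤ) = ε * q + SK.card + SR.card * -1 + 0 := by exact_mod_cast e2
  have f3 : (q * r : ℤ) + SK.card * ord K + (∑ x ∈ SR, nPr t x : ℕ) + (∑ x ∈ SQ, nPr t x : ℕ) =
    (q * r) ^ 2 := by exact_mod_cast e3
  have f4 : (ε * q : ℤ) * (ε * q * (q * r) + SK.card * ord K + -(∑ x ∈ SR, nPr t x : ℕ) + 0) =
    (q * r) ^ 2 := by exact_mod_cast e4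
  have hq0 : (q : ℤ) ≠ 0 := by omega
  have g1 : (SR.card : ℤ) = q * ord K * (r - 1) := by
    rw [cK] at f2; rcases hε with rfl | rfl <;> rw [hr] at f2 ⊢ <;> linear_combination f2
  have g2 : (SQ.card : ℤ) + 1 = q ^ 2 := by
    rw [cK, g1] at f1; rcases hε with rfl | rfl <;> rw [hr, hq] at f1 <;> rw [hq] <;> linear_combination -f1
  have g3 : ((∑ x ∈ SR, nPr t x : ℕ) : ℤ) = SR.card * r := by
    refine mul_left_cancel₀ hq0 ?_
    rw [cK] at f4; rw [g1]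
    rcases hε with rfl | rfl <;> rw [hr, hq] at f4 ⊢
    · linear_combination -f4
    · linear_combination f4
  have g4 : ((∑ x ∈ SQ, nPr t x : ℕ) : ℤ) = q * r * (2 * ord K) * (1 + ε) := by
    rw [cK, g3, g1] at f3
    rcases hε with rfl | rfl <;> rw [hr, hq] at f3 ⊢ <;> linear_combination f3
  have all : ∀ (S : Finset G) (m : ℕ), 0 < m → (∀ x ∈ S, ord (cen1 x) ∣ m) → ∑ x ∈ S, nPr t x = S.card * m →
      ∀ x ∈ S, nPr t x = m ∧ ord (cen1 x) = m := fun S m hm h1 h2 x hx => by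
    have h3 := fun x hx => (nPr_le (x := x) h.t2).1.trans (Nat.le_of_dvd hm (h1 x hx))
    have := (Finset.sum_eq_sum_iff_of_le h3).1 (by simpa using h2) x hx
    exact ⟨this, le_antisymm (Nat.le_of_dvd hm (h1 x hx)) (this ▸ (nPr_le h.t2).1)⟩
  have hSR : ∀ x, x ∈ SR ↔ x ≠ 1 ∧ orderOf x ∣ r := fun x => by
    rw [Finset.mem_filter]
    exact ⟨fun e => ⟨n1 x e.2.1, e.2.2⟩, fun e => ⟨Finset.mem_univ _, not_inK_of_coprime e.1 e.2 c2, e.2⟩⟩
  have hSQ : ∀ x, x ∈ SQ ↔ x ≠ 1 ∧ orderOf x ∣ q := fun x => by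
    rw [Finset.mem_filter]
    exact ⟨fun e => ⟨n1 x e.2.1, ty0 x e.2.1 e.2.2⟩, fun e => ⟨Finset.mem_univ _,
      not_inK_of_coprime e.1 e.2 c1, fun e' => ex x (not_inK_of_coprime e.1 e.2 c1) e' e.2⟩⟩
  have := h.two_dvd
  refine ⟨q, r, cs, idx, fun x hx => (em (orderOf x ∣ r)).symm.imp (fun e => tq x hx (ty0 x hx e)) (tr x hx),
    fun x h1 h2 => all SR r (by omega) (fun x hx => tr x (Finset.mem_filter.1 hx).2.1
      (Finset.mem_filter.1 hx).2.2) (by exact_mod_cast g3) x ((hSR x).2 ⟨h1, h2⟩), ?_, ?_,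
    fun x h1 h2 => ⟨fun e => all SQ q (by omega) (fun x hx => tq x (Finset.mem_filter.1 hx).2.1
      ((hSQ x).1 hx).2) ?_ x ((hSQ x).2 ⟨h1, h2⟩), fun e => ?_⟩⟩
  · rw [Nat.card_eq_fintype_card, Fintype.card_of_subtype SR hSR]
    zify [show 1 ≤ r by omega]; exact g1
  · rw [Nat.card_eq_fintype_card, Fintype.card_of_subtype SQ hSQ]; exact_mod_cast g2
  · obtain rfl : ε = 1 := by omega
    zify at g4 ⊢
    rw [g4, show (SQ.card : ℤ) = q ^ 2 - 1 by linarith, hr, hq]; ring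
  · obtain rfl : ε = -1 := by omega
    exact Finset.sum_eq_zero_iff.1 (by rw [add_neg_cancel, mul_zero] at g4; exact_mod_cast g4) x ((hSQ x).2 ⟨h1, h2⟩)

end BSW

end H8
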