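import Cfsg.Agent.H2.NPC
import Cfsg.Agent.H7.GL2
import Cfsg.Agent.H1.Systems

/-! Hughes–Thompson and Kegel: the elements outside a proper subgroup all have order `p`. -/

namespace H8

open Subgroup Cfsg H7

universe u

theorem norm_lemma {M V : Type*} [Group M] [CommGroup V] (φ : M →* MulAut V) (L : Subgroup M)
    [Fintype L] {x : M} (hx : x ∈ nrm L) {p : ℕ} (hp : p.Prime) (h1 : ∀ l ∈ L, (x * l) ^ p = 1)
    (h2 : ∀ l ∈ L, ∀ v, ∏ i ∈ Finset.range p, φ ((x * l) ^ i) v = 1) (v : V) :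
    v ^ Nat.card L = ∏ l : L, φ l v := by
  have hm : ∀ i, ∀ l ∈ L, (x ^ i)⁻¹ * (x * l) ^ i ∈ L := fun i l hl => by
    induction i with
    | zero => simp
    | succ i ih =>
      rw [show (x ^ (i + 1))⁻¹ * (x * l) ^ (i + 1) = x⁻¹ * ((x ^ i)⁻¹ * (x * l) ^ i) * x * l by
        rw [pow_succ, pow_succ]; group]
      exact mul_mem (nconj_mem' hx ih) hl
  have hA : ∀ i, i.Coprime p → ∏ l : L, φ ((x * l) ^ i) v = φ (x ^ i) (∏ l : L, φ l v) := fun i hi => by
    let e : L → L := fun l => ⟨_, hm i l l.2⟩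
    have he : Function.Injective e := fun l l' h => by
      have h3 : (x * l) ^ i = (x * l') ^ i := mul_left_cancel (congrArg Subtype.val h)
      obtain ⟨j, -, hj⟩ := Nat.exists_mul_mod_eq_one_of_coprime hi hp.one_lt
      have h4 : ∀ l ∈ L, ((x * l) ^ i) ^ j = x * l := fun l hl => by
        rw [← pow_mul, ← Nat.div_add_mod (i * j) p, pow_add, pow_mul, h1 l hl, hj]; simp
      exact Subtype.ext (mul_left_cancel ((h4 l l.2).symm.trans (h3 ▸ h4 l' l'.2)))
    rw [map_prod, ← (Finite.injective_iff_bijective.1 he).prod_comp fun l => φ (x ^ i) (φ l v)]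
    refine Finset.prod_congr rfl fun l _ => ?_
    rw [← MulAut.mul_apply, ← map_mul]
    simp [e]
  obtain ⟨n, rfl⟩ := Nat.exists_eq_succ_of_ne_zero hp.ne_zero
  have h3 : ∏ l : L, ∏ i ∈ Finset.range (n + 1), φ ((x * l) ^ i) v = 1 :=
    Finset.prod_eq_one fun l _ => h2 l l.2 v
  have h4 := h2 1 (one_mem _) (∏ l : L, φ l v)
  rw [Finset.prod_comm, Finset.prod_range_succ', Finset.prod_congr rfl fun i hi => hA (i + 1)
    (Nat.coprime_of_lt_prime i.succ_ne_zero (by simpa using hi) hp).symm] at h3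
  rw [Finset.prod_range_succ', mul_one] at h4
  simpa using mul_left_cancel (h3.trans h4.symm)

variable {G : Type*} [Group G] [Finite G] {p : ℕ}

open scoped IsMulCommutative in
/-- if all elements of `V x L` have order dividing `p`, then `L` centralises `V` -/
theorem le_cen_of_pow {V L : Subgroup G} {x : G} (hp : p.Prime) (hV : IsMulCommutative V)
    (hL : L ≤ nrm V) (hx : x ∈ nrm V) (hx' : x ∈ nrm L) (hc : (ord L).Coprime (ord V))
    (h : ∀ v ∈ V, ∀ l ∈ L, (v * (x * l)) ^ p = 1) : L ≤ cen V := by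
  classical
  let φ := V.normalizerMonoidHom
  have hφ : ∀ (g : nrm V) (v : V), (φ g v : G) = g * v * g⁻¹ := fun _ _ => rfl
  haveI := Fintype.ofFinite (L.subgroupOf (nrm V))
  have h1 : ∀ (y : nrm V) (v : V) n, ((v : G) * y) ^ n = (∏ i ∈ Finset.range n, φ (y ^ i) v : V) * y ^ n :=
    fun y v n => by
      induction n with
      | zero => simp
      | succ n ih => rw [pow_succ, ih, Finset.prod_range_succ, coe_mul, hφ]; simp [pow_succ, mul_assoc]
  have h2 := norm_lemma φ (L.subgroupOf (nrm V)) (x := ⟨x, hx⟩) (p := p)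
    (mem_normalizer_iff.2 fun l => mem_normalizer_iff.1 hx' l) hp
    (fun l hl => Subtype.ext (by simpa using h 1 (one_mem _) l hl)) fun l hl v => by
      have h3 := h1 (⟨x, hx⟩ * l) v p
      rw [coe_mul, h v v.2 l hl, show (x * l) ^ p = 1 by simpa using h 1 (one_mem _) l hl, mul_one] at h3
      exact Subtype.ext h3.symm
  rw [card_subgroupOf_of_le hL] at h2
  refine fun l hl => mem_cen.2 fun v hv => ?_
  obtain ⟨w, hw⟩ := (powCoprime hc.symm).surjective ⟨v, hv⟩
  have h3 : φ ⟨l, hL hl⟩ ⟨v, hv⟩ = ⟨v, hv⟩ := by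
    rw [← hw, powCoprime_apply, h2, map_prod]
    refine Fintype.prod_equiv (Equiv.mulLeft (⟨⟨l, hL hl⟩, hl⟩ : L.subgroupOf (nrm V))) _ _ fun k => ?_
    rw [← MulAut.mul_apply, ← map_mul]; rfl
  exact (mul_inv_eq_iff_eq_mul.1 (congrArg Subtype.val h3)).symm

theorem kegel_aux (hp : p.Prime) (n : ℕ) : ∀ (G : Type u) [Group G] [Finite G], Nat.card G = n →
    ∀ H : Subgroup G, H.Normal → H ≠ ⊤ → (∀ g ∉ H, g ^ p = 1) → Group.IsNilpotent H := by
  induction n using Nat.strong_induction_on with | _ n ih => ?_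
  intro G _ _ hn H hH hH' h
  by_cases h0 : H = ⊥
  · rw [h0]; infer_instance
  obtain ⟨N, hN, hNH⟩ := H1.exists_isMinNormal_le H h0
  haveI := hN.normal
  have fr : ∀ (r : ℕ) [Fact r.Prime] (K R : Subgroup G) [K.Normal], K ≤ H → IsSylowIn r R K →
      ∃ x ∈ nrm R, x ∉ H := fun r _ K R _ hK hR => by
    by_contra hh
    push Not at hh
    exact hH' (eq_top_iff.2 ((syl_frattini hR le_top (le_nrm_of_normal _ _)).ge.trans
      (sup_le (inf_le_right.trans hh) hK)))
  by_cases hs : Group.IsSolvable N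
  · obtain ⟨hc, q, hq, -, hq'⟩ := hN.elementary
    haveI := Fact.mk hq
    have hNq : IsPGroup q N := H2.isPGroup_iff_mem.2 fun x hx => ⟨1, by simpa using hq' x hx⟩
    have h1 : pRes q H ≤ cen N := by
      refine pRes_le_of_piN (nrm_cen (le_nrm_of_normal H N)) fun r hr hd => by_contra fun hrq => ?_
      haveI := Fact.mk hr
      obtain ⟨R, hR⟩ := H2.exists_isSylowIn r H
      obtain ⟨x, hx, hx'⟩ := fr r H R le_rfl hR
      refine hR.not_dvd (hd.trans (relIndex_dvd_of_le_left H (le_cen_of_pow hp hc (le_nrm_of_normal _ _) (le_nrm_of_normal ⊤ _ (mem_top x)) hx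
        (IsPGroup.coprime_card_of_ne r q hrq _ _ hR.isPGroup hNq) fun v hv l hl => h _ fun e => hx' ?_)))
      exact (mul_mem_cancel_right (hR.le hl)).1 ((mul_mem_cancel_left (hNH hv)).1 e)
    obtain ⟨Q, hQ⟩ := H2.exists_isSylowIn q H
    obtain ⟨z, hz, hz1, hzQ⟩ := H2.exists_mem_centralizer_of_normalizes hQ.isPGroup hNq
      (le_nrm_of_normal _ _) hN.ne_bot
    have h2 : N ⊓ cen H = N := (hN.min _ inferInstance inf_le_left).resolve_left fun e => hz1 <| by
      rw [← mem_bot, ← e]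
      refine ⟨hz, ?_⟩
      rw [← syl_sup_normal hQ (H2.pRes_le H) (piN_relIndex_pRes H), cen_sup]
      exact ⟨le_cen_symm h1 hz, hzQ⟩
    let π := QuotientGroup.mk' N
    have hπ : Function.Surjective π := QuotientGroup.mk'_surjective N
    have hm : ∀ g, π g ∈ H.map π ↔ g ∈ H := fun g => by
      rw [← mem_comap, comap_map_eq, QuotientGroup.ker_mk', sup_eq_left.2 hNH]
    haveI := ih _ (by
      rw [← hn, card_eq_card_quotient_mul_card_subgroup N]
      exact lt_mul_of_one_lt_right Nat.card_pos ((one_lt_card_iff_ne_bot N).2 hN.ne_bot)) (G ⧸ N) rfl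
      (H.map π) (hH.map π hπ) (fun e => hH' (eq_top_iff.2 fun g _ => (hm g).1 (e ▸ mem_top _))) fun g hg => by
        obtain ⟨g, rfl⟩ := hπ g
        rw [← map_pow, h g (mt (hm g).2 hg), map_one]
    refine Subgroup.isNilpotent_of_ker_le_center (π.subgroupMap H) fun y hy => mem_center_iff.2 fun w => ?_
    have : (y : G) ∈ N := (QuotientGroup.eq_one_iff _).1 (congrArg Subtype.val hy)
    exact Subtype.ext (mem_cen.1 (h2.ge this).2 w w.2)
  obtain ⟨r, hr, hd, h2⟩ : ∃ r : ℕ, r.Prime ∧ r ∣ ord N ∧ r ≠ 2 := by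
    by_contra hh
    push Not at hh
    exact hs (H1.isSolvable_of_piNum_pair Nat.prime_two Nat.prime_two fun r hr hd => Or.inl (hh r hr hd))
  haveI := Fact.mk hr
  obtain ⟨R, hR⟩ := H2.exists_isSylowIn r N
  obtain ⟨x, hx, hx'⟩ := fr r N R hNH hR
  have hW := H2.ZJ_le (n := 0) R
  have hNr : ¬ IsPGroup r N := fun e => hs (by haveI := e.isNilpotent; infer_instance)
  have hM : nrm (centerThompsonOf 0 R) ≠ ⊤ := fun e => by
    rcases hN.min _ (normal_iff_top_le_nrm.2 e.ge) (hW.trans hR.le) with e | e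
    · exact H2.ZJ_ne_bot (Or.inl rfl) hR.isPGroup (syl_ne_bot hR hd) e
    · exact hNr (hR.isPGroup.to_le (e.ge.trans hW))
  have h3 := ih _ (by rw [← hn, ← card_top (G := G)]; exact card_lt_of_lt (lt_top_iff_ne_top.2 hM)) _ rfl
    (H.subgroupOf (nrm (centerThompsonOf 0 R))) inferInstance
    (fun e => hx' (subgroupOf_eq_top.1 e (H2.nrm_ZJ (zpowers_le.2 hx) (mem_zpowers x))))
    fun g hg => Subtype.ext (h g hg)
  have h4 : NPC r N := npc_iff.1 (H2.glauberman_thompson h2 (Or.inl rfl) hR (npc_iff.2 (npc_of_nilp ?_)))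
  · refine (hNr (pRes_eq_bot_iff.1 ((hN.min _ ?_ (H2.pRes_le N)).resolve_right
      (pRes_lt_of_npc h4 hd).ne))).elim
    exact normal_iff_top_le_nrm.2 (le_nrm_pRes (le_nrm_of_normal _ _))
  · have h5 := (Group.nilpotent_of_mulEquiv (equivMapOfInjective _ _ (subtype_injective _)) (_h := h3))
    rw [subgroupOf_map_subtype] at h5
    exact nilp_of_le (inf_le_inf_right _ hNH) h5

/-- **Kegel**: a proper normal subgroup containing all elements not of order `p` is nilpotent. -/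
theorem kegel (hp : p.Prime) {H : Subgroup G} [H.Normal] (hH : H ≠ ⊤) (h : ∀ g ∉ H, g ^ p = 1) :
    Group.IsNilpotent H := kegel_aux hp _ G rfl H inferInstance hH h

/-- **Hughes–Thompson** -/
theorem index_eq_of_pow (hp : p.Prime) (hG : ¬ IsPGroup p G) {H : Subgroup G} (hH : H ≠ ⊤)
    (h : ∀ g ∉ H, g ^ p = 1) : H.index = p ∧ Group.IsNilpotent H := by
  haveI := Fact.mk hp
  have h1 : ∀ g : G, (orderOf g).Coprime p → g ∈ H := fun g hg => by_contra fun e => e <| by
    rw [orderOf_eq_one_iff.1 (hg.eq_one_of_dvd (orderOf_dvd_of_pow_eq_one (h g e)))]; exact one_mem _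
  obtain ⟨M, h2, h3, h4⟩ := H2.exists_normal_index_prime_of_pResidual_le (p := p) hH
    (H2.pRes_top (p := p) (G := G) ▸ pRes_le_iff.2 fun g _ => h1 g)
  have h5 := kegel hp (fun e => hp.one_lt.ne' (by rw [← h3, e, index_top])) fun g hg => h g fun e => hg (h4 e)
  obtain ⟨r, hr, hd, hrp⟩ : ∃ r : ℕ, r.Prime ∧ r ∣ Nat.card G ∧ r ≠ p := by
    by_contra hh
    push Not at hh
    exact hG (IsPGroup.iff_card.2 ⟨_, Nat.eq_prime_pow_of_unique_prime_dvd Nat.card_pos.ne' (hh _ · ·)⟩)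
  haveI := Fact.mk hr
  obtain ⟨v, hv⟩ := exists_prime_orderOf_dvd_card' r hd
  have hc : (orderOf v).Coprime p := hv ▸ (Nat.coprime_primes hr hp).2 hrp
  suffices e : H = M by rw [e]; exact ⟨h3, h5⟩
  refine le_antisymm h4 fun g hg => by_contra fun hg' => ?_
  have h6 : Commute g v := (nilp_cen_of_coprime h5 (zpowers_le.2 hg) (zpowers_le.2 (h4 (h1 v hc))) (by
    rw [Nat.card_zpowers, Nat.card_zpowers]
    exact hc.symm.coprime_dvd_left (orderOf_dvd_of_pow_eq_one (h g hg'))) (mem_zpowers g) v (mem_zpowers v)).symm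
  have h7 := h (g * v) fun e => hg' ((mul_mem_cancel_right (h1 v hc)).1 e)
  rw [h6.mul_pow, h g hg', one_mul] at h7
  exact hr.one_lt.ne' (hv ▸ hc.eq_one_of_dvd (orderOf_dvd_of_pow_eq_one h7))

end H8
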