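import Cfsg.Agent.H8.BSW4
import Cfsg.Agent.H8.Hughes
import Cfsg.Agent.H7.FTc
import Cfsg.Agent.H1.U1
import Cfsg.Agent.H8.Cls1

/-! The Brauer–Suzuki–Wall theorem in Bender's form. -/

namespace H8

open Subgroup Cfsg H7

variable {G : Type*} [Group G] [Finite G] {t s x g : G} {K U D : Subgroup G} {p q r m : ℕ}

theorem mem_pCore_of_exp [hp : Fact p.Prime] [Group.IsSolvable G] (h : ∀ g : G, p ∣ orderOf g → g ^ p = 1)
    [U.Normal] (hU : IsPGroup p U) (hc : IsPGroup p (cen U)) {w : G} (hw : IsPGroup p (zpowers w)) :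
    w ∈ pCore p G := by
  by_contra hw'
  let π := QuotientGroup.mk' (pCore p G)
  have hP : IsPGroup p (pCore p G) := H1.isPGroup_pCore
  haveI : Nontrivial (G ⧸ pCore p G) := ⟨⟨π w, 1, fun e => hw' ((QuotientGroup.eq_one_iff w).1 e)⟩⟩
  obtain ⟨M, hM⟩ := H1.exists_isMinNormal (G := G ⧸ pCore p G)
  haveI := hM.normal
  obtain ⟨r, hr, hM'⟩ := hM.isPGroup
  haveI := Fact.mk hr
  have h1 : ¬ IsPGroup p (M.comap π) := fun e => hM.ne_bot (by
    rw [← map_comap_eq_self_of_surjective (QuotientGroup.mk'_surjective _) M, Subgroup.map_eq_bot_iff,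
      QuotientGroup.ker_mk']
    exact H1.le_pCore e)
  have hrp : r ≠ p := by
    rintro rfl; exact h1 (hM'.comap_of_ker_isPGroup π (by rwa [QuotientGroup.ker_mk']))
  have h2 : w ∉ M.comap π := fun e => hw' ((QuotientGroup.eq_one_iff w).1 (mem_bot.1
    ((IsPGroup.disjoint_of_ne r p hrp _ _ hM' (hw.map π)).le_bot ⟨e, mem_map_of_mem π (mem_zpowers w)⟩)))
  have h3 := kegel hp.out (G := (zpowers w ⊔ M.comap π : Subgroup G)) (H := (M.comap π).subgroupOf _)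
    (fun e => h2 (subgroupOf_eq_top.1 e (mem_sup_left (mem_zpowers w)))) fun g hg => Subtype.ext (h _ (by
      by_contra hh
      obtain ⟨_, ⟨j, rfl⟩, b, hb, e⟩ := (H2.mem_sup_of_le_normalizer (le_nrm_of_normal _ _)).1 g.2
      obtain ⟨k, hk⟩ := hw ⟨w ^ j, j, rfl⟩
      refine hg (mem_subgroupOf.2 (mem_of_pow_mem (p := p) (k := k) ?_ (hp.out.coprime_iff_not_dvd.2 hh).symm))
      have hk : (w ^ j) ^ p ^ k = 1 := congrArg Subtype.val hk
      rw [← QuotientGroup.eq_one_iff, QuotientGroup.mk_pow, ← e, QuotientGroup.mk_mul,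
        (QuotientGroup.eq_one_iff b).2 hb, mul_one, ← QuotientGroup.mk_pow, hk, QuotientGroup.mk_one]))
  have h4 := Group.nilpotent_of_mulEquiv (subgroupOfEquivOfLe le_sup_right) (_h := h3)
  refine h1 (pRes_eq_bot_iff.1 (eq_bot_iff.2 (pRes_le_iff.2 fun y hy hy' => ?_)))
  have : y ∈ cen U := nilp_cen_of_coprime h4 (zpowers_le.2 hy) ((H1.le_pCore hU).trans
    ((QuotientGroup.ker_mk' _).ge.trans (ker_le_comap π M)))
    (coprime_of_isPGroup hU (by rwa [Nat.card_zpowers])) (mem_zpowers y)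
  obtain ⟨k, hk⟩ := hc ⟨y, this⟩
  exact H2.eq_one_of_coprime_of_pow (congrArg Subtype.val hk) hy'

/-- if all `p`-local subgroups are `p`-closed, Sylow `p`-subgroups are TI -/
theorem syl_eq_of_closed [hp : Fact p.Prime] (h : ∀ U : Subgroup G, IsPGroup p U → U ≠ ⊥ →
    ∃ R : Subgroup G, IsPGroup p R ∧ ∀ w ∈ nrm U, IsPGroup p (zpowers w) → w ∈ R) (U : Subgroup G) (hU : U ≠ ⊥) :
    ∀ P Q, IsSylowIn p P ⊤ → IsSylowIn p Q ⊤ → U ≤ P → U ≤ Q → P = Q := by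
  induction U using WellFoundedGT.induction with | _ U ih => ?_
  intro P Q hP hQ h1 h2
  rcases h1.eq_or_lt with rfl | h1
  · exact (hP.eq_of_le hQ.isPGroup h2 le_top).symm
  rcases h2.eq_or_lt with rfl | h2
  · exact hQ.eq_of_le hP.isPGroup h1.le le_top
  obtain ⟨R, hR, hR'⟩ := h U (hP.isPGroup.to_le h1.le) hU
  obtain ⟨T, hT, hRT⟩ := H2.exists_isSylowIn_ge hR le_top
  have f : ∀ P, IsSylowIn p P ⊤ → U < P → P = T := fun P hP h1 =>
    ih _ (H2.lt_inf_normalizer hP.isPGroup h1) (fun e => hU (eq_bot_iff.2 (e ▸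
      (H2.lt_inf_normalizer hP.isPGroup h1).le))) P T hP hT inf_le_left fun w hw =>
        hRT (hR' w hw.2 (hP.isPGroup.to_le (zpowers_le.2 hw.1)))
  rw [f P hP h1, f Q hQ h2]

theorem nrm_le_of_cc (h : ∀ y ∈ D, y ≠ 1 → cen1 y = D) {y : G} (hy : y ∈ D) (hy1 : y ≠ 1)
    (hg : g * y * g⁻¹ ∈ D) : g ∈ nrm D := by
  rw [← cj_eq_self_iff]
  conv_lhs => rw [← h y hy hy1, cj_cen1, h _ hg (by simpa using hy1)]

theorem ti_count (hm : m.Coprime (Nat.card G / m))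
    (h : ∀ x : G, x ≠ 1 → orderOf x ∣ m → ord (cen1 x) = m ∧ IsMulCommutative (cen1 x))
    (hx : x ≠ 1) (hx' : orderOf x ∣ m) : (∀ y ∈ cen1 x, y ≠ 1 → cen1 y = cen1 x) ∧
      Nat.card {y : G // y ≠ 1 ∧ orderOf y ∣ m} = (nrm (cen1 x)).index * (m - 1) := by
  have h1 : ∀ x : G, x ≠ 1 → orderOf x ∣ m → ∀ y ∈ cen1 x, y ≠ 1 → cen1 y = cen1 x := fun x hx hx' y hy hy1 =>
    (eq_of_le_of_card_le (le_cen1_iff.2 (isComm_iff.1 (h x hx hx').2 hy)) (by
      rw [(h x hx hx').1, (h y hy1 ((h x hx hx').1 ▸ orderOf_dvd_card' hy)).1])).symm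
  refine ⟨h1 x hx hx', ?_⟩
  have := H3.card_conjugates_of_TI ((cen1 x : Set G) \ {1}) (nrm (cen1 x))
    (fun g hg y hy => ⟨nconj_mem hg hy.1, by simpa using hy.2⟩)
    fun g y hy e => nrm_le_of_cc (h1 x hx hx') hy.1 hy.2 e.1
  rw [show m - 1 = Nat.card ((cen1 x : Set G) \ {1} : Set G) by
      rw [Nat.card_coe_set_eq, Set.ncard_sdiff_singleton_of_mem (cen1 x).one_mem, ← (h x hx hx').1]; rfl,
    ← this]
  refine Nat.card_congr (Equiv.subtypeEquivRight fun y => ⟨fun ⟨hy, hy'⟩ => ?_, fun ⟨g, hg, hg1⟩ =>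
    ⟨by simpa using hg1, ?_⟩⟩)
  · obtain ⟨p, hp, hd⟩ := Nat.exists_prime_and_dvd (mt orderOf_eq_one_iff.1 hx)
    haveI := Fact.mk hp
    have f : ∀ x : G, x ≠ 1 → orderOf x ∣ m → ∃ P, IsSylowIn p P ⊤ ∧ P ≤ cen1 x ∧ P ≠ ⊥ := fun x hx h2 => by
      obtain ⟨P, hP, hP'⟩ := exists_syl_le (p := p) (H := cen1 x) fun e => hp.one_lt.ne'
        (Nat.eq_one_of_dvd_coprimes hm (hd.trans hx') (by
          rwa [← (cen1 x).card_mul_index, (h x hx h2).1, Nat.mul_div_cancel_left _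
            ((h x hx h2).1 ▸ card_pos' _)]))
      exact ⟨P, hP, hP', syl_ne_bot hP ((hd.trans hx').trans ((h x hx h2).1 ▸ card_dvd_of_le le_top))⟩
    obtain ⟨P, hP, h2, -⟩ := f x hx hx'
    obtain ⟨Q, hQ, h3, h4⟩ := f y hy hy'
    obtain ⟨g, -, hg⟩ := hQ.exists_cj_eq hP
    obtain ⟨z, hz, hz1⟩ := exists_ne_one h4
    refine ⟨g, ?_, by simpa using hy⟩
    rw [SetLike.mem_coe, ← h1 x hx hx' _ (h2 (hg ▸ H2.conj_mem_cj hz)) (by simpa using hz1), ← cj_cen1,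
      h1 y hy hy' z (h3 hz) hz1, conj_mem_cj]
    exact self_mem_cen1 y
  · have := orderOf_dvd_card' hg
    rwa [show g * y * g⁻¹ = MulAut.conj g y from rfl, MulEquiv.orderOf_eq, (h x hx hx').1] at this

end H8
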