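import Cfsg.Agent.H8.BSW5
import Cfsg.Agent.H8.Zas2

/-! The Brauer–Suzuki–Wall theorem: the conclusion. -/

namespace H8

open Subgroup Cfsg H7

variable {G : Type*} [Group G] [Finite G] {t s x g u v : G} {K Q D N : Subgroup G} {p q r m : ℕ}

/-- the conclusion of the Brauer–Suzuki–Wall theorem -/
structure BSWc (Q D : Subgroup G) : Prop where
  card : 2 * Nat.card G = ord Q * (ord Q + 1) * (ord Q - 1)
  cc : ∀ x ∈ Q, x ≠ 1 → cen1 x = Q
  comm : IsMulCommutative D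
  cD : 2 * ord D + 1 = ord Q
  disj : Q ⊓ D = ⊥
  nQ : nrm Q = Q ⊔ D
  nX : ∀ X : Subgroup G, X ≤ D → X ≠ ⊥ → nrm X = nrm D ∧
    ∃ u : G, orderOf u = 2 ∧ u ∉ D ∧ (∀ d ∈ D, u * d * u⁻¹ = d⁻¹) ∧ nrm D = D ⊔ zpowers u

omit [Finite G] in
theorem mem_zpowers_of_sq (h : s * s = 1) (hx : x ∈ zpowers s) : x = 1 ∨ x = s := by
  obtain ⟨j, rfl⟩ := hx
  obtain ⟨i, rfl | rfl⟩ := Int.even_or_odd' j <;> simp only [zpow_add, zpow_mul, zpow_two, h] <;> simp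

omit [Finite G] in
theorem inv_of_cc (h : ∀ y ∈ Q, y ≠ 1 → cen1 y = Q) (hv : v ∈ nrm Q) (h2 : v * v = 1) (hQ : v ∉ Q) :
    ∀ y ∈ Q, v * y * v⁻¹ = y⁻¹ := fun y hy => by
  by_cases e : y = 1
  · simp [e]
  have h1 := nconj_mem hv hy
  refine eq_inv_of_mul_eq_one_right (by_contra fun e' => hQ ?_)
  rw [← h _ (mul_mem hy h1) e', mem_cen1]
  have h3 := mem_cen1.1 (h y hy e ▸ h1 : v * y * v⁻¹ ∈ cen1 y)
  rw [inv_eq_of_mul_eq_one_right h2] at h3 ⊢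
  calc v * (y * (v * y * v)) = v * y * v * y * v := by group
    _ = _ := by rw [h3]

theorem nrm_eq_of_dih (hc : IsMulCommutative D) (hu : ∀ d ∈ D, u * d * u⁻¹ = d⁻¹)
    (h : ∀ y ∈ D, y ≠ 1 → ∀ g, g * y * g⁻¹ ∈ D → g ∈ D ⊔ zpowers u) {X : Subgroup G} (hX : X ≤ D)
    (h1 : X ≠ ⊥) : nrm X = D ⊔ zpowers u := by
  refine le_antisymm (fun g hg => ?_) (sup_le (fun d hd => H1.mem_normalizer_of_conj_mem fun x hx => ?_)
    (zpowers_le.2 (H1.mem_normalizer_of_conj_mem fun x hx => ?_)))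
  · obtain ⟨y, hy, hy1⟩ := exists_ne_one h1
    exact h y (hX hy) hy1 g (hX (nconj_mem hg hy))
  · rwa [isComm_iff'.1 hc d hd x (hX hx), mul_inv_cancel_right]
  · rw [hu x (hX hx)]; exact inv_mem hx

theorem nX_of_dih (hc : IsMulCommutative D) (hu : ∀ d ∈ D, u * d * u⁻¹ = d⁻¹) (h2 : u * u = 1) (hD : u ∉ D)
    (h : ∀ y ∈ D, y ≠ 1 → ∀ g, g * y * g⁻¹ ∈ D → g ∈ D ⊔ zpowers u) (X : Subgroup G) (hX : X ≤ D)
    (h1 : X ≠ ⊥) : nrm X = nrm D ∧
      ∃ u : G, orderOf u = 2 ∧ u ∉ D ∧ (∀ d ∈ D, u * d * u⁻¹ = d⁻¹) ∧ nrm D = D ⊔ zpowers u := by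
  have h3 := nrm_eq_of_dih hc hu h le_rfl fun e => h1 (eq_bot_iff.2 (e ▸ hX))
  exact ⟨(nrm_eq_of_dih hc hu h hX h1).trans h3.symm, u,
    orderOf_eq_prime (by rw [pow_two, h2]) fun e => hD (e ▸ one_mem _), hD, hu, h3⟩

theorem not_mem_of_odd (h : Odd (ord Q)) (h2 : v * v = 1) (h1 : v ≠ 1) : v ∉ Q := fun e =>
  h.not_two_dvd_nat (orderOf_eq_prime (p := 2) (by rw [pow_two, h2]) h1 ▸ orderOf_dvd_card' e)

theorem exists_of_card_ne {α : Type*} {P : α → Prop} (h : Nat.card {x // P x} ≠ 0) : ∃ x, P x :=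
  let ⟨⟨x, hx⟩⟩ := (Nat.card_ne_zero.1 h).1; ⟨x, hx⟩

theorem Dat.ti (d : Dat t K q r) (h : BSW t s K) (hq : ∀ x : G, x ≠ 1 → orderOf x ∣ q →
    ord (cen1 x) = q ∧ IsMulCommutative (cen1 x)) (hx : x ≠ 1) (hx' : orderOf x ∣ q) :
    (∀ y ∈ cen1 x, y ≠ 1 → cen1 y = cen1 x) ∧ (nrm (cen1 x)).index = q + 1 ∧
      2 * Nat.card G = q * (q + 1) * (q - 1) := by
  obtain ⟨c1, c2, c3⟩ := bsw_cop h.two_dvd d.cs
  have hk := Nat.le_of_dvd (card_pos' K) h.two_dvd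
  have hG := h.card_G
  have cs := d.cs
  obtain ⟨q, rfl⟩ : ∃ q', q = q' + 2 := ⟨q - 2, by omega⟩
  obtain ⟨h1, h2⟩ := ti_count (m := q + 2) (by
    rw [hG, d.idx, mul_left_comm, Nat.mul_div_cancel_left _ (by omega)]; exact c1.mul_right c3) hq hx hx'
  refine ⟨h1, Nat.eq_of_mul_eq_mul_right (show 0 < q + 1 by omega) ?_, ?_⟩
  · have := d.nq
    rw [h2, show q + 2 - 1 = q + 1 from rfl] at this
    nlinarith
  · rw [hG, d.idx, show q + 2 - 1 = q + 1 from rfl]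
    rcases cs with ⟨e1, e2⟩ | ⟨e1, e2⟩
    · rw [show q + 2 + 1 = 2 * r by omega, show q + 1 = 2 * ord K by omega]; ring
    · rw [show q + 2 + 1 = 2 * ord K by omega, show q + 1 = 2 * r by omega]; ring

theorem Dat.exists_q (d : Dat t K q r) (h : BSW t s K) : ∃ x : G, x ≠ 1 ∧ orderOf x ∣ q := by
  have hk := Nat.le_of_dvd (card_pos' K) h.two_dvd
  have cs := d.cs
  exact exists_of_card_ne fun e => by have := d.nq; rw [e] at this; nlinarith [show 2 ≤ q by omega]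

theorem BSW.sup_eq (h : BSW t s K) : K ⊔ zpowers s = cen1 t :=
  H1.sup_zpowers_eq_of_relIndex_prime (h.relIndex_eq ▸ Nat.prime_two) h.le_cen
    ((h.cen_iff s).2 (Or.inr (h.s2 ▸ one_mem _))) h.sK

theorem Dat.case1 (d : Dat t K q r) (h : BSW t s K) (hq : q = 2 * ord K + 1) : ∃ Q, BSWc Q K := by
  obtain ⟨c1, c2, c3⟩ := bsw_cop h.two_dvd d.cs
  have f : ∀ x : G, x ≠ 1 → orderOf x ∣ q → ∃ u, IsConj t u ∧ ∀ c ∈ cen1 x, u * c * u⁻¹ = c⁻¹ :=
    fun x h1 h2 => (nPr_le h.t2).2.2 (((d.qq x h1 h2).1 hq).1.trans ((d.qq x h1 h2).1 hq).2.symm)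
  obtain ⟨x, hx, hx', ht⟩ : ∃ x : G, x ≠ 1 ∧ orderOf x ∣ q ∧ ∀ c ∈ cen1 x, t * c * t⁻¹ = c⁻¹ := by
    obtain ⟨x, hx, hx'⟩ := d.exists_q h
    obtain ⟨u, hu, hu'⟩ := f x hx hx'
    obtain ⟨g, rfl⟩ := isConj_iff.1 hu
    refine ⟨g⁻¹ * x * g⁻¹⁻¹, mt conj_eq_one_iff.1 hx, ?_, fun c hc => ?_⟩
    · rwa [show g⁻¹ * x * g⁻¹⁻¹ = MulAut.conj g⁻¹ x from rfl, MulEquiv.orderOf_eq]
    · have := hu' (g * c * g⁻¹) (by rw [← cj_cen1, mem_cj] at hc; simpa using hc)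
      calc t * c * t⁻¹ = g⁻¹ * (g * t * g⁻¹ * (g * c * g⁻¹) * (g * t * g⁻¹)⁻¹) * g := by group
        _ = _ := by rw [this]; group
  obtain ⟨cc, h1, h2⟩ := d.ti h (fun x h1 h2 => ⟨((d.qq x h1 h2).1 hq).2,
    let ⟨u, _, hu⟩ := f x h1 h2; isComm_iff'.2 fun a ha b hb => comm_of_inv hu ha hb⟩) hx hx'
  have hQ := ((d.qq x hx hx').1 hq).2
  set Q := cen1 x
  have hr : r = ord K + 1 := by have := d.cs; omega
  have hN : ord (nrm Q) = ord K * q := Nat.eq_of_mul_eq_mul_right (show 0 < q + 1 by omega) (by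
    rw [← h1, card_mul_index, h1, h.card_G, d.idx, hq, hr]; ring)
  have hodd : Odd (ord Q) := by rw [hQ, hq]; simp
  have hd : ∀ L, L ≤ cen1 t → L ⊓ Q = ⊥ := fun L hL => eq_bot_iff.2 fun y hy => by_contra fun e =>
    not_mem_of_odd hodd h.t2 h.t1 (cc y hy.2 e ▸ mem_cen1_comm.1 (hL hy.1))
  have htN : t ∈ nrm Q := H1.mem_normalizer_of_conj_mem fun y hy => ht y hy ▸ inv_mem hy
  have h3 : ∀ v, (∀ y ∈ Q, v * y * v⁻¹ = y⁻¹) → t * v ∈ Q := fun v e => mem_cen1.2 (by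
    have := ht _ (inv_mem (self_mem_cen1 x))
    calc t * v * x = t * (v * x * v⁻¹) * t⁻¹ * (t * v) := by group
      _ = _ := by rw [e x (self_mem_cen1 x), this, inv_inv])
  have h4 : nrm Q ⊓ cen1 t ≤ K := fun v hv => ((h.cen_iff v).1 hv.2).elim id fun e => by
    have h5 := sq_of_isConj h.t2 (h.out e).2.1
    have := h3 v (inv_of_cc cc hv.1 h5 (not_mem_of_odd hodd h5 (ne_one_of_isConj h.t1 (h.out e).2.1)))
    have h6 : t * v = 1 := mem_bot.1 ((hd _ le_rfl).le ⟨mul_mem (self_mem_cen1 t) hv.2, this⟩)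
    rw [eq_inv_of_mul_eq_one_right h6]; exact inv_mem h.tK
  have h5 : nrm Q ≤ (nrm Q ⊓ K) ⊔ Q := fun n hn => by
    have h6 := h3 (n * t * n⁻¹) fun y hy => by
      have := ht _ (nconj_mem' hn hy)
      calc n * t * n⁻¹ * y * (n * t * n⁻¹)⁻¹ = n * (t * (n⁻¹ * y * n) * t⁻¹) * n⁻¹ := by group
        _ = _ := by rw [this]; group
    obtain ⟨c, hc, e⟩ : ∃ c ∈ Q, c * c = t * (n * t * n⁻¹) := by
      obtain ⟨j, hj⟩ := hodd
      refine ⟨(t * (n * t * n⁻¹)) ^ (j + 1), pow_mem h6 _, ?_⟩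
      rw [← pow_add, show j + 1 + (j + 1) = ord Q + 1 by omega, pow_succ,
        orderOf_dvd_iff_pow_eq_one.1 (orderOf_dvd_card' h6), one_mul]
    have h7 : c * n ∈ nrm Q := mul_mem (le_nrm_self _ hc) hn
    have h8 : c * n ∈ K := h4 ⟨h7, mem_cen1.2 (by
      calc c * n * t = t⁻¹ * (t * c * t⁻¹) * (t * (n * t * n⁻¹)) * n := by group
        _ = _ := by rw [ht c hc, ← e, inv_eq_of_mul_eq_one_right h.t2]; group)⟩
    rw [show n = c⁻¹ * (c * n) by group]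
    exact mul_mem (mem_sup_right (inv_mem hc)) (mem_sup_left ⟨h7, h8⟩)
  have h6 : nrm Q ⊓ K = K := eq_of_le_of_card_le inf_le_right (Nat.le_of_mul_le_mul_right (by
    have := card_le_of_le h5
    rwa [card_sup_of_inf_eq_bot inf_le_left (hd _ (inf_le_right.trans h.le_cen)), hN, hQ] at this)
      (show 0 < q by omega))
  rw [h6, sup_comm] at h5
  exact ⟨Q, hQ ▸ h2, cc, isComm_iff'.2 h.comm, hQ ▸ hq.symm, inf_comm K Q ▸ hd K h.le_cen,
    h5.antisymm (sup_le (le_nrm_self _) (h6 ▸ inf_le_left)), nX_of_dih (isComm_iff'.2 h.comm) h.inv h.s2 h.sK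
      fun y hy hy1 g hg => h.sup_eq ▸ h.ti g y hy hy1 hg⟩

/-- in the second case, elements of order dividing `q` are not real -/
theorem Dat.not_real (d : Dat t K q r) (h : BSW t s K) (hq : q + 1 = 2 * ord K) (hx : x ≠ 1)
    (hx' : orderOf x ∣ q) : ord (cen1 x) ∣ q ∧ ∀ g, g * x * g⁻¹ ≠ x⁻¹ := by
  obtain ⟨c1, c2, c3⟩ := bsw_cop h.two_dvd d.cs
  have h1 : ord (cen1 x) ∣ q := (d.ty x (not_inK_of_coprime hx hx' c1)).resolve_right fun e =>
    hx (orderOf_eq_one_iff.1 (Nat.eq_one_of_dvd_coprimes c3 hx' ((orderOf_dvd_card' (self_mem_cen1 x)).trans e)))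
  have ho : Odd (ord (cen1 x)) := Odd.of_dvd_nat (Nat.odd_iff.2 (by omega)) h1
  have h0 : x * x ≠ 1 := fun e => not_mem_of_odd ho e hx (self_mem_cen1 x)
  have h2 : ∀ u, u * u = 1 → u * x * u⁻¹ ≠ x⁻¹ := fun u hu e => by
    have h3 : u ≠ 1 := by rintro rfl; exact h0 (by simpa [eq_inv_iff_mul_eq_one] using e)
    refine (Nat.card_ne_zero.2 ⟨⟨⟨u, h.cls u h3 hu, h.cls _ (fun e' => ?_) ?_⟩⟩, inferInstance⟩ :
      nPr t x ≠ 0) ((d.qq x hx hx').2 hq)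
    · rw [inv_mul_eq_one.1 e'] at hu; exact h0 hu
    · rw [inv_eq_of_mul_eq_one_right hu] at e ⊢
      rw [← mul_assoc, e, inv_mul_cancel]
  refine ⟨h1, fun g e => ?_⟩
  have h3 : g * g ∈ cen1 x := mem_cen1.2 (by
    calc g * g * x = g * (g * x * g⁻¹) * g := by group
      _ = g * x⁻¹ * g := by rw [e]
      _ = (g * x * g⁻¹)⁻¹ * (g * g) := by group
      _ = _ := by rw [e, inv_inv])
  obtain ⟨j, hj⟩ := ho
  refine h2 (g ^ ord (cen1 x)) ?_ ?_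
  · rw [← Commute.mul_pow (Commute.refl g)]; exact orderOf_dvd_iff_pow_eq_one.1 (orderOf_dvd_card' h3)
  · have := mem_cen1.1 (pow_mem h3 j)
    rw [hj, pow_succ', pow_mul, pow_two, mul_assoc g, this, ← e]; group

theorem Dat.conj_or (d : Dat t K q r) (h : BSW t s K) (hq : q + 1 = 2 * ord K) (hx : x ≠ 1)
    (hx' : orderOf x ∣ q) : ord (cen1 x) = q ∧ ∀ y : G, y ≠ 1 → orderOf y ∣ q → orderOf y = orderOf x := by
  obtain ⟨h1, h2⟩ := d.not_real h hq hx hx'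
  have hr : r + 1 = ord K := by have := d.cs; omega
  have f : ∀ a b : G, IsConj a b → orderOf b = orderOf a := fun a b e => by
    obtain ⟨c, rfl⟩ := isConj_iff.1 e
    exact MulEquiv.orderOf_eq (MulAut.conj c) a
  have h3 : {y | IsConj x y} ∪ {y | IsConj x⁻¹ y} ⊆ {y | y ≠ 1 ∧ orderOf y ∣ q} := by
    rintro y (e | e)
    · exact ⟨ne_one_of_isConj hx e, f _ _ e ▸ hx'⟩
    · exact ⟨ne_one_of_isConj (inv_ne_one.2 hx) e, by rwa [f _ _ e, orderOf_inv]⟩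
  have h4 : ({y | IsConj x y} ∪ {y | IsConj x⁻¹ y}).ncard = 2 * (cen1 x).index := by
    rw [Set.ncard_union_eq (s := {y | IsConj x y}) (t := {y | IsConj x⁻¹ y})
      (Set.disjoint_left.2 fun y e e' => (isConj_iff.1
      (IsConj.trans e (IsConj.symm e'))).elim h2), two_mul, ← Nat.card_coe_set_eq, ← Nat.card_coe_set_eq]
    exact congrArg₂ (· + ·) (H3.card_isConj_eq_index x) ((H3.card_isConj_eq_index x⁻¹).trans (by
      congr 1; ext c; simp only [mem_cen1]; exact Commute.inv_right_iff))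
  have h5 : {y : G | y ≠ 1 ∧ orderOf y ∣ q}.ncard + 1 = q ^ 2 := d.nq
  have h6 := Set.ncard_le_ncard h3
  have h7 := (cen1 x).card_mul_index
  rw [h.card_G, d.idx] at h7
  have h8 := Nat.le_of_dvd (by have := card_pos' K; omega) h1
  have h9 : q ^ 2 = 2 * (2 * ord K * r) + 1 := by
    rw [← hr, show q = 2 * r + 1 by omega]; ring
  have h10 : 2 * ord K * r ≤ (cen1 x).index := Nat.le_of_mul_le_mul_left (by
    calc q * (2 * ord K * r) = ord (cen1 x) * (cen1 x).index := by rw [h7]; ring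
      _ ≤ _ := Nat.mul_le_mul_right _ h8) (show 0 < q by have := card_pos' K; omega)
  refine ⟨Nat.eq_of_mul_eq_mul_right (Nat.pos_of_ne_zero (cen1 x).index_ne_zero_of_finite) ?_, fun y hy hy' => ?_⟩
  · rw [h7, show (cen1 x).index = 2 * ord K * r by omega]; ring
  · rcases (Set.eq_of_subset_of_ncard_le h3 (by omega)).ge ⟨hy, hy'⟩ with e | e
    · exact f _ _ e
    · rw [f _ _ e, orderOf_inv]

theorem Dat.comm_q (d : Dat t K q r) (h : BSW t s K) (hq : q + 1 = 2 * ord K) (hx : x ≠ 1)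
    (hx' : orderOf x ∣ q) : IsMulCommutative (cen1 x) := by
  obtain ⟨c1, c2, c3⟩ := bsw_cop h.two_dvd d.cs
  obtain ⟨p, hp, hd⟩ := Nat.exists_prime_and_dvd (mt orderOf_eq_one_iff.1 hx)
  haveI := Fact.mk hp
  obtain ⟨z, -, hz⟩ := exists_orderOf_eq (H := zpowers x) hp (by rwa [Nat.card_zpowers])
  have hz1 : z ≠ 1 := fun e => hp.one_lt.ne' (by rw [← hz, e, orderOf_one])
  have h1 : ∀ y : G, orderOf y ∣ q → y ^ p = 1 := fun y hy => by
    by_cases e : y = 1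
    · simp [e]
    rw [← hz, ← (d.conj_or h hq hz1 (hz ▸ hd.trans hx')).2 y e hy, pow_orderOf_eq_one]
  have h2 : ∀ y : G, y ≠ 1 → orderOf y ∣ q → IsSylowIn p (cen1 y) ⊤ := fun y hy hy' =>
    ⟨le_top, fun c => ⟨1, Subtype.ext (by
      rw [pow_one]; exact h1 c ((d.conj_or h hq hy hy').1 ▸ orderOf_dvd_card' c.2))⟩, fun e => by
      have := (cen1 y).card_mul_index
      rw [(d.conj_or h hq hy hy').1, h.card_G, d.idx, mul_left_comm, Nat.mul_left_cancel_iff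
        (by have := card_pos' K; omega)] at this
      rw [relIndex_top_right, this] at e
      exact hp.one_lt.ne' (Nat.eq_one_of_dvd_coprimes (c1.mul_right c3) (hd.trans hx') e)⟩
  have h3 : ∀ y : G, IsPGroup p (zpowers y) → orderOf y ∣ q := fun y hy => by
    obtain ⟨g, -, hg⟩ := (h2 x hx hx').exists_cj_le hy le_top
    have := orderOf_dvd_card' (hg (H2.conj_mem_cj (mem_zpowers y)))
    rwa [show g * y * g⁻¹ = MulAut.conj g y from rfl, MulEquiv.orderOf_eq, (d.conj_or h hq hx hx').1] at this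
  have h4 : ∀ g : G, p ∣ orderOf g → g ^ p = 1 := fun g hg => by
    obtain ⟨y, hy, hy'⟩ := exists_orderOf_eq (H := zpowers g) hp (by rwa [Nat.card_zpowers])
    have hy1 : y ≠ 1 := fun e => hp.one_lt.ne' (by rw [← hy', e, orderOf_one])
    obtain ⟨j, rfl⟩ := hy
    exact h1 g ((d.conj_or h hq hy1 (hy' ▸ hd.trans hx')).1 ▸
      orderOf_dvd_card' (mem_cen1.2 (Commute.self_zpow g j)))
  have h5 := syl_eq_of_closed (p := p) (G := G) fun U hU hU1 => by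
    obtain ⟨y, hy, hy1⟩ := exists_ne_one hU1
    have f : ∀ y ∈ U, orderOf y ∣ q := fun y hy => h3 y (hU.to_le (zpowers_le.2 hy))
    haveI : Group.IsSolvable (nrm U) := solv_of_odd (Nat.not_even_iff_odd.1 fun e => by
      obtain ⟨v, hv, h2, h1⟩ := exists_invol_of_even e
      have h6 : y⁻¹ * (v * y * v⁻¹) ≠ 1 := fun e => not_mem_of_odd (Odd.of_dvd_nat (Nat.odd_iff.2 (by omega))
        (d.not_real h hq hy1 (f y hy)).1) h2 h1 (mem_cen1.2 (mul_inv_eq_iff_eq_mul.1 (inv_mul_eq_one.1 e).symm))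
      refine (d.not_real h hq h6 (f _ (mul_mem (inv_mem hy) (nconj_mem hv hy)))).2 v ?_
      calc v * (y⁻¹ * (v * y * v⁻¹)) * v⁻¹ = v * y⁻¹ * v⁻¹ * (v * v) * y * (v * v)⁻¹ := by group
        _ = _ := by rw [h2]; group)
    refine ⟨(pCore p (nrm U)).map (nrm U).subtype, H1.isPGroup_pCore.map _, fun w hw hw' => ⟨⟨w, hw⟩,
      mem_pCore_of_exp (U := U.subgroupOf (nrm U)) (fun g hg => Subtype.ext (h4 g (by simpa using hg)))
        hU.comap_subtype (fun c => ⟨1, Subtype.ext (Subtype.ext ?_)⟩) (isPGroup_zpowers (k := 1)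
          (Subtype.ext (by simpa using h1 w (h3 w hw')))), rfl⟩⟩
    have : (c : G) ∈ cen1 y := mem_cen1.2 (congrArg Subtype.val (c.2 ⟨y, le_nrm_self U hy⟩ hy)).symm
    simpa using h1 c ((d.conj_or h hq hy1 (f y hy)).1 ▸ orderOf_dvd_card' this)
  refine isComm_iff'.2 fun a ha b hb => ?_
  by_cases e : b = 1
  · simp [e]
  rwa [h5 (zpowers b) (by simpa using e) _ _ (h2 x hx hx') (h2 b e ((d.conj_or h hq hx hx').1 ▸
    orderOf_dvd_card' hb)) (zpowers_le.2 hb) (zpowers_le.2 (self_mem_cen1 b)), mem_cen1] at ha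

theorem Dat.case2 (d : Dat t K q r) (h : BSW t s K) (hq : q + 1 = 2 * ord K) :
    ∃ Q D : Subgroup G, BSWc Q D ∧ ord Q = q := by
  obtain ⟨c1, c2, c3⟩ := bsw_cop h.two_dvd d.cs
  have hr : r + 1 = ord K := by have := d.cs; omega
  have hk := Nat.le_of_dvd (card_pos' K) h.two_dvd
  obtain ⟨x, hx, hx'⟩ := d.exists_q h
  obtain ⟨cc, h1, h2⟩ := d.ti h (fun x h1 h2 => ⟨(d.conj_or h hq h1 h2).1, d.comm_q h hq h1 h2⟩) hx hx'
  have hQ := (d.conj_or h hq hx hx').1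
  set Q := cen1 x
  have hN : Q.relIndex (nrm Q) = r := Nat.eq_of_mul_eq_mul_right (show 0 < q * (q + 1) from Nat.mul_pos (by omega) (by omega)) (by
    rw [← mul_assoc, ← h1, ← hQ, relIndex_mul_card' (le_nrm_self Q), card_mul_index, h.card_G, d.idx, h1, hQ, hq]
    ring)
  obtain ⟨D, h3, h4, h5⟩ := exists_compl (le_nrm_self Q) le_rfl (by rwa [hN, hQ])
  rw [hN] at h5
  suffices IsMulCommutative D ∧ _ from ⟨Q, D, ⟨hQ ▸ h2, cc, this.1, by omega, inf_comm D Q ▸ h4,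
    sup_comm D Q ▸ h3.symm, this.2⟩, hQ⟩
  by_cases hD : D = ⊥
  · subst hD; exact ⟨inferInstance, fun X hX h => (h (le_bot_iff.1 hX)).elim⟩
  have f : ∀ y : G, y ≠ 1 → orderOf y ∣ r → ∃ u, IsConj t u ∧ ∀ c ∈ cen1 y, u * c * u⁻¹ = c⁻¹ :=
    fun y h1 h2 => (nPr_le h.t2).2.2 ((d.rr y h1 h2).1.trans (d.rr y h1 h2).2.symm)
  have ho : Odd r := Nat.coprime_two_right.1 (Nat.Coprime.coprime_mul_right_right c2)
  obtain ⟨A, hA, hA1, hA2, -, p, -, hA3⟩ := H1B.exists_min_normal_ea (H := D) (solv_of_odd (h5 ▸ ho)) hD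
    (le_nrm_self D)
  obtain ⟨y, hy, hy1⟩ := exists_ne_one hA1
  have hy' : orderOf y ∣ r := h5 ▸ orderOf_dvd_card' (hA hy)
  obtain ⟨e1, e2⟩ := ti_count (m := r) (by
    rw [h.card_G, d.idx, ← mul_assoc, Nat.mul_div_cancel _ (by omega)]; exact c2.mul_right c3.symm)
    (fun x h1 h2 => ⟨(d.rr x h1 h2).2, let ⟨u, _, hu⟩ := f x h1 h2
      isComm_iff'.2 fun a ha b hb => comm_of_inv hu ha hb⟩) hy1 hy'
  have hE := (d.rr y hy1 hy').2
  have h6 : 1 < r := h5 ▸ (one_lt_card_iff_ne_bot D).2 hD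
  rw [d.nr, Nat.mul_right_cancel_iff (by omega)] at e2
  have h7 : (cen1 y).relIndex (nrm (cen1 y)) = 2 :=
    Nat.eq_of_mul_eq_mul_right (show 0 < r * (q * ord K) from Nat.mul_pos (by omega) (Nat.mul_pos (by omega) (by omega))) (by
      rw [← mul_assoc, e2, ← hE, relIndex_mul_card' (le_nrm_self _), card_mul_index, h.card_G, d.idx, ← e2, hE]
      ring)
  have h8 : D ≤ nrm (cen1 y) := fun c hc =>
    nrm_le_of_cc e1 (self_mem_cen1 y) hy1 (hA3.le_cen1 hy (nconj_mem (hA2 hc) hy))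
  obtain rfl : D = cen1 y := eq_of_le_of_card_le (H7.le_of_coprime_relIndex h8 h8 (le_nrm_self _)
    (by rw [h7, h5]; exact Nat.coprime_two_right.2 ho)) (by rw [hE, h5])
  obtain ⟨u, hu, hu'⟩ := f y hy1 hy'
  have hc := isComm_iff'.2 fun a ha b hb => comm_of_inv hu' ha hb
  have h9 := not_mem_of_odd (hE ▸ ho) (sq_of_isConj h.t2 hu) (ne_one_of_isConj h.t1 hu)
  refine ⟨hc, nX_of_dih hc hu' (sq_of_isConj h.t2 hu) h9 fun z hz hz1 g hg => ?_⟩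
  rw [H1.sup_zpowers_eq_of_relIndex_prime (h7 ▸ Nat.prime_two) (le_nrm_self _)
    (H1.mem_normalizer_of_conj_mem fun c hc => hu' c hc ▸ inv_mem hc) h9]
  exact nrm_le_of_cc e1 hz hz1 hg

/-- **Brauer–Suzuki–Wall** -/
theorem BSW.main (h : BSW t s K) :
    ∃ Q D : Subgroup G, BSWc Q D ∧ (ord Q = 2 * ord K + 1 ∨ ord Q + 1 = 2 * ord K) := by
  obtain ⟨q, r, d⟩ := h.exists_dat
  rcases d.cs with e | e
  · obtain ⟨Q, hQ⟩ := d.case1 h e.1
    exact ⟨Q, K, hQ, Or.inl hQ.cD.symm⟩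
  · obtain ⟨Q, D, hQ, e'⟩ := d.case2 h e.1
    exact ⟨Q, D, hQ, Or.inr (e' ▸ e.1)⟩

end H8
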