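import Cfsg.Agent.H8.BSW6
import Cfsg.Agent.H8.Zas6

/-! Brauer–Suzuki–Wall: identification with `PSL₂(q)`. -/

namespace H8

open Subgroup Cfsg H7 MulAction

variable {G : Type*} [Group G] [Finite G] {t s x g u v : G} {K Q D N : Subgroup G} {p q r m : ℕ}

theorem BSWc.psl (h : BSWc Q D) (h3 : 3 ≤ ord Q) : (∃ p f, p.Prime ∧ f ≠ 0 ∧ ord Q = p ^ f) ∧
    ∀ (F : Type*) [Field F] [Finite F], Nat.card F = ord Q →
      Nonempty (G ≃* Matrix.ProjectiveSpecialLinearGroup (Fin 2) F) := by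
  have hDN : D ≤ nrm Q := h.nQ ▸ le_sup_right
  have hN : ord (nrm Q) = ord D * ord Q := by
    rw [h.nQ, sup_comm, card_sup_of_inf_eq_bot hDN (inf_comm D Q ▸ h.disj)]
  have hD := card_pos' D
  have hG : Nat.card G = (ord Q + 1) * ord Q * ord D := Nat.eq_of_mul_eq_mul_left two_pos (by
    rw [h.card, show ord Q - 1 = 2 * ord D by have := h.cD; omega]; ring)
  have hi : Nat.card (G ⧸ nrm Q) = ord Q + 1 := Nat.eq_of_mul_eq_mul_left (card_pos' (nrm Q)) (by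
    rw [← index_eq_card, card_mul_index, hG, hN]; ring)
  have hst : ∀ g : G, g • ((1 : G) : G ⧸ nrm Q) = ((1 : G) : G ⧸ nrm Q) ↔ g ∈ nrm Q := fun g => by
    rw [← mem_stabilizer_iff, stabilizer_quotient]
  have hs : ∀ u ∈ Q, ∀ b : G ⧸ nrm Q, b ≠ ((1 : G) : G ⧸ nrm Q) → u • b = b → u = 1 := fun u hu b hb e => by
    obtain ⟨g, rfl⟩ := QuotientGroup.mk_surjective b
    by_contra h1
    have h2 : g⁻¹ * u * g⁻¹⁻¹ ∈ nrm Q := by
      have := inv_mem (QuotientGroup.eq.1 e); simpa [mul_assoc] using this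
    refine hb (QuotientGroup.eq.2 (mul_mem (nrm_le_of_cc h.cc hu h1 (zpowers_le.1
      (H7.le_of_coprime_relIndex (zpowers_le.2 h2) (zpowers_le.2 h2) (le_nrm_self Q) ?_))) (one_mem _)))
    rw [show Q.relIndex (nrm Q) = ord D from Nat.eq_of_mul_eq_mul_right (card_pos' Q)
      (by rw [relIndex_mul_card' (le_nrm_self Q), hN]), Nat.card_zpowers,
      show g⁻¹ * u * g⁻¹⁻¹ = MulAut.conj g⁻¹ u from rfl, MulEquiv.orderOf_eq]
    exact Nat.Coprime.coprime_dvd_left (orderOf_dvd_card' hu) (by rw [← h.cD]; simp)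
  have hPa : Q ≤ stabilizer G ((1 : G) : G ⧸ nrm Q) := fun u hu => (hst u).2 (le_nrm_self Q hu)
  have z : Zs G (G ⧸ nrm Q) := zs_of_reg (by omega) hi.symm hPa hs (fun g hg u hu => nconj_mem ((hst g).1 hg) hu)
    fun g _ b hb e u hu hu1 e' => hs g (h.cc u hu hu1 ▸ mem_cen1.2 e') b hb e
  have hk : z.ker ((1 : G) : G ⧸ nrm Q) = Q := (z.eq_ker_of_card hPa hi.symm fun u hu hu1 c e =>
    by_contra fun hc => hu1 (hs u hu c hc e)).symm
  have hS : ∀ b, ((1 : G) : G ⧸ nrm Q) ≠ b → ord (S2 G ((1 : G) : G ⧸ nrm Q) b) = ord D := fun b hb =>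
    Nat.eq_of_mul_eq_mul_left (show 0 < (ord Q + 1) * ord Q by positivity) (by rw [← hG, z.card_G hb, hk])
  haveI : IsMulCommutative (z.ker ((1 : G) : G ⧸ nrm Q)) := by
    rw [hk]; refine isComm_iff'.2 fun a ha b hb => ?_
    by_cases e : b = 1
    · simp [e]
    · exact mem_cen1.1 (h.cc b hb e ▸ ha)
  obtain ⟨b, hb, hinv⟩ : ∃ b, ((1 : G) : G ⧸ nrm Q) ≠ b ∧ ∀ s : G, Sw s ((1 : G) : G ⧸ nrm Q) b →
      ∀ k ∈ S2 G ((1 : G) : G ⧸ nrm Q) b, s * k * s⁻¹ = k⁻¹ := by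
    by_cases e : D = ⊥
    · obtain ⟨b, hb⟩ := z.exists_ne ((1 : G) : G ⧸ nrm Q)
      refine ⟨b, hb.symm, fun s _ k hk => ?_⟩
      rw [card_eq_one.1 ((hS b hb.symm).trans (card_eq_one.2 e)), mem_bot] at hk
      simp [hk]
    obtain ⟨-, u, hu, huD, hu', -⟩ := h.nX D le_rfl e
    have h2 : u * u = 1 := by rw [← pow_two, ← hu, pow_orderOf_eq_one]
    have h4 : u ∈ nrm D := H1.mem_normalizer_of_conj_mem fun c hc => hu' c hc ▸ inv_mem hc
    have h5 : ((1 : G) : G ⧸ nrm Q) ≠ u • ((1 : G) : G ⧸ nrm Q) := fun e => by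
      have := card_dvd_of_le (sup_le hDN (zpowers_le.2 ((hst u).1 e.symm)))
      rw [H1.card_sup_zpowers Nat.prime_two h4 huD (by rw [pow_two, h2]; exact one_mem _), hN,
        Nat.mul_dvd_mul_iff_left hD, ← h.cD] at this
      omega
    refine ⟨_, h5, fun s hs => inv_of_one_inv (t := u) ⟨rfl, by rw [← mul_smul, h2, one_smul]⟩ ?_ hs⟩
    rwa [← eq_of_le_of_card_le (H := D) (fun d hd => mem_S2.2 ⟨(hst d).2 (hDN hd), by
      rw [← mul_smul, show d * u = u * (u⁻¹ * d * u) by group, mul_smul,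
        (hst _).2 (hDN (nconj_mem' h4 hd))]⟩) (hS _ h5).le]
  refine ⟨?_, fun F _ _ hF => (z.pgl_or_psl hb hinv F (by rw [hk, hF])).2 (by
    rw [hk, hS b hb]; have := h.cD; omega)⟩
  by_cases e : S2 G ((1 : G) : G ⧸ nrm Q) b = ⊥
  · exact ⟨3, 1, Nat.prime_three, one_ne_zero, by rw [← h.cD, ← hS b hb, card_eq_one.2 e]; rfl⟩
  obtain ⟨-, p, hp, h4⟩ := z.elem_of_large hb e (by rw [hk, hS b hb]; have := h.cD; omega)
  obtain ⟨f, hf, h5⟩ := z.card_of_elem hp h4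
  exact ⟨p, f, hp, hf, hk ▸ h5⟩

theorem BSW.psl (h : BSW t s K) : ∃ q, (q = 2 * ord K + 1 ∨ q + 1 = 2 * ord K) ∧
    (∃ p f, p.Prime ∧ f ≠ 0 ∧ q = p ^ f) ∧ 2 * Nat.card G = q * (q + 1) * (q - 1) ∧
    ∀ (F : Type*) [Field F] [Finite F], Nat.card F = q →
      Nonempty (G ≃* Matrix.ProjectiveSpecialLinearGroup (Fin 2) F) := by
  obtain ⟨Q, D, c, e⟩ := h.main
  have hk := Nat.le_of_dvd (card_pos' K) h.two_dvd
  obtain ⟨h1, h2⟩ := c.psl (by omega)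
  exact ⟨_, e, h1, c.card, h2⟩

theorem BSW.exists_psl (h : BSW t s K) : ∃ (F : Type) (_ : Field F) (_ : Fintype F), Odd (Fintype.card F) ∧
    Nonempty (G ≃* Matrix.ProjectiveSpecialLinearGroup (Fin 2) F) := by
  obtain ⟨q, e, ⟨p, f, hp, hf, rfl⟩, -, h2⟩ := h.psl
  haveI := Fact.mk hp
  haveI := Fintype.ofFinite (GaloisField p f)
  have := GaloisField.card p f hf
  exact ⟨GaloisField p f, inferInstance, inferInstance, by
    rw [← Nat.card_eq_fintype_card, this, Nat.odd_iff]; omega, h2 _ this⟩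

end H8
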