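import Cfsg.Agent.H8.BSW7
import Cfsg.Agent.H8.Invol
import Cfsg.Agent.H9.Quat
import Cfsg.Agent.H7.GL2
import Cfsg.Agent.H2.Transfer

/-! Groups with dihedral Sylow 2-subgroups: fusion, and the BSW hypotheses. -/

namespace H8

open Subgroup Cfsg H7

variable {G : Type*} [Group G] {t s a x g u v : G} {S H O M Q : Subgroup G} {n : ℕ}

/-- `S` is dihedral with rotation `a` and reflection `s` -/
structure Dih (S : Subgroup G) (a s : G) : Prop where
  s2 : s * s = 1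
  inv : s * a * s⁻¹ = a⁻¹
  sa : s ∉ zpowers a
  mem : ∀ g, g ∈ S ↔ g ∈ zpowers a ∨ s * g ∈ zpowers a

theorem exists_dih [NeZero n] (e : S ≃* DihedralGroup n) : ∃ a s, Dih S a s ∧ orderOf a = n := by
  let f : DihedralGroup n →* G := S.subtype.comp e.symm.toMonoidHom
  have hf : Function.Injective f := S.subtype_injective.comp e.symm.injective
  have h1 : ∀ i, f (.r i) ∈ zpowers (f (.r 1)) := fun i => ⟨i.val, by
    simp only [← map_zpow, DihedralGroup.r_one_zpow]; simp⟩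
  refine ⟨f (.r 1), f (.sr 0), ⟨by rw [← map_mul, DihedralGroup.sr_mul_self, map_one], by
    simp only [← map_mul, ← map_inv]; simp, fun ⟨k, hk⟩ => ?_, fun g => ⟨fun hg => ?_, fun hg => ?_⟩⟩, by
    rw [orderOf_injective f hf, DihedralGroup.orderOf_r_one]⟩
  · simp only [← map_zpow, DihedralGroup.r_one_zpow] at hk
    cases hf hk
  · obtain ⟨y, rfl⟩ : ∃ y, f y = g := ⟨e ⟨g, hg⟩, by simp [f]⟩
    rcases y with i | i
    · exact Or.inl (h1 i)
    · exact Or.inr (by rw [← map_mul, DihedralGroup.sr_mul_sr]; exact h1 _)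
  · have h2 : zpowers (f (.r 1)) ≤ S := zpowers_le.2 (e.symm _).2
    exact hg.elim (fun e => h2 e) fun e' => (mul_mem_cancel_left (e.symm (.sr 0)).2).1 (h2 e')

theorem tt_rel [Finite G] (hS : IsSylowIn 2 S H) (hQ : Q.relIndex S = 2) (hu : u ∈ S) (h2 : u * u = 1)
    (h : ∀ g ∈ H, g * u * g⁻¹ ∉ Q) : ∃ M ≤ H, M.relIndex H = 2 ∧ u ∉ M := by
  obtain ⟨M, -, h1, h3⟩ := H2.thompson_transfer (G := H) (P := S.subgroupOf H) (Q := Q.subgroupOf H) hS.not_dvd
    (by rwa [relIndex_subgroupOf hS.le]) (u := ⟨u, hS.le hu⟩) hu (Subtype.ext (by simpa [pow_two] using h2))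
    fun g e => h g g.2 e
  refine ⟨M.map H.subtype, map_subtype_le M, ?_, fun ⟨y, hy, e⟩ => h3 (by subst e; exact hy)⟩
  rwa [relIndex, subgroupOf, comap_map_eq_self_of_injective H.subtype_injective]

theorem mul_mem_iff_rel (h : M.relIndex H = 2) (hx : x ∈ H) (hg : g ∈ H) : x * g ∈ M ↔ (x ∈ M ↔ g ∈ M) :=
  mul_mem_iff_of_index_two (H := M.subgroupOf H) h (a := ⟨x, hx⟩) (b := ⟨g, hg⟩)

theorem le_nrm_rel [Finite G] (h : M.relIndex H = 2) (hM : M ≤ H) : H ≤ nrm M := fun g hg =>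
  H1.mem_normalizer_of_conj_mem fun x hx => by
    rw [mul_mem_iff_rel h (mul_mem hg (hM hx)) (inv_mem hg), mul_mem_cancel_right hx, inv_mem_iff]

theorem invol_zpowers [Finite G] (hx : x ∈ zpowers a) (ht : t ∈ zpowers a) (h1 : x * x = 1) (h2 : t * t = 1)
    (hx1 : x ≠ 1) (ht1 : t ≠ 1) : x = t :=
  congrArg Subtype.val (eq_of_sq_of_isCyclic (G := zpowers a) (x := ⟨x, hx⟩) (y := ⟨t, ht⟩)
    (Subtype.ext (by simpa [pow_two] using h1)) (Subtype.ext (by simpa [pow_two] using h2))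
    (fun e => hx1 (congrArg Subtype.val e)) fun e => ht1 (congrArg Subtype.val e))

namespace Dih
variable (h : Dih S a s)
include h

theorem le : zpowers a ≤ S := fun _ hx => (h.mem _).2 (Or.inl hx)

theorem sS : s ∈ S := (h.mem _).2 (Or.inr (h.s2 ▸ one_mem _))

theorem aS : a ∈ S := h.le (mem_zpowers a)

theorem inv' (hx : x ∈ zpowers a) : s * x * s⁻¹ = x⁻¹ := by
  obtain ⟨k, rfl⟩ := hx
  simp only [← conj_zpow, h.inv, inv_zpow]

theorem out (hg : s * g ∈ zpowers a) : g ∉ zpowers a ∧ g * g = 1 ∧ ∀ x ∈ zpowers a, g * x * g⁻¹ = x⁻¹ := by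
  have h1 : g ∉ zpowers a := fun e => h.sa ((mul_mem_cancel_right e).1 hg)
  obtain ⟨y, rfl⟩ : ∃ y, g = s * y := ⟨s * g, by rw [← mul_assoc, h.s2, one_mul]⟩
  rw [← mul_assoc, h.s2, one_mul] at hg
  refine ⟨h1, ?_, fun x hx => ?_⟩
  · have := h.inv' hg
    rw [inv_eq_of_mul_eq_one_right h.s2] at this
    rw [← mul_assoc, this]; simp
  · rw [← h.inv' hx, mul_assoc s y, isComm_iff'.1 (inferInstance : IsMulCommutative (zpowers a)) y hg x hx]
    group

/-- any other reflection will do -/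
theorem swap (hg : s * g ∈ zpowers a) : Dih S a g :=
  ⟨(h.out hg).2.1, (h.out hg).2.2 a (mem_zpowers a), (h.out hg).1, fun x => (h.mem x).trans (or_congr_right (by
    rw [← mul_mem_cancel_left (inv_mem hg), mul_inv_rev, inv_eq_of_mul_eq_one_right (h.out hg).2.1]
    simp [mul_assoc]))⟩

theorem sa_mem : s * (s * a) ∈ zpowers a := by rw [← mul_assoc, h.s2, one_mul]; exact mem_zpowers a

theorem relIndex : (zpowers a).relIndex S = 2 :=
  index_eq_two_iff'.2 ⟨⟨s, h.sS⟩, fun b => ((h.mem b).1 b.2).elim (fun e => Or.inr ⟨e, fun e' => (h.out e').1 e⟩)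
    fun e => Or.inl ⟨e, (h.out e).1⟩⟩

theorem card [Finite G] : ord S = 2 * orderOf a := by
  rw [← relIndex_mul_card' h.le, h.relIndex, Nat.card_zpowers]

theorem central (ha : a ≠ 1) (ht : t ∈ S) (hc : S ≤ cen1 t) : ∃ a s, Dih S a s ∧ t ∈ zpowers a := by
  rcases (h.mem t).1 ht with e | e
  · exact ⟨a, s, h, e⟩
  replace h := h.swap e
  have h1 := mem_cen1.1 (hc h.aS)
  have h2 : a * a = 1 := by
    have := h.inv; rw [← h1, mul_inv_cancel_right] at this; exact mul_eq_one_iff_eq_inv.2 this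
  refine ⟨t, a, ⟨h2, by rw [h1, mul_inv_cancel_right, inv_eq_of_mul_eq_one_right h.s2], fun e => ?_, fun g =>
    ⟨fun hg => ?_, fun hg => ?_⟩⟩, mem_zpowers t⟩
  · rcases mem_zpowers_of_sq h.s2 e with e | e
    · exact ha e
    · exact h.sa (e ▸ mem_zpowers a)
  · rcases (h.mem g).1 hg with e | e <;> rcases mem_zpowers_of_sq h2 e with e | e
    · exact Or.inl (e ▸ one_mem _)
    · exact Or.inr (by rw [e, h2]; exact one_mem _)
    · exact Or.inl (by rw [eq_inv_of_mul_eq_one_right e]; exact inv_mem (mem_zpowers t))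
    · exact Or.inr (by
        rw [eq_inv_mul_of_mul_eq e, ← mul_assoc, (show Commute a t from h1).inv_right.eq, mul_assoc, h2, mul_one]
        exact inv_mem (mem_zpowers t))
  · exact hg.elim (fun e => zpowers_le.2 ht e) fun e => (mul_mem_cancel_left h.aS).1 (zpowers_le.2 ht e)

variable [Finite G]

theorem transfer (hS : IsSylowIn 2 S H) (ht : t ∈ zpowers a) (h2 : t * t = 1) (h1 : t ≠ 1)
    (hs : ∀ g ∈ H, g * s * g⁻¹ ≠ t) : ∃ M ≤ H, M.relIndex H = 2 ∧ s ∉ M :=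
  tt_rel hS h.relIndex h.sS h.s2 fun g hg e => hs g hg (invol_zpowers e ht
    (sq_of_isConj h.s2 (isConj_iff.2 ⟨g, rfl⟩)) h2 (mt conj_eq_one_iff.1 fun e => h.sa (e ▸ one_mem _)) h1)

/-- reflections split in two classes -/
theorem refl_cases (hg : s * g ∈ zpowers a) : ∃ c ∈ zpowers a, g = s * (c * c) ∨ g = s * a * (c * c) := by
  obtain ⟨k, hk⟩ := hg
  obtain ⟨i, rfl | rfl⟩ := Int.even_or_odd' k
  · exact ⟨a ^ i, ⟨i, rfl⟩, Or.inl (by
      rw [← zpow_add, ← two_mul, show a ^ (2 * i) = _ from hk, ← mul_assoc, h.s2, one_mul])⟩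
  · exact ⟨a ^ i, ⟨i, rfl⟩, Or.inr (by
      rw [← zpow_add, ← two_mul, mul_assoc, ← zpow_one_add, add_comm, show a ^ (2 * i + 1) = _ from hk,
        ← mul_assoc, h.s2, one_mul])⟩

theorem npc (hS : IsSylowIn 2 S H) (ht : t ∈ zpowers a) (h2 : t * t = 1) (h1 : t ≠ 1)
    (hs : ∀ g ∈ H, g * s * g⁻¹ ≠ t) (hs' : ∀ g ∈ H, g * (s * a) * g⁻¹ ≠ t) : Op' 2 H ⊔ S = H := by
  obtain ⟨M, m1, m2, m3⟩ := h.transfer hS ht h2 h1 hs
  obtain ⟨N, n1, n2, n3⟩ := (h.swap h.sa_mem).transfer hS ht h2 h1 hs'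
  have hn : H ≤ nrm (M ⊓ N) := nrm_inf (le_nrm_rel m2 m1) (le_nrm_rel n2 n1)
  have h3 := syl_inf hS (inf_le_left.trans m1) (hS.le.trans hn)
  have sq : ∀ {M : Subgroup G} {c}, M.relIndex H = 2 → c ∈ H → c * c ∈ M := fun e hc => by
    rw [mul_mem_iff_rel e hc hc]
  have h4 : S ⊓ (M ⊓ N) ≤ zpowers a := fun g hg => ((h.mem g).1 hg.1).elim id fun e => by
    obtain ⟨c, hc, rfl | rfl⟩ := h.refl_cases e
    · exact (m3 ((mul_mem_cancel_right (sq m2 (hS.le (h.le hc)))).1 hg.2.1)).elim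
    · exact (n3 ((mul_mem_cancel_right (sq n2 (hS.le (h.le hc)))).1 hg.2.2)).elim
  haveI := isCyclic_of_le h4
  have h5 := npc_iff.1 (H9.npc_of_isCyclic ⟨h3.le, h3.isPGroup, h3.not_dvd⟩)
  refine NPC.sup (npc_of_forall fun x hx hc => Opi_le_of_normal _ (inf_le_left.trans m1) hn (h5.mem ⟨?_, ?_⟩ hc)) hS
  · exact mem_of_pow_mem (k := 1) (by rw [pow_one, pow_two]; exact sq m2 hx) hc
  · exact mem_of_pow_mem (k := 1) (by rw [pow_one, pow_two]; exact sq n2 hx) hc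

theorem isConj_refl (hg : s * g ∈ zpowers a) : IsConj s g ∨ IsConj (s * a) g := by
  have f : ∀ {s}, Dih S a s → ∀ c ∈ zpowers a, IsConj s (s * (c * c)) := fun {s} h c hc => isConj_iff.2 ⟨c⁻¹, by
    nth_rw 1 [← h.inv' hc]; simp [mul_assoc]⟩
  obtain ⟨c, hc, rfl | rfl⟩ := h.refl_cases hg
  · exact Or.inl (f h c hc)
  · exact Or.inr (f (h.swap h.sa_mem) c hc)

theorem cls (hS : IsSylowIn 2 S ⊤) (ht : t ∈ zpowers a) (h2 : t * t = 1) (h1 : t ≠ 1) (hs : IsConj s t)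
    (hs' : IsConj (s * a) t) (u : G) (hu1 : u ≠ 1) (hu : u * u = 1) : IsConj t u := by
  obtain ⟨g, -, hg⟩ := hS.exists_cj_le (Q := zpowers u) (isPGroup_zpowers (k := 1) (by simpa [pow_two] using hu)) le_top
  have h3 := hg (H2.conj_mem_cj (mem_zpowers u))
  have h4 : IsConj u (g * u * g⁻¹) := isConj_iff.2 ⟨g, rfl⟩
  refine IsConj.trans ?_ h4.symm
  rcases (h.mem _).1 h3 with e | e
  · rw [invol_zpowers e ht (sq_of_isConj hu h4) h2 (ne_one_of_isConj hu1 h4) h1]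
  · exact (h.isConj_refl e).elim (fun e => hs.symm.trans e) fun e => hs'.symm.trans e

theorem isConj_of_no_two (hS : IsSylowIn 2 S ⊤) (ht : t ∈ zpowers a) (h2 : t * t = 1) (h1 : t ≠ 1)
    (hG : ∀ M : Subgroup G, M.index ≠ 2) : IsConj s t := by_contra fun e => by
  obtain ⟨M, -, m, -⟩ := h.transfer hS ht h2 h1 fun g _ e' => e (isConj_iff.2 ⟨g, e'⟩)
  exact hG M (by rwa [relIndex_top_right] at m)

theorem bsw (hS : IsPGroup 2 S) (ht : t ∈ zpowers a) (h2 : t * t = 1) (h1 : t ≠ 1) (hO : Odd (ord O))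
    (ha : a ∈ cen O) (hs : ∀ y ∈ O, s * y * s⁻¹ = y⁻¹) (hC : O ⊔ S = cen1 t)
    (hc : ∀ y ∈ O, y ≠ 1 → cen1 y ≤ cen1 t) (hcl : ∀ u, u ≠ 1 → u * u = 1 → IsConj t u) :
    BSW t s (zpowers a ⊔ O) := by
  have c1 : zpowers a ≤ cen O := zpowers_le.2 ha
  have mem : ∀ g, g ∈ zpowers a ⊔ O ↔ ∃ b ∈ zpowers a, ∃ y ∈ O, b * y = g := fun g =>
    H2.mem_sup_of_le_normalizer (le_nrm_of_le_cen c1)
  have c2 : ∀ b ∈ zpowers a, ∀ y ∈ O, Commute b y := fun b hb y hy => (c1 hb y hy).symm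
  have inv : ∀ x ∈ zpowers a ⊔ O, s * x * s⁻¹ = x⁻¹ := fun x hx => by
    obtain ⟨b, hb, y, hy, rfl⟩ := (mem x).1 hx
    rw [(c2 b hb y hy).mul_inv, ← h.inv' hb, ← hs y hy]; group
  have sq : ∀ x ∈ zpowers a ⊔ O, x * x = 1 → x ∈ zpowers a := fun x hx e => by
    obtain ⟨b, hb, y, hy, rfl⟩ := (mem x).1 hx
    rw [← pow_two, (c2 b hb y hy).mul_pow] at e
    obtain ⟨k, hk⟩ := hS ⟨y ^ 2, h.le (eq_inv_of_mul_eq_one_right e ▸ inv_mem (pow_mem hb 2))⟩
    have : y ^ 2 ^ (k + 1) = 1 := by rw [pow_succ', pow_mul]; exact congrArg Subtype.val hk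
    rw [H2.eq_one_of_coprime_of_pow this (Nat.coprime_two_right.2 (hO.of_dvd_nat (orderOf_dvd_card' hy))), mul_one]
    exact hb
  have sq' : ∀ x ∈ zpowers a ⊔ O, x * x = 1 → x = 1 ∨ x = t := fun x hx e =>
    or_iff_not_imp_left.2 fun e' => invol_zpowers (sq x hx e) ht e h2 e' h1
  have ci : ∀ g, g ∈ cen1 t ↔ g ∈ zpowers a ⊔ O ∨ s * g ∈ zpowers a ⊔ O := fun g => by
    refine ⟨fun hg => ?_, fun hg => ?_⟩
    · rw [← hC, sup_comm] at hg
      obtain ⟨b, hb, y, hy, rfl⟩ := (H2.mem_sup_of_le_normalizer fun b hb => by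
        rcases (h.mem b).1 hb with e | e
        · exact le_nrm_of_le_cen c1 e
        · exact (mul_mem_cancel_left (H1.mem_normalizer_of_conj_mem fun y hy => hs y hy ▸ inv_mem hy)).1
            (le_nrm_of_le_cen c1 e)).1 hg
      exact ((h.mem b).1 hb).imp (fun e => mul_mem (mem_sup_left e) (mem_sup_right hy))
        fun e => mul_assoc s b y ▸ mul_mem (mem_sup_left e) (mem_sup_right hy)
    · have : zpowers a ⊔ O ≤ cen1 t := hC ▸ sup_le (h.le.trans le_sup_right) le_sup_left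
      exact hg.elim (fun e => this e) fun e => (mul_mem_cancel_left (hC.le (mem_sup_right h.sS))).1 (this e)
  have cm : ∀ x ∈ zpowers a ⊔ O, ∀ y ∈ zpowers a ⊔ O, x * y = y * x := fun x hx y hy => comm_of_inv inv hx hy
  refine ⟨h1, h2, cm, mem_sup_left ht, h.s2, fun e => h.sa (sq s e h.s2), ci, inv, sq', fun g x hx hx1 e => ?_, hcl⟩
  by_cases ho : Odd (orderOf x)
  · have hxO : x ∈ O := by
      obtain ⟨b, hb, y, hy, rfl⟩ := (mem x).1 hx
      obtain ⟨k, hk⟩ := hS ⟨b, h.le hb⟩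
      refine mem_of_pow_mem (p := 2) (k := k) ?_ (Nat.coprime_two_right.2 ho)
      rw [(c2 b hb y hy).mul_pow, show b ^ 2 ^ k = 1 from congrArg Subtype.val hk, one_mul]
      exact pow_mem hy _
    have h3 : g⁻¹ * t * g⁻¹⁻¹ * x = x * (g⁻¹ * t * g⁻¹⁻¹) := by
      have := cm _ (mem_sup_left ht) _ e
      calc g⁻¹ * t * g⁻¹⁻¹ * x = g⁻¹ * (t * (g * x * g⁻¹)) * g := by group
        _ = _ := by rw [this]; group
    have h4 : IsConj t (g⁻¹ * t * g⁻¹⁻¹) := isConj_iff.2 ⟨_, rfl⟩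
    rcases (ci _).1 (hc x hxO hx1 (mem_cen1.2 h3)) with e' | e'
    · have := (sq' _ e' (sq_of_isConj h2 h4)).resolve_left (ne_one_of_isConj h1 h4)
      exact inv_mem_iff.1 (mem_cen1.2 (mul_inv_eq_iff_eq_mul.1 this))
    · have h5 := inv x hx
      have h6 := cm _ e' x hx
      rw [mul_assoc, h3, ← mul_assoc, ← mul_assoc x, mul_left_inj] at h6
      rw [h6, mul_inv_cancel_right] at h5
      exact (not_mem_of_odd (Q := zpowers x) (by rwa [Nat.card_zpowers]) (mul_eq_one_iff_eq_inv.2 h5) hx1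
        (mem_zpowers x)).elim
  · obtain ⟨z, hz, z2, z1⟩ := exists_invol_of_even (K := zpowers x) (by
      rwa [Nat.card_zpowers, ← Nat.not_odd_iff_even])
    obtain rfl := (sq' z (zpowers_le.2 hx hz) z2).resolve_left z1
    obtain ⟨k, rfl⟩ := hz
    have h4 : IsConj (x ^ k) (g * x ^ k * g⁻¹) := isConj_iff.2 ⟨_, rfl⟩
    exact mem_cen1.2 (mul_inv_eq_iff_eq_mul.1 ((sq' _ (by rw [← conj_zpow]; exact zpow_mem e k)
      (sq_of_isConj z2 h4)).resolve_left (ne_one_of_isConj z1 h4)))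

end Dih

end H8
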