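import Cfsg.Agent.H8.Invol
import Cfsg.Agent.H8.Dihedral
import Cfsg.Agent.H7.Cop

/-! Involutions commuting with at most three involutions. -/

namespace H8

open Subgroup Cfsg H7

variable {G : Type*} [Group G] [Finite G] {x : G}

/-- non-conjugate involutions commute with a common involution -/
theorem exists_invol_comm {s t : G} (hs : s * s = 1) (ht : t * t = 1) (h : ¬ IsConj s t) :
    ∃ z : G, z ≠ 1 ∧ z * z = 1 ∧ z * s = s * z ∧ z * t = t * z := by
  rcases Nat.even_or_odd (orderOf (s * t)) with e | e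
  · obtain ⟨z, -, h1, h2, h3⟩ := exists_central_invol_of_even hs ht e
    exact ⟨z, fun e => by simp [e] at h1, by rw [← pow_two, ← h1, pow_orderOf_eq_one], h2.symm, h3.symm⟩
  · obtain ⟨k, -, hk⟩ := exists_invol_conj_of_odd hs ht e
    exact (h (isConj_iff.2 ⟨_, hk⟩)).elim

theorem exists_invol_cen {S : Subgroup G} (hS : IsPGroup 2 S) (h : S ≠ ⊥) :
    ∃ z ∈ S, z ≠ 1 ∧ z * z = 1 ∧ S ≤ cen1 z := by
  obtain ⟨z, hz, hz1, hzc⟩ := H2.exists_mem_centralizer_of_normalizes hS hS (le_nrm_self S) h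
  obtain ⟨w, hw, hw'⟩ := exists_orderOf_eq (H := S ⊓ cen S) Nat.prime_two
    (H2.dvd_card_of_ne_bot (hS.to_le inf_le_left) fun e => hz1 (mem_bot.1 (e ▸ ⟨hz, hzc⟩)))
  exact ⟨w, hw.1, fun e => by simp [e] at hw', by rw [← pow_two, ← hw', pow_orderOf_eq_one],
    le_cen1_iff.2 hw.2⟩

/-- `x` commutes with at most three involutions -/
def Three (x : G) : Prop := ∀ z u : G, z ≠ 1 → z * z = 1 → z * x = x * z → z ≠ x →
  u ≠ 1 → u * u = 1 → u * x = x * u → u = x ∨ u = z ∨ u = x * z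

theorem three_of_card (hx : orderOf x = 2)
    (h : Nat.card {u : cen1 x // orderOf u = 2} ≤ 3) : Three x := by
  classical
  intro z u hz1 hz hzx hzx' hu1 hu hux
  by_contra hh
  push Not at hh
  have hx1 : x ≠ 1 := fun e => by simp [e] at hx
  have hx2 : x * x = 1 := by rw [← pow_two, ← hx, pow_orderOf_eq_one]
  have f : ∀ v : G, v ≠ 1 → v * v = 1 → ∀ hv : v ∈ cen1 x, orderOf (⟨v, hv⟩ : cen1 x) = 2 :=
    fun v h1 h2 hv => by
      rw [← orderOf_coe]; exact orderOf_eq_prime (by rwa [pow_two]) h1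
  have e1 : x * z ≠ 1 := fun e => hzx' (mul_left_cancel (e.trans hx2.symm))
  have e2 : x * z * (x * z) = 1 := by
    rw [mul_assoc, ← mul_assoc z, hzx, mul_assoc, hz, mul_one, hx2]
  have e3 : x * z ∈ cen1 x := mul_mem (self_mem_cen1 x) (mem_cen1.2 hzx)
  haveI := Fintype.ofFinite {u : cen1 x // orderOf u = 2}
  rw [Nat.card_eq_fintype_card] at h
  refine absurd ((Finset.card_le_univ {⟨_, f x hx1 hx2 (self_mem_cen1 x)⟩, ⟨_, f z hz1 hz (mem_cen1.2 hzx)⟩,
    ⟨_, f _ e1 e2 e3⟩, ⟨_, f u hu1 hu (mem_cen1.2 hux)⟩}).trans h) ?_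
  rw [Finset.card_insert_of_notMem, Finset.card_insert_of_notMem, Finset.card_pair]
  · omega
  · simpa using hh.2.2.symm
  · simpa using ⟨hx1, hh.2.1.symm⟩
  · simpa using ⟨hzx'.symm, hz1, hh.1.symm⟩

theorem Three.central_or (h : Three x) (hx1 : x ≠ 1) (hx : x * x = 1) :
    (∃ S, IsSylowIn 2 S ⊤ ∧ S ≤ cen1 x) ∨ ∃ z, z ≠ 1 ∧ z * z = 1 ∧ z * x = x * z ∧ ¬ IsConj x z ∧
      ∀ g, Commute z (g * z * g⁻¹) := by
  refine or_iff_not_imp_left.2 fun hn => ?_
  have hp : IsPGroup 2 (zpowers x) := H2.isPGroup_zpowers (k := 1) (by simpa [pow_two] using hx)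
  obtain ⟨T, hT, hxT⟩ := H2.exists_isSylowIn_ge hp (zpowers_le.2 (self_mem_cen1 x))
  obtain ⟨S, hS, hTS⟩ := H2.exists_isSylowIn_ge hT.isPGroup le_top
  have hxT := zpowers_le.1 hxT
  obtain ⟨g, hg, hg1, hg2⟩ := H2.exists_mem_normalizer_notMem hS.isPGroup
    (lt_of_le_of_ne hTS fun e => hn ⟨S, hS, e ▸ hT.le⟩)
  obtain ⟨z, hz, hz1, hz2, hzS⟩ := exists_invol_cen hS.isPGroup fun e => hx1 (mem_bot.1 (e ▸ hTS hxT))
  have hzx : z * x = x * z := (mem_cen1.1 (hzS (hTS hxT))).symm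
  have hnc : ¬ IsConj x z := fun e => by
    obtain ⟨c, rfl⟩ := isConj_iff.1 e
    exact hn ⟨cj c⁻¹ S, syl_cj_of_mem hS (by simp), by rw [cj_le_iff, inv_inv, cj_cen1]; exact hzS⟩
  have hzx' : z ≠ x := fun e => hnc (e ▸ IsConj.refl _)
  have hgx : g * x * g⁻¹ = x * z := by
    refine ((h z _ hz1 hz2 hzx hzx' (by simpa using hx1) (by simp [hx])
      (mem_cen1.1 (hT.le (nconj_mem hg1 hxT)))).resolve_left fun e => hg2 ?_).resolve_left
        fun e => hnc (isConj_iff.2 ⟨g, e⟩)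
    have := hT.eq_of_le (Q := S ⊓ cen1 x) (hS.isPGroup.to_le inf_le_left) (le_inf hTS hT.le) inf_le_right
    exact this ▸ ⟨hg, mem_cen1.2 (mul_inv_eq_iff_eq_mul.1 e)⟩
  have key : ∀ u, IsConj z u → u * x = x * u → u = z := fun u hu e => by
    obtain ⟨c, rfl⟩ := isConj_iff.1 hu
    rcases h z _ hz1 hz2 hzx hzx' (by simpa using hz1) (by simp [hz2]) e with e | e | e
    · exact (hnc (isConj_iff.2 ⟨c, e⟩).symm).elim
    · exact e
    · exact (hnc ((isConj_iff.2 ⟨g, hgx⟩).trans (isConj_iff.2 ⟨c, e⟩).symm)).elim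
  refine ⟨z, hz1, hz2, hzx, hnc, fun c => ?_⟩
  have hc : IsConj z (c * z * c⁻¹) := isConj_iff.2 ⟨c, rfl⟩
  obtain ⟨w, hw1, hw2, hw3, hw4⟩ := exists_invol_comm hx (t := c * z * c⁻¹) (by simp [hz2])
    fun e => hnc (e.trans hc.symm)
  rcases h z w hz1 hz2 hzx hzx' hw1 hw2 hw3 with rfl | rfl | rfl
  · rw [key _ hc hw4.symm]
  · exact hw4
  · have hgz : g * z = z * g := mem_cen1.1 (hzS hg)
    have := key (g⁻¹ * (c * z * c⁻¹) * g) (hc.trans (isConj_iff.2 ⟨g⁻¹, by simp⟩)) (by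
      rw [← hgx] at hw4
      calc _ = g⁻¹ * (c * z * c⁻¹ * (g * x * g⁻¹)) * g := by group
        _ = _ := by rw [← hw4]; group)
    rw [show c * z * c⁻¹ = z by
      calc _ = g * (g⁻¹ * (c * z * c⁻¹) * g) * g⁻¹ := by group
        _ = z := by rw [this, hgz]; group]

/-- an involution commuting with all its conjugates generates an elementary abelian normal
subgroup -/
theorem ncl_elem {z : G} (hz : z * z = 1) (h : ∀ g, Commute z (g * z * g⁻¹)) :
    (∀ a ∈ normalClosure ({z} : Set G), ∀ b ∈ normalClosure ({z} : Set G), a * b = b * a) ∧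
      ∀ a ∈ normalClosure ({z} : Set G), a * a = 1 := by
  have h0 : ∀ a ∈ Group.conjugatesOfSet ({z} : Set G), ∃ g, g * z * g⁻¹ = a := fun a ha => by
    simpa [Group.mem_conjugatesOfSet_iff, isConj_iff] using ha
  have h1 : ∀ a ∈ normalClosure ({z} : Set G), ∀ b ∈ normalClosure ({z} : Set G), a * b = b * a := by
    refine isComm_iff'.1 (isMulCommutative_closure fun a ha b hb => ?_)
    obtain ⟨g, rfl⟩ := h0 a ha
    obtain ⟨k, rfl⟩ := h0 b hb
    calc _ = g * (z * (g⁻¹ * k * z * (g⁻¹ * k)⁻¹)) * g⁻¹ := by group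
      _ = _ := by rw [(h _).eq]; group
  refine ⟨h1, fun a ha => ?_⟩
  induction ha using closure_induction with
  | mem a ha => obtain ⟨g, rfl⟩ := h0 a ha; simp [hz]
  | one => simp
  | mul a b ha hb h2 h3 =>
    rw [mul_assoc, ← mul_assoc b, ← h1 a ha b hb, mul_assoc, h3, mul_one, h2]
  | inv a _ h2 => rw [← mul_inv_rev, h2, inv_one]

theorem comm_of_sq {M : Type*} [Group M] (h : ∀ g : M, g ^ 2 = 1) (a b : M) : a * b = b * a := by
  have f : ∀ g : M, g⁻¹ = g := fun g => inv_eq_of_mul_eq_one_right (by rw [← pow_two, h])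
  rw [← f (a * b), mul_inv_rev, f, f]

theorem Three.simple [IsSimpleGroup G] (h : Three x) (hx1 : x ≠ 1) (hx : x * x = 1)
    (hG : ¬ ∀ a b : G, a * b = b * a) : (∃ S, IsSylowIn 2 S ⊤ ∧ S ≤ cen1 x) ∧
      ∀ u : G, u ≠ 1 → u * u = 1 → IsConj x u := by
  have h1 : ∃ S, IsSylowIn 2 S ⊤ ∧ S ≤ cen1 x := h.central_or hx1 hx |>.resolve_right <| by
    rintro ⟨z, hz1, hz, -, -, hc⟩
    rcases (normalClosure_normal (s := {z})).eq_bot_or_eq_top with e | e
    · exact hz1 (mem_bot.1 (e ▸ subset_normalClosure rfl))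
    · exact hG fun a b => (ncl_elem hz hc).1 a (e ▸ mem_top a) b (e ▸ mem_top b)
  refine ⟨h1, fun u hu1 hu => ?_⟩
  obtain ⟨S, hS, hSx⟩ := h1
  obtain ⟨c, -, hc⟩ := hS.exists_cj_le (Q := zpowers u)
    (H2.isPGroup_zpowers (k := 1) (by simpa [pow_two] using hu)) le_top
  have hz : c * u * c⁻¹ ∈ S := hc (H2.conj_mem_cj (mem_zpowers u))
  refine IsConj.trans ?_ (isConj_iff.2 ⟨c, rfl⟩).symm
  have hz1 : c * u * c⁻¹ ≠ 1 := by simpa using hu1
  have hz2 : c * u * c⁻¹ * (c * u * c⁻¹) = 1 := by simp [hu]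
  generalize c * u * c⁻¹ = z at *
  by_contra hn
  have hzx : z ≠ x := fun e => hn (e ▸ IsConj.refl _)
  have h2 := h z
  have h3 : IsConj x (x * z) := by
    by_contra hn'
    refine hG (comm_of_sq (card_eq_two_of_isolated (by rwa [pow_two]) hx1 fun g hg => ?_))
    rcases h z _ hz1 hz2 (mem_cen1.1 (hSx hz)) hzx (by simpa using hx1) (by simp [hx]) hg.eq.symm
      with e | e | e
    · exact e
    · exact (hn (isConj_iff.2 ⟨g, e⟩)).elim
    · exact (hn' (isConj_iff.2 ⟨g, e⟩)).elim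
  refine hG (comm_of_sq (card_eq_two_of_isolated (by rwa [pow_two]) hz1 fun g =>
    (H9.iso_of_sylow (syl_to_H1 hS) (by rwa [pow_two]) fun g hg => ?_).eq_of_commute))
  rcases h z _ hz1 hz2 (mem_cen1.1 (hSx hz)) hzx (by simpa using hz1) (by simp [hz2])
    (mem_cen1.1 (hSx hg)) with e | e | e
  · exact (hn (isConj_iff.2 ⟨g, e⟩).symm).elim
  · exact e
  · exact (hn (h3.trans (isConj_iff.2 ⟨g, e⟩).symm)).elim

end H8
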