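import Cfsg.Agent.H8.BSW8
import Cfsg.Agent.H8.AutA
import Cfsg.Agent.H8.Inv3
import Cfsg.Agent.H8.Dihedral
import Cfsg.Agent.S0251
import Cfsg.Agent.S0253
import Cfsg.Agent.S0254

/-! Involution centralisers of order 4 and 8. -/

namespace H8

open Subgroup Cfsg H7 Equiv

variable {G : Type*} [Group G] [Finite G] {t s a x g u v : G} {S H O M Q : Subgroup G} {n : ℕ}

theorem Dih.bsw_two (h : Dih (cen1 t) a s) (hS : IsSylowIn 2 (cen1 t) ⊤) (ht : t ∈ zpowers a) (h2 : t * t = 1)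
    (h1 : t ≠ 1) (hs : IsConj s t) (hs' : IsConj (s * a) t) : BSW t s (zpowers a) := by
  simpa using h.bsw hS.isPGroup ht h2 h1 (O := ⊥) (by simp) (fun y hy => by rw [mem_bot.1 hy]; simp)
    (fun y hy => by rw [mem_bot.1 hy]; simp) (bot_sup_eq _) (fun y hy e => (e hy).elim)
    (h.cls hS ht h2 h1 hs hs')

theorem BSW.two (h : BSW t s H) (hH : ord H = 2) : (Nat.card G = 12 ∧ Nonempty (G ≃* alternatingGroup (Fin 4))) ∨
    (Nat.card G = 60 ∧ Nonempty (G ≃* alternatingGroup (Fin 5))) := by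
  obtain ⟨q, e, -, h1, h2⟩ := h.psl
  haveI := Fact.mk Nat.prime_five
  rw [hH] at e
  rcases e with rfl | e
  · exact Or.inr ⟨by omega, (h2 (ZMod 5) (by simp)).map2 .trans (Cfsg.Agent.S0253.result (by simp))⟩
  · obtain rfl : q = 3 := by omega
    exact Or.inl ⟨by omega, (h2 (ZMod 3) (by simp)).map2 .trans (Cfsg.Agent.S0251.result (by simp))⟩

theorem BSW.four (h : BSW t s H) (hH : ord H = 4) : (Nat.card G = 168 ∧
    Nonempty (G ≃* Matrix.ProjectiveSpecialLinearGroup (Fin 2) (ZMod 7))) ∨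
    (Nat.card G = 360 ∧ Nonempty (G ≃* alternatingGroup (Fin 6))) := by
  obtain ⟨q, e, -, h1, h2⟩ := h.psl
  haveI := Fact.mk (show Nat.Prime 7 by norm_num)
  haveI := Fintype.ofFinite (GaloisField 3 2)
  have := GaloisField.card 3 2 two_ne_zero
  rw [hH] at e
  rcases e with rfl | e
  · exact Or.inr ⟨by omega, (h2 (GaloisField 3 2) this).map2 .trans
      (Cfsg.Agent.S0254.result (by rwa [← Nat.card_eq_fintype_card]))⟩
  · obtain rfl : q = 7 := by omega
    exact Or.inl ⟨by omega, h2 (ZMod 7) (by simp)⟩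

theorem Dih.syl (h : Dih (cen1 t) a s) (ht : t ∈ zpowers a) (h2 : t * t = 1) (h1 : t ≠ 1) (ha : a * a ≠ 1)
    (hp : IsPGroup 2 (cen1 t)) : IsSylowIn 2 (cen1 t) ⊤ := by
  refine syl_of_nrm_le (M := cen1 t) (by simpa using syl_self hp) fun g hg => mem_cen1.2 (mul_inv_eq_iff_eq_mul.1 ?_)
  have h3 : IsConj t (g * t * g⁻¹) := isConj_iff.2 ⟨g, rfl⟩
  rcases (h.mem _).1 (nconj_mem hg (self_mem_cen1 t)) with e | e
  · exact invol_zpowers e ht (sq_of_isConj h2 h3) h2 (ne_one_of_isConj h1 h3) h1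
  · have h4 := mem_cen1.1 (nconj_mem' hg h.aS)
    refine (ha (mul_eq_one_iff_eq_inv.2 ?_)).elim
    rw [← (h.out e).2.2 a (mem_zpowers a)]
    calc a = g * (t * (g⁻¹ * a * g) * t⁻¹) * g⁻¹ := by rw [← h4]; group
      _ = _ := by group

theorem d8_setup (ht : orderOf t = 2) (e : cen1 t ≃* DihedralGroup 4) : ∃ a s, Dih (cen1 t) a s ∧
    t ∈ zpowers a ∧ orderOf a = 4 ∧ IsSylowIn 2 (cen1 t) ⊤ := by
  obtain ⟨a₀, s₀, h₀, ho⟩ := exists_dih e
  obtain ⟨a, s, h, hta⟩ := h₀.central (fun e => by simp [e] at ho) (self_mem_cen1 t) le_rfl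
  have h1 : orderOf a = 4 := by have := h.card; rw [h₀.card] at this; omega
  exact ⟨a, s, h, hta, h1, h.syl hta (by rw [← pow_two, ← ht, pow_orderOf_eq_one]) (fun e => by simp [e] at ht)
    (fun e => by have := orderOf_dvd_of_pow_eq_one ((pow_two a).trans e); rw [h1] at this; omega)
    (IsPGroup.of_card (n := 3) (by rw [h.card, h1]; rfl))⟩

theorem d8_main (ht : orderOf t = 2) (e : cen1 t ≃* DihedralGroup 4) (hG : ∀ M : Subgroup G, M.index ≠ 2) :
    (Nat.card G = 168 ∧ Nonempty (G ≃* Matrix.ProjectiveSpecialLinearGroup (Fin 2) (ZMod 7))) ∨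
    (Nat.card G = 360 ∧ Nonempty (G ≃* alternatingGroup (Fin 6))) := by
  obtain ⟨a, s, h, h1, h2, h3⟩ := d8_setup ht e
  have t1 : t ≠ 1 := fun e => by simp [e] at ht
  have t2 : t * t = 1 := by rw [← pow_two, ← ht, pow_orderOf_eq_one]
  exact (h.bsw_two h3 h1 t2 t1 (h.isConj_of_no_two h3 h1 t2 t1 hG)
    ((h.swap h.sa_mem).isConj_of_no_two h3 h1 t2 t1 hG)).four (by rw [Nat.card_zpowers, h2])

omit [Finite G] in
theorem Dih.equiv (h : Dih S a s) : Nonempty (S ≃* DihedralGroup (orderOf a)) :=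
  nonempty_equiv_dihedral h.s2 h.inv h.sa S (le_antisymm ((closure_le _).2 (by
    rintro _ (rfl | rfl); exacts [h.aS, h.sS])) fun g hg => by
      have : zpowers a ≤ closure {a, s} := zpowers_le.2 (subset_closure (by simp))
      exact ((h.mem g).1 hg).elim (fun e => this e) fun e =>
        (mul_mem_cancel_left (subset_closure (by simp))).1 (this e))

theorem a6_dec : ∀ g : Perm (Fin 6), g * (swap 0 1 * swap 2 3) = swap 0 1 * swap 2 3 * g → Perm.sign g = 1 →
    ∃ k : Fin 4, g = (swap 0 2 * swap 2 1 * swap 1 3 * swap 4 5) ^ (k : ℕ) ∨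
      swap 0 1 * swap 4 5 * g = (swap 0 2 * swap 2 1 * swap 1 3 * swap 4 5) ^ (k : ℕ) := by
  decide +kernel

theorem a6_cen {x : alternatingGroup (Fin 6)} (hx : orderOf x = 2) (hs : (x : Perm (Fin 6)).support.card = 4) :
    Nonempty (cen1 x ≃* DihedralGroup 4) := by
  let a : alternatingGroup (Fin 6) := ⟨swap 0 2 * swap 2 1 * swap 1 3 * swap 4 5, Perm.mem_alternatingGroup.2 (by decide)⟩
  let s : alternatingGroup (Fin 6) := ⟨swap 0 1 * swap 4 5, Perm.mem_alternatingGroup.2 (by decide)⟩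
  let t : alternatingGroup (Fin 6) := ⟨swap 0 1 * swap 2 3, Perm.mem_alternatingGroup.2 (by decide)⟩
  have ha : orderOf a = 4 := orderOf_eq_prime_pow (p := 2) (n := 1) (by decide) (by decide)
  have h : Dih (cen1 t) a s := ⟨by decide, by decide, fun e => by
    have := isComm_iff'.1 (inferInstance : IsMulCommutative (zpowers a)) s e a (mem_zpowers a)
    revert this; decide, fun g => ⟨fun hg => by
      obtain ⟨k, hk⟩ := a6_dec g (congrArg Subtype.val (mem_cen1.1 hg)) g.2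
      exact hk.imp (fun e => ⟨k, Subtype.ext (by simpa using e.symm)⟩)
        fun e => ⟨k, Subtype.ext (by simpa using e.symm)⟩, fun hg => by
      have : zpowers a ≤ cen1 t := zpowers_le.2 (mem_cen1.2 (by decide))
      exact hg.elim (fun e => this e) fun e => (mul_mem_cancel_left (mem_cen1.2 (by decide))).1 (this e)⟩⟩
  have f : ∀ y : Perm (Fin 6), orderOf y = 2 → y.support.card = 4 → y.cycleType = Multiset.replicate 2 2 :=
    fun y h1 h2 => by
      obtain ⟨n, hn⟩ := Perm.cycleType_prime_order (σ := y) (h1 ▸ Nat.prime_two)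
      rw [← Perm.sum_cycleType, hn, h1, Multiset.sum_replicate, smul_eq_mul] at h2
      rw [hn, h1, show n + 1 = 2 by omega]
  obtain ⟨g, rfl⟩ := isConj_iff.1 (alternatingGroup.isConj_of (σ := t) (τ := x) (Perm.isConj_iff_cycleType_eq.2
    ((f _ (orderOf_eq_prime (by decide) (by decide)) (by decide)).trans (f _ (by simpa using hx) hs).symm))
    (by decide))
  rw [← cj_cen1, ← ha]
  exact h.equiv.map (cjEquiv g _).symm.trans

/-- a four-group as a dihedral group -/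
theorem dih_four (hS : ord S = 4) (h : ∀ c ∈ S, c * c = 1) (ht : t ∈ S) (h1 : t ≠ 1) : ∃ s, Dih S t s := by
  have h2 : orderOf t = 2 := orderOf_eq_prime (by rw [pow_two, h t ht]) h1
  have h3 : (zpowers t).relIndex S = 2 := by
    have := relIndex_mul_card' (zpowers_le.2 ht); rw [Nat.card_zpowers, h2] at this; omega
  obtain ⟨s, hs, hs'⟩ := SetLike.not_le_iff_exists.1 (mt relIndex_eq_one.2 (by omega) : ¬ S ≤ zpowers t)
  refine ⟨s, h s hs, ?_, hs', fun g => ⟨fun hg => ?_, fun hg => hg.elim (fun e => zpowers_le.2 ht e) fun e =>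
    (mul_mem_cancel_left hs).1 (zpowers_le.2 ht e)⟩⟩
  · rw [inv_eq_of_mul_eq_one_right (h s hs), eq_inv_iff_mul_eq_one, mul_assoc, h _ (mul_mem hs ht)]
  · rw [mul_mem_iff_rel h3 hs hg]; tauto

theorem Dih.v4 (h : Dih S t s) (hS : IsSylowIn 2 S ⊤) (h2 : t * t = 1) (h1 : t ≠ 1) :
    Op' 2 ⊤ ⊔ S = ⊤ ∨ (IsConj s t ∧ IsConj (s * t) t) := by
  have f : ∀ {s}, Dih S t s → IsConj (s * t) t → IsConj s t := fun {s} h e => by_contra fun e' => by
    obtain ⟨M, -, m1, m2⟩ := h.transfer hS (mem_zpowers t) h2 h1 fun g _ e => e' (isConj_iff.2 ⟨g, e⟩)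
    obtain ⟨g, hg⟩ := isConj_iff.1 e
    have := (mul_mem_iff_rel m1 (mem_top s) (mem_top t)).symm.trans (mem_normalizer_iff.1
      (le_nrm_rel m1 le_top (mem_top g)) (s * t))
    rw [hg] at this; tauto
  by_cases e : IsConj (s * t) t
  · exact Or.inr ⟨f h e, e⟩
  exact Or.inl (h.npc hS (mem_zpowers t) h2 h1 (fun g _ e' => e (f (h.swap h.sa_mem) (by
    rw [mul_assoc, h2, mul_one]; exact isConj_iff.2 ⟨g, e'⟩))) fun g _ e' => e (isConj_iff.2 ⟨g, e'⟩))

theorem v4_main (hS : ord (cen1 t) = 4) (h : ∀ c ∈ cen1 t, c * c = 1) (h1 : t ≠ 1) (hP : IsSylowIn 2 (cen1 t) ⊤) :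
    Op' 2 ⊤ ⊔ cen1 t = ⊤ ∨ ((∀ u, u ≠ 1 → u * u = 1 → IsConj t u) ∧
      ((Nat.card G = 12 ∧ Nonempty (G ≃* alternatingGroup (Fin 4))) ∨
      (Nat.card G = 60 ∧ Nonempty (G ≃* alternatingGroup (Fin 5))))) := by
  obtain ⟨s, hs⟩ := dih_four hS h (self_mem_cen1 t) h1
  have h2 := h t (self_mem_cen1 t)
  refine (hs.v4 hP h2 h1).imp_right fun e => ?_
  have := hs.bsw_two hP (mem_zpowers t) h2 h1 e.1 e.2
  exact ⟨this.cls, this.two (by rw [Nat.card_zpowers, orderOf_eq_prime (p := 2) (by rw [pow_two, h2]) h1])⟩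

end H8
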