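import Mathlib

/-! Fixed-point-free automorphisms of prime order of elementary abelian groups and primitive
roots. -/

set_option autoImplicit false

namespace H8
open Polynomial

theorem exists_linEquiv_card {K M₁ M₂ : Type*} [Field K] [AddCommGroup M₁] [AddCommGroup M₂]
    [Module K M₁] [Module K M₂] [Finite M₁] [Finite M₂] [Finite K] (hc : Nat.card M₁ = Nat.card M₂)
    {v : M₁} {w : M₂} (hv : v ≠ 0) (hw : w ≠ 0) : ∃ β : M₁ ≃ₗ[K] M₂, β v = w := by
  haveI : Module.Finite K M₁ := Module.Finite.of_finite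
  haveI : Module.Finite K M₂ := Module.Finite.of_finite
  have hr : Module.finrank K M₁ = Module.finrank K M₂ := by
    rw [Module.natCard_eq_pow_finrank (K := K) (V := M₁),
      Module.natCard_eq_pow_finrank (K := K) (V := M₂)] at hc
    exact Nat.pow_right_injective Finite.one_lt_card hc
  let e := LinearEquiv.ofFinrankEq M₁ M₂ hr
  have he : e v ≠ 0 := by simpa using hv
  obtain ⟨g, hg⟩ := Submodule.exists_linearEquiv_restrict_eq
    ((LinearEquiv.toSpanNonzeroSingleton K M₂ _ he).symm ≪≫ₗ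
      LinearEquiv.toSpanNonzeroSingleton K M₂ _ hw)
  refine ⟨e ≪≫ₗ g, ?_⟩
  have := hg (LinearEquiv.toSpanNonzeroSingleton K M₂ _ he 1)
  rw [LinearEquiv.trans_apply, LinearEquiv.symm_apply_apply] at this
  simpa using this.symm

section lin
variable {F M : Type*} [Field F] [AddCommGroup M] [Module F M]

theorem exists_intertw [Finite F] [Finite M] {f g : Module.End F M} {Φ : F[X]} (hΦ : Irreducible Φ)
    (hf : aeval f Φ = 0) (hg : aeval g Φ = 0) {v w : M} (hv : v ≠ 0) (hw : w ≠ 0) :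
    ∃ β : M ≃+ M, (∀ m, β (f m) = g (β m)) ∧ β v = w := by
  haveI : Fact (Irreducible Φ) := ⟨hΦ⟩
  haveI : Finite (AdjoinRoot Φ) := by
    haveI := (AdjoinRoot.powerBasis hΦ.ne_zero).finite
    exact Module.finite_of_finite F
  have key : ∀ f : Module.End F M, aeval f Φ = 0 →
      ∃ ρ : AdjoinRoot Φ →+* Module.End F M, ρ (AdjoinRoot.root Φ) = f := fun f hf =>
    ⟨Ideal.Quotient.lift (Ideal.span {Φ}) (aeval f).toRingHom fun a ha => by
      obtain ⟨c, rfl⟩ := Ideal.mem_span_singleton'.1 ha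
      simp [hf], by
      show Ideal.Quotient.lift _ _ _ (Ideal.Quotient.mk _ X) = f
      simp⟩
  obtain ⟨ρ, hρ⟩ := key f hf
  obtain ⟨σ, hσ⟩ := key g hg
  obtain ⟨β, hβ⟩ := @exists_linEquiv_card (AdjoinRoot Φ) M M _ _ _ (Module.compHom M ρ)
    (Module.compHom M σ) _ _ _ rfl v w hv hw
  refine ⟨@LinearEquiv.toAddEquiv _ _ _ _ _ _ _ _ _ _ _ _ (Module.compHom M ρ)
    (Module.compHom M σ) β, fun m => ?_, hβ⟩
  have := @LinearEquiv.map_smul _ _ _ _ _ _ (Module.compHom M ρ) (Module.compHom M σ) β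
    (AdjoinRoot.root Φ) m
  rw [← hρ, ← hσ]
  exact this

theorem aeval_cyc_eq_zero {f : Module.End F M} {q : ℕ} [Fact q.Prime] (h1 : f ^ q = 1)
    (h2 : ∀ m, f m = m → m = 0) : aeval f (cyclotomic q F) = 0 := by
  have := congrArg (aeval f) (cyclotomic_prime_mul_X_sub_one F q)
  rw [mul_comm, map_mul, map_sub, map_sub, map_pow, aeval_X, map_one, h1, sub_self] at this
  ext m
  refine h2 _ (sub_eq_zero.1 ?_)
  simpa using LinearMap.congr_fun this m

theorem aeval_intertw {f g β : Module.End F M} (h : ∀ m, β (f m) = g (β m)) (a : F[X]) (m : M) :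
    β (aeval f a m) = aeval g a (β m) := by
  have hp : ∀ i : ℕ, β ((f ^ i) m) = (g ^ i) (β m) := fun i => by
    induction i with
    | zero => rfl
    | succ i ih => rw [pow_succ', pow_succ', Module.End.mul_apply, Module.End.mul_apply, h, ih]
  simp [aeval_eq_sum_range, LinearMap.sum_apply, hp]

/-- the cyclic submodule -/
noncomputable def cycSub (f : Module.End F M) (v : M) : Submodule F M :=
  LinearMap.range ((LinearMap.applyₗ v).comp (aeval f).toLinearMap)

theorem mem_cycSub {f : Module.End F M} {v x : M} : x ∈ cycSub f v ↔ ∃ a : F[X], aeval f a v = x :=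
  Iff.rfl

theorem cycSub_le {f : Module.End F M} {v u : M} (h : u ∈ cycSub f v) : cycSub f u ≤ cycSub f v := by
  obtain ⟨a, rfl⟩ := h
  rintro _ ⟨b, rfl⟩
  exact ⟨b * a, by simp⟩

theorem self_mem_cycSub (f : Module.End F M) (v : M) : v ∈ cycSub f v := ⟨1, by simp⟩

theorem aeval_zero_or_inj [Finite M] {f : Module.End F M}
    (h : ∀ v w : M, v ≠ 0 → w ≠ 0 → ∃ (β : Module.End F M) (k : ℕ), Function.Injective β ∧
      β v = w ∧ ∀ m, β (f m) = (f ^ k) (β m)) (a : F[X]) :
    aeval f a = 0 ∨ ∀ m, aeval f a m = 0 → m = 0 := by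
  have h1 : ∀ v w : M, v ≠ 0 → w ≠ 0 → Nat.card (cycSub f v) ≤ Nat.card (cycSub f w) := by
    intro v w hv hw
    obtain ⟨β, k, hi, rfl, hβ⟩ := h v w hv hw
    refine Nat.card_le_card_of_injective (fun x => ⟨β x, ?_⟩) fun x y e =>
      Subtype.ext (hi (congrArg Subtype.val e))
    obtain ⟨_, b, rfl⟩ := x
    refine ⟨b.comp (X ^ k), ?_⟩
    have := aeval_intertw hβ b v
    simp only [LinearMap.comp_apply, AlgHom.toLinearMap_apply, LinearMap.applyₗ_apply_apply]
    rw [this, aeval_comp, map_pow, aeval_X]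
  have h2 : ∀ v u : M, v ≠ 0 → u ≠ 0 → u ∈ cycSub f v → cycSub f u = cycSub f v := by
    intro v u hv hu hm
    exact SetLike.coe_injective (Set.Finite.eq_of_subset_of_card_le (Set.toFinite _)
      (cycSub_le hm) (h1 v u hv hu))
  by_contra hc
  push Not at hc
  obtain ⟨h3, v, hv, hv0⟩ := hc
  obtain ⟨w, hw⟩ : ∃ w, aeval f a w ≠ 0 := by
    by_contra e; push Not at e; exact h3 (LinearMap.ext e)
  have h4 : aeval f a (v + w) = aeval f a w := by rw [map_add, hv, zero_add]
  have hw0 : w ≠ 0 := fun e => hw (by rw [e, map_zero])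
  have hvw : v + w ≠ 0 := fun e => hw (by rw [← h4, e, map_zero])
  have h5 := h2 w _ hw0 hw ⟨a, rfl⟩
  have h6 := h2 (v + w) _ hvw hw ⟨a, h4⟩
  have h7 : v ∈ cycSub f w := by
    have := sub_mem (h5 ▸ h6 ▸ self_mem_cycSub f (v + w)) (self_mem_cycSub f w)
    rwa [add_sub_cancel_right] at this
  obtain ⟨b, hb⟩ := (h2 w v hw0 hv0 h7).ge (self_mem_cycSub f w)
  refine hw ?_
  simp only [LinearMap.comp_apply, AlgHom.toLinearMap_apply, LinearMap.applyₗ_apply_apply] at hb
  rw [← hb, ← Module.End.mul_apply, ← map_mul, mul_comm, map_mul, Module.End.mul_apply, hv,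
    map_zero]

end lin

theorem primroot_lin {M : Type*} [AddCommGroup M] [Finite M] [Nontrivial M] {p q : ℕ}
    [hp : Fact p.Prime] [hq : Fact q.Prime] [Module (ZMod p) M] (hne : p ≠ q)
    {f : Module.End (ZMod p) M} (h1 : f ^ q = 1) (h2 : ∀ m, f m = m → m = 0)
    (h3 : ∀ v w : M, v ≠ 0 → w ≠ 0 → ∃ (β : Module.End (ZMod p) M) (k : ℕ),
      Function.Injective β ∧ β v = w ∧ ∀ m, β (f m) = (f ^ k) (β m))
    (h4 : ∀ k, 0 < k → k < q → ∃ β : Module.End (ZMod p) M, Function.Surjective β ∧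
      ∀ m, β (f m) = (f ^ k) (β m)) : orderOf (p : ZMod q) = q - 1 := by
  classical
  haveI : Module.Finite (ZMod p) M := Module.Finite.of_finite
  have hi : IsIntegral (ZMod p) f := Algebra.IsIntegral.isIntegral f
  set m := minpoly (ZMod p) f
  have hpr : Prime m := ⟨minpoly.ne_zero hi, minpoly.not_isUnit _ _, fun a b hab => by
    have e : aeval f a * aeval f b = 0 := by
      obtain ⟨c, hc⟩ := hab
      rw [← map_mul, hc, map_mul, minpoly.aeval, zero_mul]
    rcases aeval_zero_or_inj h3 a with h | h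
    · exact Or.inl (minpoly.dvd _ _ h)
    · exact Or.inr (minpoly.dvd _ _ (LinearMap.ext fun x => h _ (LinearMap.congr_fun e x)))⟩
  have hd : m ∣ cyclotomic q (ZMod p) := minpoly.dvd _ _ (aeval_cyc_eq_zero h1 h2)
  have hc : p.Coprime q := (Nat.coprime_primes hp.out hq.out).2 hne
  have hdeg := natDegree_of_dvd_cyclotomic_of_irreducible (K := ZMod p) (p := p) (f := 1)
    (by simp) hc hd hpr.irreducible
  rw [← orderOf_units, ZMod.coe_unitOfCoprime, pow_one] at hdeg
  haveI : Fact (Irreducible m) := ⟨hpr.irreducible⟩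
  haveI : NeZero (q : AdjoinRoot m) := by
    haveI : NeZero (q : ZMod p) := ⟨fun h => hne ((Nat.prime_dvd_prime_iff_eq hp.out hq.out).1
      ((CharP.cast_eq_zero_iff (ZMod p) p q).1 h))⟩
    refine ⟨fun h => NeZero.ne (q : ZMod p) ((algebraMap (ZMod p) (AdjoinRoot m)).injective ?_)⟩
    rw [map_natCast, h, map_zero]
  have hζ : IsPrimitiveRoot (AdjoinRoot.root m) q := by
    rw [← isRoot_cyclotomic_iff, ← map_cyclotomic q (algebraMap (ZMod p) (AdjoinRoot m))]
    exact (AdjoinRoot.isRoot_root m).dvd (Polynomial.map_dvd _ hd)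
  refine le_antisymm ?_ ?_
  · rw [← hdeg]
    have := natDegree_le_of_dvd hd (cyclotomic_ne_zero q _)
    rwa [natDegree_cyclotomic, Nat.totient_prime hq.out] at this
  rw [← hdeg, ← natDegree_map (algebraMap (ZMod p) (AdjoinRoot m))]
  have := card_le_degree_of_subset_roots (p := m.map (algebraMap (ZMod p) (AdjoinRoot m)))
    (Z := (Finset.Ico 1 q).image (AdjoinRoot.root m ^ ·)) fun x hx => by
      obtain ⟨k, hk, rfl⟩ := Finset.mem_image.1 (Finset.mem_def.2 hx)
      obtain ⟨β, hβ, hβ'⟩ := h4 k (Finset.mem_Ico.1 hk).1 (Finset.mem_Ico.1 hk).2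
      rw [mem_roots (map_ne_zero hpr.ne_zero), IsRoot, eval_map_algebraMap]
      obtain ⟨c, hc⟩ : m ∣ m.comp (X ^ k) := minpoly.dvd _ _ (LinearMap.ext fun y => by
        obtain ⟨y, rfl⟩ := hβ y
        rw [aeval_comp, map_pow, aeval_X, ← aeval_intertw hβ', minpoly.aeval]
        simp)
      have := congrArg (aeval (AdjoinRoot.root m)) hc
      rwa [aeval_comp, map_pow, aeval_X, map_mul, AdjoinRoot.aeval_eq m, AdjoinRoot.mk_self,
        zero_mul] at this
  rwa [Finset.card_image_of_injOn fun i hi j hj e => hζ.pow_inj (Finset.mem_Ico.1 hi).2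
    (Finset.mem_Ico.1 hj).2 e, Nat.card_Ico] at this

section grp
variable {V : Type*} [CommGroup V] [Finite V] {p q : ℕ} [hp : Fact p.Prime] [hq : Fact q.Prime]

theorem exists_intertw_aut (he : ∀ v : V, v ^ p = 1) (hne : p ≠ q)
    (ho : orderOf (p : ZMod q) = q - 1) {a b : MulAut V} (ha : a ^ q = 1) (hb : b ^ q = 1)
    (fa : ∀ v, a v = v → v = 1) (fb : ∀ v, b v = v → v = 1) {v w : V} (hv : v ≠ 1) (hw : w ≠ 1) :
    ∃ β : MulAut V, (∀ u, β (a u) = b (β u)) ∧ β v = w := by
  obtain ⟨inst⟩ : Nonempty (Module (ZMod p) (Additive V)) :=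
    ⟨AddCommGroup.zmodModule (fun x => he x.toMul)⟩
  let σ : MulAut V →* Module.End (ZMod p) (Additive V) :=
    { toFun := fun a => (MonoidHom.toAdditive (a : V →* V)).toZModLinearMap p
      map_one' := rfl
      map_mul' := fun _ _ => rfl }
  have hc : ¬ p ∣ q := fun h => hne ((Nat.prime_dvd_prime_iff_eq hp.out hq.out).1 h)
  have hΦ : Irreducible (cyclotomic q (ZMod p)) :=
    ZMod.irreducible_of_dvd_cyclotomic_of_natDegree hc dvd_rfl (by
      rw [← orderOf_units, ZMod.coe_unitOfCoprime, ho, natDegree_cyclotomic,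
        Nat.totient_prime hq.out])
  obtain ⟨β, h1, h2⟩ := exists_intertw (f := σ a) (g := σ b) hΦ
    (aeval_cyc_eq_zero (by rw [← map_pow, ha, map_one]) fun m h => fa m.toMul h)
    (aeval_cyc_eq_zero (by rw [← map_pow, hb, map_one]) fun m h => fb m.toMul h)
    (v := .ofMul v) (w := .ofMul w) hv hw
  exact ⟨AddEquiv.toMultiplicative β, fun u => h1 (.ofMul u), h2⟩

theorem primroot_aut [Nontrivial V] (he : ∀ v : V, v ^ p = 1) (hne : p ≠ q) {a : MulAut V}
    (ha : a ^ q = 1) (fa : ∀ v, a v = v → v = 1)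
    (h3 : ∀ v w : V, v ≠ 1 → w ≠ 1 → ∃ (β : MulAut V) (k : ℕ), β v = w ∧
      ∀ m, β (a m) = (a ^ k) (β m))
    (h4 : ∀ k, 0 < k → k < q → ∃ β : MulAut V, ∀ m, β (a m) = (a ^ k) (β m)) :
    orderOf (p : ZMod q) = q - 1 := by
  obtain ⟨inst⟩ : Nonempty (Module (ZMod p) (Additive V)) :=
    ⟨AddCommGroup.zmodModule (fun x => he x.toMul)⟩
  let σ : MulAut V →* Module.End (ZMod p) (Additive V) :=
    { toFun := fun a => (MonoidHom.toAdditive (a : V →* V)).toZModLinearMap p
      map_one' := rfl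
      map_mul' := fun _ _ => rfl }
  refine primroot_lin hne (f := σ a) (by rw [← map_pow, ha, map_one]) (fun m h => fa m.toMul h)
    (fun v w hv hw => ?_) fun k h0 hk => ?_
  · obtain ⟨β, k, h1, h2⟩ := h3 v.toMul w.toMul hv hw
    exact ⟨σ β, k, β.injective, h1, fun m => by rw [← map_pow]; exact h2 m.toMul⟩
  · obtain ⟨β, h2⟩ := h4 k h0 hk
    exact ⟨σ β, β.surjective, fun m => by rw [← map_pow]; exact h2 m.toMul⟩

end grp

end H8
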