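import Mathlib
import Cfsg.Agent.H8.PrimRt
import Cfsg.Agent.H7.Elem

/-! Minimal normal subgroups are direct powers of simple groups. -/

set_option autoImplicit false

namespace H8
open Subgroup H7
open scoped commutatorElement

variable {G : Type*} [Group G] {V W N : Subgroup G}

def MinN (V : Subgroup G) : Prop :=
  V.Normal ∧ V ≠ ⊥ ∧ ∀ N : Subgroup G, N.Normal → N ≤ V → N = ⊥ ∨ N = V

theorem MinN.commute (hV : MinN V) (hW : MinN W) (h : V ≠ W) {x y : G} (hx : x ∈ V) (hy : y ∈ W) :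
    Commute x y := by
  haveI := hV.1; haveI := hW.1
  refine commute_of_normal_of_disjoint V W hV.1 hW.1 (disjoint_iff.2 ?_) x y hx hy
  refine (hV.2.2 _ inferInstance inf_le_left).resolve_right fun e => ?_
  exact (hW.2.2 V hV.1 (inf_eq_left.1 e)).elim hV.2.1 h

theorem MinN.map (hV : MinN V) {G' : Type*} [Group G'] (α : G ≃* G') : MinN (V.map (α : G →* G')) := by
  refine ⟨hV.1.map _ α.surjective, fun e => hV.2.1 ((map_eq_bot_iff_of_injective _ α.injective).1 e),
    fun N hN hle => ?_⟩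
  have e : (N.comap (α : G →* G')).map (α : G →* G') = N := map_comap_eq_self_of_surjective
    α.surjective N
  rcases hV.2.2 (N.comap (α : G →* G')) (hN.comap _) (by
    rw [← comap_map_eq_self_of_injective (f := (α : G →* G')) α.injective V]
    exact comap_mono hle) with h | h
  · left; rw [← e, h, Subgroup.map_bot]
  · right; rw [← e, h]

theorem exists_minN [Finite G] [N.Normal] (h : N ≠ ⊥) : ∃ V ≤ N, MinN V := by
  obtain ⟨V, ⟨a, b, c⟩, hm⟩ := wellFounded_lt.has_min {V : Subgroup G | V ≤ N ∧ V.Normal ∧ V ≠ ⊥}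
    ⟨N, le_rfl, ‹_›, h⟩
  exact ⟨V, a, b, c, fun M hM hle => or_iff_not_imp_left.2 fun h0 =>
    hle.eq_of_not_lt (hm M ⟨hle.trans a, hM, h0⟩)⟩

theorem exists_indep_minN [Finite G] (S : Set (Subgroup G)) (hS : ∀ V ∈ S, MinN V) :
    ∃ (n : ℕ) (V : Fin n → Subgroup G), (∀ i, V i ∈ S) ∧ iSupIndep V ∧ ⨆ i, V i = sSup S := by
  classical
  have h : ∃ n, ∃ V : Fin n → Subgroup G, (∀ i, V i ∈ S) ∧ ⨆ i, V i = sSup S :=
    ⟨_, fun i => ((Finite.equivFin S).symm i : S), fun i => Subtype.prop _, by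
      rw [sSup_eq_iSup']
      exact (Finite.equivFin S).symm.iSup_comp (g := fun x : S => (x : Subgroup G))⟩
  obtain ⟨V, h1, h2⟩ := Nat.find_spec h
  have h3 := fun m => Nat.find_min h (m := m)
  generalize Nat.find h = n at V h1 h2 h3
  refine ⟨n, V, h1, fun i => disjoint_iff.2 (by_contra fun k => ?_), h2⟩
  obtain ⟨m, rfl⟩ := Nat.exists_eq_succ_of_ne_zero (Fin.pos i).ne'
  have n : ∀ j, ⊤ ≤ normalizer (V j : Set G) := fun j => normal_iff_top_le_nrm.1 (hS _ (h1 j)).1
  have l := ((hS _ (h1 i)).2.2 _ (normal_iff_top_le_nrm.2 (nrm_inf (n i)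
    (nrm_iSup fun j => nrm_iSup fun _ => n j))) inf_le_left).resolve_left k
  have l2 : ∀ j, j ≠ i → V j ≤ ⨆ j, V (i.succAbove j) := fun j e => by
    obtain ⟨j, rfl⟩ := Fin.exists_succAbove_eq e
    exact le_iSup_of_le j le_rfl
  refine h3 m m.lt_succ_self ⟨fun j => V (i.succAbove j), fun j => h1 _,
    le_antisymm (iSup_le fun j => le_sSup (h1 _)) ?_⟩
  rw [← h2]
  refine iSup_le fun j => ?_
  by_cases e : j = i
  · subst e; exact (inf_eq_left.1 l).trans (iSup₂_le l2)
  · exact l2 j e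

theorem exists_pi_equiv {n : ℕ} {V : Fin n → Subgroup G} (h : ∀ i, MinN (V i)) (hi : iSupIndep V) :
    Nonempty ((⨆ i, V i : Subgroup G) ≃* ∀ i, V i) := by
  have hc : Pairwise fun i j => ∀ x y : G, x ∈ V i → y ∈ V j → Commute x y := fun i j hij x y a b =>
    commute_of_normal_of_disjoint _ _ (h i).1 (h j).1 (hi.pairwiseDisjoint hij) x y a b
  exact ⟨((MonoidHom.ofInjective (injective_noncommPiCoprod_of_iSupIndep (hcomm := hc) hi)).trans
    (MulEquiv.subgroupCongr noncommPiCoprod_range)).symm⟩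

theorem simple_of_minN [Finite G] {S : Set (Subgroup G)} (hS : ∀ V ∈ S, MinN V) (ht : sSup S = ⊤)
    (hV : V ∈ S) : IsSimpleGroup V := by
  haveI : Nontrivial V := (nontrivial_iff_ne_bot V).2 (hS V hV).2.1
  refine ⟨fun U hU => ?_⟩
  have hn : (U.map V.subtype).Normal := by
    rw [normal_iff_top_le_nrm, ← ht]
    refine sSup_le fun W hW => ?_
    by_cases e : W = V
    · subst e
      refine le_nrm_iff_conj.2 ?_
      rintro x hx _ ⟨u, hu, rfl⟩
      exact ⟨_, hU.conj_mem u hu ⟨x, hx⟩, rfl⟩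
    · refine le_nrm_of_le_cen fun w hw => mem_cen.2 ?_
      rintro _ ⟨u, -, rfl⟩
      exact ((hS W hW).commute (hS V hV) e hw u.2).symm
  rcases (hS V hV).2.2 _ hn (map_subtype_le U) with h | h
  · exact Or.inl ((map_eq_bot_iff_of_injective _ V.subtype_injective).1 h)
  · right
    rw [← comap_map_eq_self_of_injective V.subtype_injective U, h]
    exact subgroupOf_self V

theorem pow_of_char_simple [Finite G] [Nontrivial G]
    (h : ∀ H : Subgroup G, H.Characteristic → H = ⊥ ∨ H = ⊤) :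
    ∃ (T : Type) (_ : Group T) (m : ℕ), IsSimpleGroup T ∧ 0 < m ∧ Nonempty (G ≃* (Fin m → T)) := by
  obtain ⟨V, -, hV⟩ := exists_minN (N := (⊤ : Subgroup G)) top_ne_bot
  let S : Set (Subgroup G) := Set.range fun α : MulAut G => V.map (α : G →* G)
  have hS : ∀ W ∈ S, MinN W := by rintro _ ⟨α, rfl⟩; exact hV.map α
  have hVS : V ∈ S := ⟨1, Subgroup.map_id V⟩
  have ht : sSup S = ⊤ := by
    refine (h _ (characteristic_iff_map_le.2 fun β => ?_)).resolve_left fun e =>
      hV.2.1 (eq_bot_iff.2 (e ▸ le_sSup hVS))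
    rw [map_le_iff_le_comap]
    refine sSup_le ?_
    rintro _ ⟨α, rfl⟩
    rw [← map_le_iff_le_comap, Subgroup.map_map]
    exact le_sSup ⟨β * α, rfl⟩
  haveI := simple_of_minN hS ht hVS
  obtain ⟨n, W, h1, h2, h3⟩ := exists_indep_minN S hS
  obtain ⟨e⟩ := exists_pi_equiv (fun i => hS _ (h1 i)) h2
  have e2 : ∀ i, Nonempty (W i ≃* Shrink.{0} V) := fun i => by
    obtain ⟨α, hα⟩ := h1 i
    exact ⟨((MulEquiv.subgroupCongr hα).symm.trans (α.subgroupMap V).symm).trans
      (Shrink.mulEquiv.{0} (α := V)).symm⟩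
  refine ⟨Shrink.{0} V, inferInstance, n, (Shrink.mulEquiv.{0} (α := V)).isSimpleGroup, ?_,
    ⟨((topEquiv.symm.trans (MulEquiv.subgroupCongr (h3.trans ht).symm)).trans e).trans
      (MulEquiv.piCongrRight fun i => (e2 i).some)⟩⟩
  refine Nat.pos_of_ne_zero fun e0 => ?_
  subst e0
  rw [iSup_of_empty, ht] at h3
  exact top_ne_bot h3.symm

theorem pow_of_minN [Finite G] (h : MinN N) :
    ∃ (T : Type) (_ : Group T) (m : ℕ), IsSimpleGroup T ∧ 0 < m ∧ Nonempty (N ≃* (Fin m → T)) := by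
  haveI := h.1
  haveI : Nontrivial N := (nontrivial_iff_ne_bot N).2 h.2.1
  refine pow_of_char_simple fun U hU => ?_
  rcases h.2.2 (U.map N.subtype) inferInstance (map_subtype_le U) with h | h
  · exact Or.inl ((map_eq_bot_iff_of_injective _ N.subtype_injective).1 h)
  · right
    rw [← comap_map_eq_self_of_injective N.subtype_injective U, h]
    exact subgroupOf_self N

theorem single_mem_of_normal {ι T : Type*} [DecidableEq ι] [Group T] [IsSimpleGroup T]
    (hT : ¬ IsMulCommutative T) {H : Subgroup (ι → T)} [hH : H.Normal] {x : ι → T} (hx : x ∈ H)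
    {i : ι} (hi : x i ≠ 1) (t : T) : Pi.mulSingle i t ∈ H := by
  have hZ : center T = ⊥ := (center T).normal_of_characteristic.eq_bot_or_eq_top.resolve_right
    fun e => hT ⟨⟨fun a b => mem_center_iff.1 (e ▸ mem_top b) a⟩⟩
  obtain ⟨y, hy⟩ : ∃ y, y * x i ≠ x i * y := by
    by_contra e; push Not at e
    exact hi (mem_bot.1 (hZ ▸ mem_center_iff.2 e))
  have h1 : (H.comap (MonoidHom.mulSingle (fun _ : ι => T) i)).Normal := hH.comap _
  rcases h1.eq_bot_or_eq_top with h | h
  · refine absurd (mem_bot.1 (h ▸ (show ⁅y, x i⁆ ∈ H.comap _ from ?_))) fun e =>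
      hy (commutatorElement_eq_one_iff_mul_comm.1 e)
    have := H.mul_mem (hH.conj_mem x hx (Pi.mulSingle i y)) (H.inv_mem hx)
    rw [mem_comap]
    convert this using 1
    ext j
    by_cases e : j = i
    · subst e; simp [commutatorElement_def]
    · simp [Pi.mulSingle_eq_of_ne e, commutatorElement_def]
  · exact h.ge (mem_top t)

theorem char_simple_pow {T : Type*} [Group T] [IsSimpleGroup T] {n : ℕ} [Finite (Fin n → T)]
    (H : Subgroup (Fin n → T)) (hH : H.Characteristic) : H = ⊥ ∨ H = ⊤ := by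
  classical
  refine or_iff_not_imp_left.2 fun h0 => eq_top_iff.2 fun y _ => ?_
  obtain ⟨x, hx, hx1⟩ := exists_ne_one h0
  obtain ⟨i, hi⟩ := Function.ne_iff.1 hx1
  have ch : ∀ (α : MulAut (Fin n → T)) g, g ∈ H → α g ∈ H := fun α g hg =>
    characteristic_iff_le_comap.1 hH α hg
  by_cases hT : IsMulCommutative T
  · haveI : Finite T := Finite.of_injective (fun t (_ : Fin n) => t) fun a b e => congrFun e i
    letI : CommGroup T := open scoped IsMulCommutative in inferInstance
    haveI : Fact (Nat.card T).Prime := ⟨IsSimpleGroup.prime_card⟩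
    obtain ⟨inst⟩ : Nonempty (Module (ZMod (Nat.card T)) (Additive (Fin n → T))) :=
      ⟨AddCommGroup.zmodModule (fun x => funext fun j => pow_card_eq_one' (x := x.toMul j))⟩
    by_cases hy : y = 1
    · exact hy ▸ one_mem _
    obtain ⟨β, hβ⟩ := exists_linEquiv_card (K := ZMod (Nat.card T)) rfl
      (v := Additive.ofMul x) (w := Additive.ofMul y) hx1 hy
    have := ch (AddEquiv.toMultiplicative β.toAddEquiv) x hx
    exact (show _ = y from hβ) ▸ this
  · refine Subgroup.pi_mem_of_mulSingle_mem y fun j => ?_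
    have := ch (MulEquiv.arrowCongr (Equiv.swap i j) (MulEquiv.refl T)) x hx
    exact single_mem_of_normal hT this (i := j) (by simpa using hi) _

end H8
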