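import Mathlib

set_option autoImplicit false

namespace H8
open Polynomial

/-- Galois conjugation of the relation `l + l⁻¹ + u + u⁻¹ = 1`. -/
theorem re_ge_of_rel {l u l' : ℂ} {m n : ℕ} (hm : 0 < m) (hn : n ≠ 0) (hl : IsPrimitiveRoot l m)
    (hu : u ^ n = 1) (h : l + l⁻¹ + (u + u⁻¹) = 1) (hl' : IsPrimitiveRoot l' m) :
    -1 / 2 ≤ l'.re := by
  have int : ∀ {x : ℂ} {k : ℕ}, k ≠ 0 → x ^ k = 1 → IsIntegral ℚ x := fun {x k} hk hx =>
    ⟨X ^ k - C 1, monic_X_pow_sub_C _ hk, by simp [hx]⟩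
  have m1 : l ∈ IntermediateField.adjoin ℚ ({l, u} : Set ℂ) :=
    IntermediateField.subset_adjoin _ _ (by simp)
  have m2 : u ∈ IntermediateField.adjoin ℚ ({l, u} : Set ℂ) :=
    IntermediateField.subset_adjoin _ _ (by simp)
  obtain ⟨φ, hφ⟩ := IntermediateField.exists_algHom_adjoin_of_splits_of_aeval (K := ℂ)
    (S := ({l, u} : Set ℂ)) (F := ℚ) (fun s hs => ⟨by
      rcases hs with rfl | rfl
      · exact int hm.ne' hl.pow_eq_one
      · exact int hn hu, IsAlgClosed.splits _⟩) (x := l) (y := l') m1 (by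
      rw [← cyclotomic_eq_minpoly_rat hl hm, cyclotomic_eq_minpoly_rat hl' hm]
      exact minpoly.aeval _ _)
  set u' := φ ⟨u, m2⟩ with hu'
  have e1 : u' ^ n = 1 := by
    rw [hu', ← map_pow, ← map_one φ]; congr 1; exact Subtype.ext hu
  have e2 : l' + l'⁻¹ + (u' + u'⁻¹) = 1 := by
    rw [hu', ← hφ, ← map_inv₀, ← map_inv₀, ← map_add, ← map_add, ← map_add, ← map_one φ]
    congr 1; exact Subtype.ext h
  have n1 := Complex.norm_eq_one_of_pow_eq_one e1 hn
  have n2 := Complex.norm_eq_one_of_pow_eq_one hl'.pow_eq_one hm.ne'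
  rw [Complex.inv_eq_conj n1, Complex.inv_eq_conj n2] at e2
  have := congrArg Complex.re e2
  simp only [Complex.add_re, Complex.conj_re, Complex.one_re] at this
  have := Complex.re_le_norm u'
  linarith

theorem order_mem_of_re {m : ℕ} (hm : 0 < m)
    (h : ∀ l : ℂ, IsPrimitiveRoot l m → -1 / 2 ≤ l.re) :
    m = 1 ∨ m = 3 ∨ m = 4 ∨ m = 6 ∨ m = 10 := by
  have key : ∀ k : ℕ, k.Coprime m → m < 3 * k → 2 * k ≤ m → False := fun k hk h1 h2 => by
    have := h _ (Complex.isPrimitiveRoot_exp_of_coprime k m hm.ne' hk)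
    rw [show (2 * Real.pi * Complex.I * (k / m) : ℂ) = ((2 * Real.pi * (k / m) : ℝ) : ℂ) * Complex.I by
      push_cast; ring, Complex.exp_ofReal_mul_I_re] at this
    have hm' : (0 : ℝ) < m := by exact_mod_cast hm
    have h1' : (m : ℝ) < 3 * k := by exact_mod_cast h1
    have h2' : 2 * (k : ℝ) ≤ m := by exact_mod_cast h2
    have a1 : (1 : ℝ) / 3 < k / m := by rw [div_lt_div_iff₀ (by norm_num) hm']; linarith
    have a2 : (k : ℝ) / m ≤ 1 / 2 := by rw [div_le_div_iff₀ hm' (by norm_num)]; linarith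
    have pp := Real.pi_pos
    have := Real.cos_lt_cos_of_nonneg_of_le_pi (x := Real.pi - Real.pi / 3)
      (y := 2 * Real.pi * (k / m)) (by linarith) (by nlinarith) (by nlinarith)
    rw [Real.cos_pi_sub, Real.cos_pi_div_three] at this
    linarith
  by_contra! hc
  rcases Nat.even_or_odd' m with ⟨r, rfl | rfl⟩
  · rcases Nat.even_or_odd' r with ⟨s, rfl | rfl⟩
    · obtain ⟨s, rfl⟩ : ∃ t, s = t + 1 := ⟨s - 1, by omega⟩
      refine key (2 * s + 1) ?_ (by omega) (by omega)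
      rw [show 2 * (2 * (s + 1)) = 2 * (2 * s + 1 + 1) by ring]
      exact Nat.Coprime.mul_right (by simp) (by simp)
    · rcases s with _ | s
      · exact key 1 (by simp) (by omega) (by omega)
      refine key (2 * s + 1) ?_ (by omega) (by omega)
      rw [show 2 * (2 * (s + 1) + 1) = 2 * (2 * s + 1 + 2) by ring]
      exact Nat.Coprime.mul_right (by simp) (by simp)
  · exact key r (by rw [show 2 * r + 1 = 1 + r * 2 by ring]; simp) (by omega) (by omega)

theorem geom_of_prim {l : ℂ} {m k : ℕ} (hl : IsPrimitiveRoot l m) (hk : 0 < k) (hkm : k < m) :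
    l ^ k ≠ 1 := hl.pow_ne_one_of_pos_of_lt hk.ne' hkm

theorem trace_val {l : ℂ} {m : ℕ} (hl : IsPrimitiveRoot l m) (hm : 0 < m) :
    (m = 1 → l + l⁻¹ = 2) ∧ (m = 3 → l + l⁻¹ = -1) ∧ (m = 4 → l + l⁻¹ = 0) ∧
      (m = 6 → l + l⁻¹ = 1) ∧ (m = 10 → (l + l⁻¹) ^ 2 = (l + l⁻¹) + 1) := by
  have l0 : l ≠ 0 := hl.ne_zero hm.ne'
  have p := hl.pow_eq_one
  refine ⟨?_, ?_, ?_, ?_, ?_⟩ <;> rintro rfl
  · rw [pow_one] at p; rw [p]; norm_num
  · have h1 := sub_ne_zero.2 (geom_of_prim hl (k := 1) (by norm_num) (by norm_num))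
    have : l ^ 2 + l + 1 = 0 := mul_left_cancel₀ h1 (by linear_combination p)
    field_simp; linear_combination this
  · have h1 := sub_ne_zero.2 (geom_of_prim hl (k := 2) (by norm_num) (by norm_num))
    have : l ^ 2 + 1 = 0 := mul_left_cancel₀ h1 (by linear_combination p)
    field_simp; linear_combination this
  · have h1 := sub_ne_zero.2 (geom_of_prim hl (k := 2) (by norm_num) (by norm_num))
    have h2 := sub_ne_zero.2 (geom_of_prim hl (k := 3) (by norm_num) (by norm_num))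
    have : l ^ 2 - l + 1 = 0 := mul_left_cancel₀ h1 (mul_left_cancel₀ h2
      (by linear_combination (l - 1) * p))
    field_simp; linear_combination this
  · have h1 := sub_ne_zero.2 (geom_of_prim hl (k := 2) (by norm_num) (by norm_num))
    have h2 := sub_ne_zero.2 (geom_of_prim hl (k := 5) (by norm_num) (by norm_num))
    have : l ^ 4 - l ^ 3 + l ^ 2 - l + 1 = 0 := mul_left_cancel₀ h1 (mul_left_cancel₀ h2
      (by linear_combination (l - 1) * p))
    field_simp; linear_combination this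

/-- The rational solutions of `2 cos α + 2 cos β = 1`. -/
theorem orders_of_rel {l u : ℂ} {m n : ℕ} (hm : 0 < m) (hn : 0 < n) (hl : IsPrimitiveRoot l m)
    (hu : IsPrimitiveRoot u n) (h : l + l⁻¹ + (u + u⁻¹) = 1) :
    m = 1 ∨ n = 1 ∨ m = 4 ∨ n = 4 ∨ (m = 10 ∧ n = 10) := by
  have h1 := order_mem_of_re hm fun l' => re_ge_of_rel hm hn.ne' hl hu.pow_eq_one h
  have h2 := order_mem_of_re hn fun l' => re_ge_of_rel hn hm.ne' hu hl.pow_eq_one
    (by rw [add_comm]; exact h)
  obtain ⟨-, a3, -, a6, a10⟩ := trace_val hl hm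
  obtain ⟨-, b3, -, b6, b10⟩ := trace_val hu hn
  generalize l + l⁻¹ = s at *
  generalize u + u⁻¹ = t at *
  obtain rfl : t = 1 - s := by linear_combination h
  rcases h1 with rfl | rfl | rfl | rfl | rfl <;> rcases h2 with rfl | rfl | rfl | rfl | rfl <;>
    simp only [true_or, or_true, and_self, forall_const] at * <;> exfalso
  all_goals first
    | (rw [a3] at *; norm_num at *; done)
    | (rw [a6] at *; norm_num at *; done)
    | (have : s = 2 := by linear_combination -b3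
       rw [this] at a10; norm_num at a10)
    | (have : s = 0 := by linear_combination -b6
       rw [this] at a10; norm_num at a10)

section ring
variable {G R : Type*} [Group G] [Ring R] [Algebra ℂ R]

/-- A representation in which no non-identity element has eigenvalue one. -/
structure FR (ρ : G →* R) : Prop where
  fin : FiniteDimensional ℂ R
  nt : Nontrivial R
  unit : ∀ g, g ≠ 1 → IsUnit (ρ g - 1)

namespace FR
variable {ρ : G →* R} (h : FR ρ)
include h

theorem charZero : CharZero R :=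
  haveI := h.nt
  charZero_of_injective_algebraMap (algebraMap ℂ R).injective

theorem inj : Function.Injective ρ :=
  (injective_iff_map_eq_one ρ).2 fun g hg => by
    by_contra h1
    haveI := h.nt
    have := h.unit g h1
    rw [hg, sub_self] at this
    exact not_isUnit_zero this

theorem prim [Finite G] {g : G} {l : ℂ} (hl : l ∈ spectrum ℂ (ρ g)) :
    IsPrimitiveRoot l (orderOf g) := by
  haveI := h.nt
  refine ⟨?_, fun k hk => orderOf_dvd_of_pow_eq_one ?_⟩
  · have := spectrum.pow_mem_pow _ (orderOf g) hl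
    rwa [← map_pow, pow_orderOf_eq_one, map_one, spectrum.one_eq] at this
  · by_contra h1
    have := spectrum.pow_mem_pow _ k hl
    rw [← map_pow, hk, spectrum.mem_iff, map_one] at this
    exact this (by rw [← neg_sub]; exact (h.unit _ h1).neg)

theorem exists_prim [Finite G] {g : G} {s : ℂ} (hs : s ∈ spectrum ℂ (ρ g + ρ g⁻¹)) :
    ∃ l : ℂ, IsPrimitiveRoot l (orderOf g) ∧ l + l⁻¹ = s := by
  obtain ⟨l, hl⟩ := IsAlgClosed.exists_root (X ^ 2 - C s * X + 1 : ℂ[X]) (by
    rw [show (X ^ 2 - C s * X + 1 : ℂ[X]).degree = 2 by compute_degree!]; decide)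
  have hl' : l ^ 2 - s * l + 1 = 0 := by simpa using hl
  have l0 : l ≠ 0 := by rintro rfl; simp at hl'
  have e : l + l⁻¹ = s := by field_simp; linear_combination hl'
  by_cases h1 : l ∈ spectrum ℂ (ρ g)
  · exact ⟨l, h.prim h1, e⟩
  by_cases h2 : l⁻¹ ∈ spectrum ℂ (ρ g)
  · exact ⟨l⁻¹, h.prim h2, by rw [inv_inv, add_comm, e]⟩
  rw [spectrum.notMem_iff] at h1 h2
  refine absurd ?_ (spectrum.mem_iff.1 hs)
  have i1 : ρ g⁻¹ * ρ g = 1 := by rw [← map_mul, inv_mul_cancel, map_one]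
  have : algebraMap ℂ R s - (ρ g + ρ g⁻¹) =
      -(ρ g⁻¹ * (algebraMap ℂ R l - ρ g) * (algebraMap ℂ R l⁻¹ - ρ g)) := by
    rw [← e, Algebra.algebraMap_eq_smul_one, Algebra.algebraMap_eq_smul_one,
      Algebra.algebraMap_eq_smul_one]
    simp only [mul_sub, sub_mul, mul_smul_comm, smul_mul_assoc, mul_one, i1, one_mul, smul_sub,
      smul_smul, inv_mul_cancel₀ l0, one_smul, add_smul]
    abel
  rw [this]
  exact (((Group.isUnit _).map ρ).mul h1 |>.mul h2).neg

theorem inv2 {z : G} (hz : z * z = 1) (h1 : z ≠ 1) : ρ z = -1 := by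
  have : (ρ z - 1) * (ρ z + 1) = 0 := by
    rw [show (ρ z - 1) * (ρ z + 1) = ρ z * ρ z - 1 by noncomm_ring, ← map_mul, hz, map_one, sub_self]
  exact eq_neg_of_add_eq_zero_left ((h.unit z h1).mul_right_eq_zero.1 this)

theorem sq3 {a : G} (ha : orderOf a = 3) : ρ a * ρ a = -ρ a - 1 := by
  have h1 : a ≠ 1 := fun e => by simp [e] at ha
  have : (ρ a - 1) * (ρ a * ρ a + ρ a + 1) = 0 := by
    rw [show (ρ a - 1) * (ρ a * ρ a + ρ a + 1) = ρ a ^ 3 - 1 by noncomm_ring, ← map_pow, ← ha,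
      pow_orderOf_eq_one, map_one, sub_self]
  linear_combination (norm := noncomm_ring) (h.unit a h1).mul_right_eq_zero.1 this

theorem inv3 {a : G} (ha : orderOf a = 3) : ρ a⁻¹ = -ρ a - 1 := by
  rw [← h.sq3 ha, ← map_mul]
  congr 1
  rw [inv_eq_iff_mul_eq_one, ← pow_three, ← ha, pow_orderOf_eq_one]

theorem eq_or_inv {a b : G} (ha : orderOf a = 3) (hb : orderOf b = 3) (e : a * b = b * a) :
    b = a ∨ b = a⁻¹ := by
  by_cases h1 : b * a⁻¹ = 1
  · exact .inl (mul_inv_eq_one.1 h1)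
  right
  have c : ρ a * ρ b = ρ b * ρ a := by rw [← map_mul, e, map_mul]
  have u := (h.unit _ h1).mul ((Group.isUnit a).map ρ)
  rw [sub_mul, ← map_mul, inv_mul_cancel_right, one_mul] at u
  apply h.inj
  rw [h.inv3 ha, ← sub_eq_zero]
  refine u.mul_right_eq_zero.1 ?_
  linear_combination (norm := noncomm_ring) h.sq3 hb - h.sq3 ha - c

end FR

/-- The central element of the algebra generated by two elements of order three. -/
def SS (ρ : G →* R) (a b : G) : R := ρ a * ρ b + ρ b * ρ a + ρ a + ρ b + 1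

omit [Algebra ℂ R] in
theorem SS_comm (ρ : G →* R) (a b : G) : SS ρ a b = SS ρ b a := by
  unfold SS; abel

namespace FR
variable {ρ : G →* R} (h : FR ρ)
include h

theorem SS_eq {a b : G} (ha : orderOf a = 3) (hb : orderOf b = 3) :
    SS ρ a b = ρ (a * b) + ρ (a * b)⁻¹ := by
  rw [mul_inv_rev, map_mul, map_mul, h.inv3 ha, h.inv3 hb, SS]; noncomm_ring

theorem SS_inv {a b : G} (hb : orderOf b = 3) : SS ρ a b⁻¹ = 1 - SS ρ a b := by
  rw [SS, SS, h.inv3 hb]; noncomm_ring

theorem SS_zero {a b : G} (ha : orderOf a = 3) (hb : orderOf b = 3) :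
    SS ρ a b = 0 ↔ orderOf (a * b) = 4 := by
  haveI := h.charZero
  rw [h.SS_eq ha hb]
  generalize a * b = x
  have i1 : ρ x * ρ x⁻¹ = 1 := by rw [← map_mul, mul_inv_cancel, map_one]
  constructor
  · intro e
    have e2 : ρ (x ^ 2) = -1 := by
      rw [map_pow]; linear_combination (norm := noncomm_ring) ρ x * e - i1
    refine orderOf_eq_prime_pow (p := 2) (n := 1) (fun e3 => ?_) (h.inj ?_)
    · rw [pow_one] at e3
      rw [e3, map_one] at e2
      exact two_ne_zero (α := R) (by linear_combination (norm := (noncomm_ring; norm_num)) e2)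
    · rw [show 2 ^ (1 + 1) = 2 * 2 by rfl, pow_mul, map_pow, e2, map_one]; simp
  · intro e
    have e2 := h.inv2 (z := x ^ 2) (by rw [← pow_add, show 2 + 2 = orderOf x from e.symm,
      pow_orderOf_eq_one]) (pow_ne_one_of_lt_orderOf (by norm_num) (by omega))
    rw [map_pow] at e2
    linear_combination (norm := noncomm_ring) -ρ x * i1 + e2 * ρ x⁻¹

theorem gold_of_ten {x : G} (hx : orderOf x = 10) :
    (ρ x + ρ x⁻¹) * (ρ x + ρ x⁻¹) = ρ x + ρ x⁻¹ + 1 := by
  have i1 : ρ x * ρ x⁻¹ = 1 := by rw [← map_mul, mul_inv_cancel, map_one]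
  have i2 : ρ x⁻¹ * ρ x = 1 := by rw [← map_mul, inv_mul_cancel, map_one]
  have e5 := h.inv2 (z := x ^ 5) (by rw [← pow_add, show 5 + 5 = orderOf x from hx.symm,
      pow_orderOf_eq_one]) (pow_ne_one_of_lt_orderOf (by norm_num) (by omega))
  have u := h.unit (x ^ 2) (pow_ne_one_of_lt_orderOf (by norm_num) (by omega))
  rw [map_pow] at e5 u
  have : ρ x ^ 4 - ρ x ^ 3 + ρ x ^ 2 - ρ x + 1 = 0 := u.mul_right_eq_zero.1 (by
    linear_combination (norm := noncomm_ring) (ρ x - 1) * e5)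
  refine (((Group.isUnit x).map ρ).pow 2).mul_left_cancel ?_
  generalize ρ x = X at *
  generalize ρ x⁻¹ = Y at *
  linear_combination (norm := noncomm_ring) this + X * X * i1 + X * i1 * X + X * i1 * Y + i1 - X * i1

/-- The five types of pairs of elements of order three. -/
theorem pair [Finite G] {a b : G} (ha : orderOf a = 3) (hb : orderOf b = 3) :
    b = a⁻¹ ∨ b = a ∨ orderOf (a * b) = 4 ∨ orderOf (a * b⁻¹) = 4 ∨
      (orderOf (a * b) = 10 ∧ orderOf (a * b⁻¹) = 10) := by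
  haveI := h.fin
  haveI := h.nt
  obtain ⟨s, hs⟩ := spectrum.nonempty_of_isAlgClosed_of_finiteDimensional ℂ (SS ρ a b)
  have hs' : 1 - s ∈ spectrum ℂ (SS ρ a b⁻¹) := by
    rw [h.SS_inv hb, spectrum.mem_iff, map_sub, map_one, sub_sub_sub_cancel_left, ← neg_sub,
      IsUnit.neg_iff]
    exact hs
  rw [h.SS_eq ha hb] at hs
  rw [h.SS_eq ha ((orderOf_inv b).trans hb)] at hs'
  obtain ⟨l, hl, e1⟩ := h.exists_prim hs
  obtain ⟨u, hu, e2⟩ := h.exists_prim hs'
  rcases orders_of_rel (orderOf_pos _) (orderOf_pos _) hl hu (by rw [e1, e2]; ring) with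
    e | e | e | e | e
  · exact .inl (eq_inv_of_mul_eq_one_right (orderOf_eq_one_iff.1 e))
  · exact .inr (.inl (mul_inv_eq_one.1 (orderOf_eq_one_iff.1 e)).symm)
  · exact .inr (.inr (.inl e))
  · exact .inr (.inr (.inr (.inl e)))
  · exact .inr (.inr (.inr (.inr e)))

theorem gold {a b : G} (ha : orderOf a = 3) (hb : orderOf b = 3) (e : orderOf (a * b) = 10) :
    SS ρ a b * SS ρ a b = SS ρ a b + 1 := by
  rw [h.SS_eq ha hb]; exact h.gold_of_ten e

theorem SS_self {a : G} (ha : orderOf a = 3) : SS ρ a a = -1 := by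
  rw [SS, h.sq3 ha]; noncomm_ring

theorem conj1 {a c : G} (ha : orderOf a = 3) (e : SS ρ a c = 0) :
    ρ (a * c * a⁻¹) = ρ c * ρ a + ρ a := by
  rw [map_mul, map_mul, h.inv3 ha]
  have := h.sq3 ha
  unfold SS at e
  linear_combination (norm := noncomm_ring) -ρ a * e + this * ρ c + this - e

theorem conj2 {a c : G} (ha : orderOf a = 3) (e : SS ρ a c = 0) :
    ρ (a⁻¹ * c * a) = ρ a * ρ c + ρ a := by
  rw [map_mul, map_mul, h.inv3 ha]
  have := h.sq3 ha
  unfold SS at e
  linear_combination (norm := noncomm_ring) -e * ρ a + ρ c * this + this - e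

theorem sum_SS {a b c : G} (ha : orderOf a = 3) (e1 : SS ρ a b = 0) (e2 : SS ρ a c = 0) :
    SS ρ b c + SS ρ b (a * c * a⁻¹) + SS ρ b (a⁻¹ * c * a) = 1 := by
  rw [SS, SS, SS, h.conj1 ha e2, h.conj2 ha e2]
  unfold SS at e1 e2
  linear_combination (norm := noncomm_ring) ρ b * e2 + e2 * ρ b + e2 + e1

theorem not_three {s t u : R} (hs : s = 1 ∨ s * s = s + 1) (ht : t = 1 ∨ t * t = t + 1)
    (hu : u = 1 ∨ u * u = u + 1) (e : s + t + u = 1) : False := by
  haveI := h.charZero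
  have two : ∀ {s t : R}, s * s = s + 1 → t = 1 ∨ t * t = t + 1 → s + t = 0 → False := by
    intro s t hs ht e
    obtain rfl : s = -t := eq_neg_of_add_eq_zero_left e
    rcases ht with rfl | ht
    · exact one_ne_zero (α := R) (by linear_combination (norm := noncomm_ring) hs)
    · have e2 : 2 * t = 0 := by linear_combination (norm := noncomm_ring) hs - ht
      have : ((4 : ℕ) : R) = 0 := by
        push_cast
        linear_combination (norm := (noncomm_ring; norm_num)) 2 * e2 * t - 2 * e2 - 4 * ht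
      exact absurd (Nat.cast_eq_zero.1 this) (by norm_num)
  rcases hu with rfl | hu
  · rcases hs with rfl | hs
    · rcases ht with rfl | ht
      · exact two_ne_zero (α := R) (by linear_combination (norm := (noncomm_ring; norm_num)) e)
      · exact two ht (.inl rfl) (by linear_combination (norm := noncomm_ring) e)
    · exact two hs ht (by linear_combination (norm := noncomm_ring) e)
  rcases hs with rfl | hs
  · exact two hu ht (by linear_combination (norm := noncomm_ring) e)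
  rcases ht with rfl | ht
  · exact two hu (.inr hs) (by linear_combination (norm := noncomm_ring) e)
  obtain rfl : u = 1 - s - t := by linear_combination (norm := noncomm_ring) e
  have e1 : s * t + t * s = -1 := by linear_combination (norm := noncomm_ring) hu - hs - ht
  have e2 : s * t = t * s := by
    linear_combination (norm := noncomm_ring) s * e1 - e1 * s - hs * t + t * hs
  have e3 : 2 * (s * t) = -1 := by linear_combination (norm := noncomm_ring) e1 + e2
  have e4 : 4 * (s + t) = -1 := by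
    linear_combination (norm := noncomm_ring) e3 * (2 * (s * t)) - e3 + 4 * s * e2 * t
      - 4 * hs * (t * t) - 4 * (s + 1) * ht - 2 * e3
  have : ((11 : ℕ) : R) = 0 := by
    push_cast
    linear_combination (norm := (noncomm_ring; norm_num)) e4 * (4 * (s + t)) - e4 - 16 * hu - 4 * e4
  exact absurd (Nat.cast_eq_zero.1 this) (by norm_num)

/-- The commutator of a pair. -/
theorem w_sq {c d : G} (hc : orderOf c = 3) (hd : orderOf d = 3) :
    (ρ c * ρ d - ρ d * ρ c) * (ρ c * ρ d - ρ d * ρ c) =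
      SS ρ c d * SS ρ c d - SS ρ c d - 2 := by
  have h1 := h.sq3 hc
  have h2 := h.sq3 hd
  unfold SS
  generalize ρ c = C at *
  generalize ρ d = D at *
  linear_combination (norm := (noncomm_ring; try norm_num)) -2 * C * h2 * C - 2 * D * h1 * D
    - h1 * D - C * h2 - D * h1 - h2 * C + h1 + h2

theorem wA {a c d : G} (ha : orderOf a = 3) (hc : orderOf c = 3) (e1 : SS ρ a c = 0)
    (e2 : SS ρ a d = 0) (e3 : SS ρ c (a * d * a⁻¹) = 0) :
    (ρ c * ρ d - ρ d * ρ c) * ρ a = -ρ (d * c⁻¹) := by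
  rw [SS, h.conj1 ha e2] at e3
  rw [map_mul, h.inv3 hc]
  unfold SS at e1
  linear_combination (norm := noncomm_ring) e3 - e1 - ρ d * e1

theorem Aw {a c d : G} (ha : orderOf a = 3) (hc : orderOf c = 3) (e1 : SS ρ a c = 0)
    (e2 : SS ρ a d = 0) (e3 : SS ρ c (a⁻¹ * d * a) = 0) :
    ρ a * (ρ c * ρ d - ρ d * ρ c) = ρ (c⁻¹ * d) := by
  rw [SS, h.conj2 ha e2] at e3
  rw [map_mul, h.inv3 hc]
  unfold SS at e1
  linear_combination (norm := noncomm_ring) -e3 + e1 + e1 * ρ d

theorem SS_cases [Finite G] {a b : G} (ha : orderOf a = 3) (hb : orderOf b = 3) :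
    (b = a⁻¹ ∧ SS ρ a b = 2) ∨ (b = a ∧ SS ρ a b = -1) ∨ SS ρ a b = 0 ∨ SS ρ a b = 1 ∨
      (orderOf (a * b) = 10 ∧ orderOf (a * b⁻¹) = 10 ∧ SS ρ a b * SS ρ a b = SS ρ a b + 1) := by
  rcases h.pair ha hb with rfl | rfl | e | e | e
  · exact .inl ⟨rfl, by rw [h.SS_inv ha, h.SS_self ha]; norm_num⟩
  · exact .inr (.inl ⟨rfl, h.SS_self ha⟩)
  · exact .inr (.inr (.inl ((h.SS_zero ha hb).2 e)))
  · have := (h.SS_zero ha ((orderOf_inv b).trans hb)).2 e
    rw [h.SS_inv hb, sub_eq_zero] at this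
    exact .inr (.inr (.inr (.inl this.symm)))
  · exact .inr (.inr (.inr (.inr ⟨e.1, e.2, h.gold ha hb e.1⟩)))

/-- If the additive commutator is a group element up to sign, the pair is of icosahedral type. -/
theorem gold_of_w [Finite G] {c d g : G} (hc : orderOf c = 3) (hd : orderOf d = 3)
    (e : (ρ c * ρ d - ρ d * ρ c) * (ρ c * ρ d - ρ d * ρ c) = ρ g) :
    orderOf (c * d) = 10 ∧ orderOf (c * d⁻¹) = 10 ∧ ρ g = -1 := by
  haveI := h.charZero
  haveI := h.nt
  rw [h.w_sq hc hd] at e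
  have n0 : ρ g ≠ 0 := ((Group.isUnit g).map ρ).ne_zero
  have n2 : ρ g ≠ -2 := fun e => by
    have : ((((-2 : ℤ) ^ orderOf g : ℤ)) : R) = ((1 : ℤ) : R) := by
      push_cast; rw [← e, ← map_pow, pow_orderOf_eq_one, map_one]
    have := congrArg Int.natAbs (Int.cast_injective this)
    simp [(orderOf_pos g).ne'] at this
  rcases h.SS_cases hc hd with ⟨-, e1⟩ | ⟨-, e1⟩ | e1 | e1 | ⟨o1, o2, e1⟩
  · rw [e1] at e; exact absurd (e.symm.trans (by norm_num)) n0
  · rw [e1] at e; exact absurd (e.symm.trans (by norm_num)) n0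
  · rw [e1] at e; exact absurd (e.symm.trans (by norm_num)) n2
  · rw [e1] at e; exact absurd (e.symm.trans (by norm_num)) n2
  · exact ⟨o1, o2, by rw [← e, e1, add_sub_cancel_left]; norm_num⟩

theorem gold1 [Finite G] {a c d : G} (ha : orderOf a = 3) (hc : orderOf c = 3) (hd : orderOf d = 3)
    (e1 : SS ρ a c = 0) (e2 : SS ρ a d = 0) (e3 : SS ρ c (a * d * a⁻¹) = 0) :
    orderOf (c * d) = 10 ∧ orderOf (c * d⁻¹) = 10 ∧
      (ρ c * ρ d - ρ d * ρ c) * (ρ c * ρ d - ρ d * ρ c) = -1 := by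
  have e := h.wA ha hc e1 e2 e3
  have e' : ρ c * ρ d - ρ d * ρ c = -ρ (d * c⁻¹ * a⁻¹) := by
    rw [map_mul _ _ a⁻¹, ← neg_mul, ← e, mul_assoc, ← map_mul ρ a, mul_inv_cancel, map_one, mul_one]
  have e2 : (ρ c * ρ d - ρ d * ρ c) * (ρ c * ρ d - ρ d * ρ c) =
      ρ (d * c⁻¹ * a⁻¹ * (d * c⁻¹ * a⁻¹)) := by rw [e', neg_mul_neg, ← map_mul]
  obtain ⟨o1, o2, o3⟩ := h.gold_of_w hc hd e2
  exact ⟨o1, o2, e2.trans o3⟩

theorem gold2 [Finite G] {a c d : G} (ha : orderOf a = 3) (hc : orderOf c = 3) (hd : orderOf d = 3)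
    (e1 : SS ρ a c = 0) (e2 : SS ρ a d = 0) (e3 : SS ρ c (a⁻¹ * d * a) = 0) :
    orderOf (c * d) = 10 ∧ orderOf (c * d⁻¹) = 10 ∧
      (ρ c * ρ d - ρ d * ρ c) * (ρ c * ρ d - ρ d * ρ c) = -1 := by
  have e := h.Aw ha hc e1 e2 e3
  have e' : ρ c * ρ d - ρ d * ρ c = ρ (a⁻¹ * (c⁻¹ * d)) := by
    rw [map_mul _ a⁻¹, ← e, ← mul_assoc, ← map_mul ρ a⁻¹, inv_mul_cancel, map_one, one_mul]
  have e2 : (ρ c * ρ d - ρ d * ρ c) * (ρ c * ρ d - ρ d * ρ c) =
      ρ (a⁻¹ * (c⁻¹ * d) * (a⁻¹ * (c⁻¹ * d))) := by rw [e', ← map_mul]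
  obtain ⟨o1, o2, o3⟩ := h.gold_of_w hc hd e2
  exact ⟨o1, o2, e2.trans o3⟩

/-- For an icosahedral pair, `c` and `d c d⁻¹` form a tetrahedral pair. -/
theorem SS_conj_of_gold {c d : G} (hc : orderOf c = 3) (hd : orderOf d = 3)
    (e : orderOf (c * d) = 10) : SS ρ c (d * c * d⁻¹) = 0 := by
  have e1 := h.gold hc hd e
  rw [SS, map_mul, map_mul, h.inv3 hd]
  have h1 := h.sq3 hc
  have h2 := h.sq3 hd
  unfold SS at e1
  generalize ρ c = C at *
  generalize ρ d = D at *
  linear_combination (norm := noncomm_ring) -e1 + C * h2 * C + D * h1 * D + h1 * D + C * h2 + h2 * C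

end FR
end ring

end H8
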