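import Cfsg.Agent.H8.FC1
import Cfsg.Agent.H8.Frob
import Cfsg.Agent.H1.Lift
import Cfsg.Agent.H1.BG3a
import Cfsg.Agent.H1.U1
import Cfsg.Agent.H1.FrobK
import Cfsg.Agent.H1.Inv2

set_option autoImplicit false

namespace H8
open Subgroup Cfsg H7 H1B

section carm
variable {H : Type*} [Group H]

theorem carm1 {a b c : H} (ha : a * a * a = 1) (hb : b * b * b = 1) (hc : c * c * c = 1) (hab : a * b * a * b = 1) (hac : a * c * a * c = 1) (hbc : b * c * b * c = 1) :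
    a⁻¹ * c⁻¹ * b⁻¹ * c * a = b⁻¹ * a⁻¹ * c⁻¹ * a * b := by
  calc a⁻¹ * c⁻¹ * b⁻¹ * c * a = ((a⁻¹) * (b * c * b * c)⁻¹ * (a⁻¹)⁻¹) * ((a⁻¹ * b) * (c * c * c) * (a⁻¹ * b)⁻¹) * ((a⁻¹ * b * c⁻¹ * a) * (a * b * a * b)⁻¹ * (a⁻¹ * b * c⁻¹ * a)⁻¹) * ((a⁻¹ * b * c⁻¹) * (a * a * a) * (a⁻¹ * b * c⁻¹)⁻¹) * ((a⁻¹ * b) * (a * c * a * c)⁻¹ * (a⁻¹ * b)⁻¹) * ((a⁻¹ * b * a * b⁻¹) * (b * c * b * c) * (a⁻¹ * b * a * b⁻¹)⁻¹) * ((a⁻¹ * a⁻¹) * (a * b * a * b) * (a⁻¹ * a⁻¹)⁻¹) * ((a * a * a)⁻¹) * ((a) * (b * b * b)⁻¹ * (a)⁻¹) * ((a * b * a * b)) * (b⁻¹ * a⁻¹ * c⁻¹ * a * b) := by group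
    _ = _ := by simp only [ha, hab, hac, hb, hbc, hc]; group

theorem carm2 {a b c d : H} (hb : b * b * b = 1) (hab : a * b * a * b = 1) (hac : a * c * a * c = 1) (hbc : b * c * b * c = 1) (hd : d * d * d = 1) (had : a * d * a * d = 1) (hbd : b * d * b * d = 1) (hcd : c * d * c * d = 1) :
    b⁻¹ * d⁻¹ * a * d * b * c = c * b⁻¹ * d⁻¹ * a * d * b := by
  calc b⁻¹ * d⁻¹ * a * d * b * c = ((b⁻¹ * d⁻¹) * (a * d * a * d) * (b⁻¹ * d⁻¹)⁻¹) * ((b⁻¹) * (d * d * d)⁻¹ * (b⁻¹)⁻¹) * ((b⁻¹ * d * a⁻¹) * (b * c * b * c) * (b⁻¹ * d * a⁻¹)⁻¹) * ((b⁻¹ * d * a⁻¹ * c⁻¹) * (b * b * b)⁻¹ * (b⁻¹ * d * a⁻¹ * c⁻¹)⁻¹) * ((b⁻¹ * d * a⁻¹ * c⁻¹ * b) * (a * d * a * d)⁻¹ * (b⁻¹ * d * a⁻¹ * c⁻¹ * b)⁻¹) * ((b⁻¹ * d * a⁻¹ * c⁻¹ * b * a) * (d * d * d) * (b⁻¹ * d * a⁻¹ * c⁻¹ * b * a)⁻¹) * ((b⁻¹ * d * c) * (a * c * a * c)⁻¹ * (b⁻¹ * d * c)⁻¹) * ((b⁻¹ * d * c) * (a * b * a * b) * (b⁻¹ * d * c)⁻¹) * ((b⁻¹ * c⁻¹)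 * (c * d * c * d) * (b⁻¹ * c⁻¹)⁻¹) * ((b⁻¹ * c⁻¹) * (b * d * b * d)⁻¹ * (b⁻¹ * c⁻¹)⁻¹) * ((b⁻¹ * c⁻¹) * (b * b * b) * (b⁻¹ * c⁻¹)⁻¹) * ((c) * (b * c * b * c)⁻¹ * (c)⁻¹) * (c * b⁻¹ * d⁻¹ * a * d * b) := by group
    _ = _ := by simp only [hab, hac, had, hb, hbc, hbd, hcd, hd]; group

theorem carm3 {a b c d : H} (hb : b * b * b = 1) (hc : c * c * c = 1) (hab : a * b * a * b = 1) (hbc : b * c * b * c = 1) (hd : d * d * d = 1) (had : a * d * a * d = 1) (hbd : b * d * b * d = 1) (hcd : c * d * c * d = 1) (e : b⁻¹ * d⁻¹ * a * d * b * c⁻¹ = 1) :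
    a = 1 := by
  calc a = ((a * b * a * b)) * ((b⁻¹ * a⁻¹ * d) * (b * d * b * d)⁻¹ * (b⁻¹ * a⁻¹ * d)⁻¹) * ((b⁻¹ * d * b * c⁻¹) * (b⁻¹ * d⁻¹ * a * d * b * c⁻¹)⁻¹ * (b⁻¹ * d * b * c⁻¹)⁻¹) * ((b⁻¹ * b⁻¹) * (b * d * b * d) * (b⁻¹ * b⁻¹)⁻¹) * ((b * b * b)⁻¹) * ((b) * (c * d * c * d)⁻¹ * (b)⁻¹) * ((b * c) * (d * d * d) * (b * c)⁻¹) * ((b * c * b * c)) * ((c * c * c)⁻¹) * ((c) * (b⁻¹ * d⁻¹ * a * d * b * c⁻¹)⁻¹ * (c)⁻¹) * ((c * d) * (b * d * b * d)⁻¹ * (c * d)⁻¹) * ((c * d * c * d)) * ((d⁻¹ * c⁻¹) * (b * b * b) * (d⁻¹ * c⁻¹)⁻¹) * ((d⁻¹) * (b * c * b * c)⁻¹ * (d⁻¹)⁻¹) * ((d⁻¹ * d⁻¹ * a * d * b * c⁻¹) * (b⁻¹ * d⁻¹ * a * d * b * c⁻¹)⁻¹ * (d⁻¹ * d⁻¹ * a * d * b * c⁻¹)⁻¹) * ((d⁻¹ * d⁻¹) * (a * d * a * d) * (d⁻¹ * d⁻¹)⁻¹) * ((d * d * d)⁻¹) * (1) := by group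
    _ = _ := by simp only [e, hab, had, hb, hbc, hbd, hc, hcd, hd]; group

theorem carm4 {a b c d : H} (ha : a * a * a = 1) (hb : b * b * b = 1) (hc : c * c * c = 1) (hab : a * b * a * b = 1) (hac : a * c * a * c = 1) (hbc : b * c * b * c = 1) (hd : d * d * d = 1) (had : a * d * a * d = 1) (hbd : b * d * b * d = 1) (hcd : c * d * c * d = 1) (e : b⁻¹ * d⁻¹ * a * d * b * c = 1) :
    a = 1 := by
  calc a = ((a * b * a * b)) * ((b⁻¹ * a⁻¹ * d) * (b * d * b * d)⁻¹ * (b⁻¹ * a⁻¹ * d)⁻¹) * ((b⁻¹ * d * b * c) * (b⁻¹ * d⁻¹ * a * d * b * c)⁻¹ * (b⁻¹ * d * b * c)⁻¹) * ((b⁻¹ * b⁻¹) * (b * d * b * d) * (b⁻¹ * b⁻¹)⁻¹) * ((b * b * b)⁻¹) * ((b * d⁻¹) * (c * d * c * d) * (b * d⁻¹)⁻¹) * ((b) * (d * d * d)⁻¹ * (b)⁻¹) * ((b * d * b * d)) * ((d⁻¹ * c) * (b * c * b * c)⁻¹ * (d⁻¹ * c)⁻¹) * ((d⁻¹) * (c * c * c) * (d⁻¹)⁻¹) * ((c * d * c * d)⁻¹) * ((c * d * c⁻¹) * (b * b * b) * (c * d * c⁻¹)⁻¹) *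 ((c * d) * (b * c * b * c)⁻¹ * (c * d)⁻¹) * ((c * a⁻¹ * d * b) * (b⁻¹ * d⁻¹ * a * d * b * c) * (c * a⁻¹ * d * b)⁻¹) * ((c) * (a * a * a)⁻¹ * (c)⁻¹) * ((a⁻¹) * (a * c * a * c) * (a⁻¹)⁻¹) * ((a⁻¹ * c⁻¹) * (a * d * a * d) * (a⁻¹ * c⁻¹)⁻¹) * ((a⁻¹ * d) * (c * d * c * d)⁻¹ * (a⁻¹ * d)⁻¹) * ((d * b * c) * (b⁻¹ * d⁻¹ * a * d * b * c)⁻¹ * (d * b * c)⁻¹) * ((d) * (b * c * b * c) * (d)⁻¹) * ((d * c⁻¹) * (b * b * b)⁻¹ * (d * c⁻¹)⁻¹) * ((d * c⁻¹) * (b * c * b * c) * (d * c⁻¹)⁻¹) * ((d) * (c * c * c)⁻¹ * (d)⁻¹) * ((c⁻¹) * (c * d * c * d) * (c⁻¹)⁻¹) * ((c⁻¹) * (b * d * b * d)⁻¹ * (c⁻¹)⁻¹) * ((c⁻¹) * (b * b * b) * (c⁻¹)⁻¹) * ((b * c * b * c)⁻¹) * ((d⁻¹ * a⁻¹ * d * b) * (b⁻¹ * d⁻¹ * a * d * b * c) * (d⁻¹ * a⁻¹ * d * b)⁻¹) * ((d⁻¹ * a⁻¹) * (d * d * d) * (d⁻¹ * a⁻¹)⁻¹) * ((a * d * a * d)⁻¹) * (1) := by group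
    _ = _ := by simp only [e, ha, hab, hac, had, hb, hbc, hbd, hc, hcd, hd]; group

end carm

section rg
variable {R : Type*} [Ring R] {W A B D E : R}

theorem ring_cl (w : W * W = -1) (f1 : W * A = D) (f2 : W * B = D) : A = B := by
  linear_combination (norm := noncomm_ring) w * A - w * B - W * f1 + W * f2

theorem ring_cr (w : W * W = -1) (f1 : A * W = D) (f2 : B * W = D) : A = B := by
  linear_combination (norm := noncomm_ring) A * w - B * w - f1 * W + f2 * W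

theorem ring_mix (w : W * W = -1) (f1 : W * A = -D) (f2 : B * W = E) : B * A = E * D := by
  linear_combination (norm := noncomm_ring) B * w * A - B * W * f1 + f2 * D

end rg

/-- The central elements of order at most two. -/
def Z2 (G : Type*) [Group G] : Subgroup G where
  carrier := {g | g ∈ center G ∧ g * g = 1}
  one_mem' := ⟨one_mem _, mul_one _⟩
  mul_mem' := fun {a b} ha hb => ⟨mul_mem ha.1 hb.1, by
    calc a * b * (a * b) = a * (b * a) * b := by group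
      _ = (a * a) * (b * b) := by rw [mem_center_iff.1 ha.1 b]; group
      _ = 1 := by rw [ha.2, hb.2, one_mul]⟩
  inv_mem' := fun {a} ha => ⟨inv_mem ha.1, by rw [← mul_inv_rev, ha.2, inv_one]⟩

variable {G : Type*} [Group G]

theorem Z2_le : Z2 G ≤ center G := fun _ h => h.1

instance : (Z2 G).Normal := ⟨fun n hn g => by
  rw [mem_center_iff.1 hn.1 g, mul_inv_cancel_right]; exact hn⟩

/-- The quotient map modulo `Z2`. -/
abbrev pz (G : Type*) [Group G] : G →* G ⧸ Z2 G := QuotientGroup.mk' (Z2 G)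

theorem pz_eq_one {g : G} : pz G g = 1 ↔ g ∈ Z2 G := QuotientGroup.eq_one_iff g

theorem eq_of_pz {x y : G} (hx : Odd (orderOf x)) (hy : Odd (orderOf y)) (e : pz G x = pz G y) :
    x = y := by
  have m : x⁻¹ * y ∈ Z2 G := QuotientGroup.eq.1 e
  refine sqrt_unique hx hy ?_
  set n := x⁻¹ * y with hn
  have : y = x * n := by rw [hn]; group
  rw [this]
  calc x * x = x * x * (n * n) := by rw [m.2, mul_one]
    _ = x * (x * n) * n := by group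
    _ = x * (n * x) * n := by rw [mem_center_iff.1 m.1 x]
    _ = _ := by group

theorem comm_of_pz {x y : G} (hx : Odd (orderOf x)) (e : pz G y * pz G x = pz G x * pz G y) :
    y * x = x * y := by
  have := eq_of_pz (x := y * x * y⁻¹) (by rwa [ord_conj]) hx (by
    rw [map_mul, map_mul, e, map_inv, mul_inv_cancel_right])
  rw [← mul_inv_eq_iff_eq_mul, this]

theorem pz_cube {a : G} (ha : orderOf a = 3) : pz G a * pz G a * pz G a = 1 := by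
  rw [← map_mul, ← map_mul, ← pow_three', ← ha, pow_orderOf_eq_one, map_one]

theorem ord_comm (a b : G) : orderOf (a * b) = orderOf (b * a) := by
  rw [← ord_conj a (b * a)]; congr 1; group

theorem ord_conj2 (g a b : G) : orderOf (g * a * g⁻¹ * (g * b * g⁻¹)) = orderOf (a * b) := by
  rw [← ord_conj g (a * b)]; congr 1; group

/-- Abstract properties of Frobenius complements. -/
structure FC (G : Type*) [Group G] : Prop where
  rep : ∃ (n : ℕ) (ρ : G →* Module.End ℂ (Fin n → ℂ)), FR ρ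
  cyc : ∀ p : ℕ, p.Prime → p ≠ 2 → ∀ P : Subgroup G, IsPGroup p P → IsCyclic P
  ab : ∀ A : Subgroup G, IsMulCommutative A → IsCyclic A

theorem FC.of_injective {H : Type*} [Group H] (h : FC G) (f : H →* G) (hf : Function.Injective f) :
    FC H := by
  obtain ⟨n, ρ, hρ⟩ := h.rep
  have c : ∀ A : Subgroup H, IsCyclic (A.map f) → IsCyclic A := fun A _ =>
    isCyclic_of_surjective _ (A.equivMapOfInjective f hf).symm.surjective
  exact ⟨⟨n, ρ.comp f, hρ.fin, hρ.nt, fun g hg => hρ.unit _ fun e => hg (hf (e.trans (map_one f).symm))⟩,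
    fun p hp h2 P hP => c P (h.cyc p hp h2 _ (hP.map f)),
    fun A hA => c A (h.ab _ inferInstance)⟩

theorem FC.sub (h : FC G) (H : Subgroup G) : FC H := h.of_injective H.subtype H.subtype_injective

theorem fc_of_reg {L : Type*} [Group L] [Finite L] {R K : Subgroup L} (hr : H1B.Reg R K)
    (hn : R ≤ nrm K) (hK : K ≠ ⊥) : FC R := by
  have c : ∀ A : Subgroup R, IsCyclic (A.map R.subtype) → IsCyclic A := fun A _ =>
    isCyclic_of_surjective _ (A.equivMapOfInjective _ R.subtype_injective).symm.surjective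
  refine ⟨?_, fun p hp h2 P hP => c P (haveI := Fact.mk hp; hr.cyc hn hK h2 (hP.map _)
    (map_subtype_le _)), fun A hA => c A (hr.cyc_of_comm hn hK (map_subtype_le _) inferInstance)⟩
  by_cases hR : R = ⊥
  · refine ⟨1, 1, inferInstance, inferInstance, fun g hg => absurd (Subtype.ext (mem_bot.1 (hR.le g.2))) hg⟩
  haveI := hr.nilp hn hR
  obtain ⟨V, hVK, hV, hnV, -, p, hp, hE⟩ := exists_min_normal_ea (H := R) (N := K) inferInstance hK hn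
  haveI := Fact.mk hp
  have hr' := hr.mono le_rfl hVK
  have pV : p ∣ ord V := dvd_card_of_isPGroup hE.isPGroup hV
  obtain ⟨χ, ⟨n, ρ, rfl⟩, hχ⟩ := exists_lift hE R.subtype (fun x => hnV x.2) fun hd =>
    hp.one_lt.ne' (Nat.eq_one_of_dvd_coprimes (hr'.coprime hnV) hd pV)
  have n0 : n ≠ 0 := by
    obtain ⟨d, e1, e2⟩ := hχ ⊥
    rw [dimF_bot, Representation.char_one, Module.finrank_fin_fun, Nat.cast_inj] at e1
    rw [Subgroup.map_bot, cen_bot, inf_top_eq, ← e1] at e2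
    rintro rfl
    exact hV (card_eq_one.1 e2)
  haveI : NeZero n := ⟨n0⟩
  refine ⟨n, ρ, inferInstance, inferInstance, fun g hg => ?_⟩
  rw [LinearMap.isUnit_iff_ker_eq_bot, eq_bot_iff]
  intro v hv
  obtain ⟨d, e1, e2⟩ := hχ (zpowers g)
  rw [MonoidHom.map_zpowers, cen_zpowers, coe_subtype, hr' _ g.2 (fun e => hg (Subtype.ext e)), card_bot] at e2
  obtain rfl : d = 0 := (Nat.pow_eq_one.1 e2.symm).resolve_left hp.one_lt.ne'
  classical
  letI := Fintype.ofFinite (zpowers g)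
  have e3 := card_mul_dimF ρ.character (zpowers g)
  haveI : Invertible (Nat.card (zpowers g) : ℂ) := invertibleOfNonzero (H3.card_ne_zero _)
  have e4 := Representation.card_inv_mul_sum_char_eq_finrank (ρ.comp (zpowers g).subtype)
  rw [e1, Nat.cast_zero, mul_zero] at e3
  have e5 : ∑ u : zpowers g, Representation.character (ρ.comp (zpowers g).subtype) u = 0 := e3.symm
  rw [e5, mul_zero, eq_comm, Nat.cast_eq_zero, Submodule.finrank_eq_zero] at e4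
  rw [← e4, Representation.mem_invariants]
  have hv' : ρ g v = v := by simpa [sub_eq_zero] using hv
  rintro ⟨_, k, rfl⟩
  change ρ (g ^ k) v = v
  induction k using Int.induction_on with
  | zero => simp
  | succ k ih => rw [zpow_add_one, map_mul, Module.End.mul_apply, hv', ih]
  | pred k ih =>
    rw [zpow_sub_one, map_mul, Module.End.mul_apply]
    conv_lhs => rw [← hv', ← Module.End.mul_apply (ρ g⁻¹), ← map_mul, inv_mul_cancel, map_one]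
    exact ih

theorem fc_of_frob (h : ∃ (L : Type) (_ : Group L) (_ : Finite L) (H : Subgroup L),
    IsFrobeniusComplement H ∧ Nonempty (G ≃* H)) : FC G := by
  obtain ⟨L, _, _, H, hH, ⟨e⟩⟩ := h
  obtain ⟨N, hN, hn, hc⟩ := H1.FrobC.exists_kernel hH
  refine (fc_of_reg (K := N) (fun x hx x1 => eq_bot_iff.2 fun k hk => mem_bot.2
    ((fpf_of_frob hH hx (hN ▸ hk.1) (mem_cen1.1 hk.2).symm).resolve_left x1))
    (le_nrm_of_normal _ _) fun e => hH.2.1 ?_).of_injective e.toMonoidHom e.injective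
  rw [← hc.sup_eq_top, e, bot_sup_eq]

theorem fc_of_mulAut [Finite G] {K : Type*} [Group K] [Finite K] [Nontrivial K]
    (φ : G →* MulAut K) (hf : ∀ g k, φ g k = k → g = 1 ∨ k = 1) : FC G := by
  haveI : Finite (K ⋊[φ] G) := Finite.of_equiv _ SemidirectProduct.equivProd.symm
  refine (fc_of_reg (R := (SemidirectProduct.inr : G →* K ⋊[φ] G).range)
    (K := (SemidirectProduct.inl : K →* K ⋊[φ] G).range) ?_ ?_ ?_).of_injective
    (MonoidHom.rangeRestrict _) (MonoidHom.rangeRestrict_injective_iff.2 SemidirectProduct.inr_injective)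
  · rintro _ ⟨g, rfl⟩ g1
    refine eq_bot_iff.2 ?_
    rintro _ ⟨⟨k, rfl⟩, hk⟩
    have := congrArg SemidirectProduct.left (mem_cen1.1 hk)
    simp only [SemidirectProduct.mul_left, SemidirectProduct.left_inl, SemidirectProduct.right_inl,
      map_one, SemidirectProduct.left_inr, mul_one, SemidirectProduct.right_inr, one_mul] at this
    rcases hf g k this.symm with rfl | rfl
    · exact absurd (map_one _) g1
    · exact mem_bot.2 (map_one _)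
  · rw [SemidirectProduct.range_inl_eq_ker_rightHom]; exact le_nrm_of_normal _ _
  · obtain ⟨k, hk⟩ := exists_ne (1 : K)
    exact fun e => hk (SemidirectProduct.inl_injective
      ((mem_bot.1 (e.le ⟨k, rfl⟩)).trans (map_one _).symm))

/-- A triple of Carmichael generators. -/
structure T3 (a b c : G) : Prop where
  ha : orderOf a = 3
  hb : orderOf b = 3
  hc : orderOf c = 3
  ab : orderOf (a * b) = 4
  ac : orderOf (a * c) = 4
  bc : orderOf (b * c) = 4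

namespace FC
variable (h : FC G)
include h

theorem ui {s t : G} (hs : s * s = 1) (s1 : s ≠ 1) (ht : t * t = 1) (t1 : t ≠ 1) : s = t := by
  obtain ⟨n, ρ, hρ⟩ := h.rep
  exact hρ.inj ((hρ.inv2 hs s1).trans (hρ.inv2 ht t1).symm)

theorem mem_Z2 {t : G} (ht : t * t = 1) : t ∈ Z2 G := by
  refine ⟨mem_center_iff.2 fun g => ?_, ht⟩
  by_cases t1 : t = 1
  · simp [t1]
  rw [← mul_inv_eq_iff_eq_mul]
  exact h.ui (by rw [show g * t * g⁻¹ * (g * t * g⁻¹) = g * (t * t) * g⁻¹ by group, ht]; group)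
    (by simpa using t1) ht t1

theorem pz_four {a b : G} (e : orderOf (a * b) = 4) : pz G a * pz G b * pz G a * pz G b = 1 := by
  rw [← map_mul, ← map_mul, ← map_mul, pz_eq_one]
  refine h.mem_Z2 ?_
  rw [show a * b * a * b * (a * b * a * b) = (a * b) ^ 4 by simp [pow_succ, mul_assoc], ← e,
    pow_orderOf_eq_one]

theorem ord_four {x : G} (h1 : pz G x ≠ 1) (h2 : pz G x * pz G x = 1) : orderOf x = 4 := by
  rw [← map_mul, pz_eq_one] at h2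
  refine orderOf_eq_prime_pow (p := 2) (n := 1) (fun e => h1 (pz_eq_one.2 (h.mem_Z2 ?_))) ?_
  · simpa [sq] using e
  · rw [← h2.2]; simp [pow_succ, mul_assoc]

theorem eq_or_inv {a b : G} (ha : orderOf a = 3) (hb : orderOf b = 3) (e : a * b = b * a) :
    b = a ∨ b = a⁻¹ := by
  obtain ⟨n, ρ, hρ⟩ := h.rep
  exact hρ.eq_or_inv ha hb e

theorem no_quad {a b c d : G} (t : T3 a b c) (hd : orderOf d = 3) (ad : orderOf (a * d) = 4)
    (bd : orderOf (b * d) = 4) (cd : orderOf (c * d) = 4) : False := by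
  have o : orderOf (b⁻¹ * d⁻¹ * a * d * b) = 3 := by
    rw [← t.ha, ← ord_conj (b⁻¹ * d⁻¹) a]; congr 1; group
  have cm := comm_of_pz (x := c) (y := b⁻¹ * d⁻¹ * a * d * b) (by rw [t.hc]; decide) (by
    simp only [map_mul, map_inv, ← mul_assoc]
    exact carm2 (pz_cube t.hb) (h.pz_four t.ab) (h.pz_four t.ac) (h.pz_four t.bc) (pz_cube hd)
      (h.pz_four ad) (h.pz_four bd) (h.pz_four cd))
  have a1 : pz G a ≠ 1 := fun e => by
    have := orderOf_dvd_of_pow_eq_one (x := a) (n := 2) (by rw [sq]; exact (pz_eq_one.1 e).2)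
    rw [t.ha] at this; omega
  rcases h.eq_or_inv t.hc o cm.symm with e | e
  · refine a1 (carm3 (pz_cube t.hb) (pz_cube t.hc) (h.pz_four t.ab) (h.pz_four t.bc) (pz_cube hd)
      (h.pz_four ad) (h.pz_four bd) (h.pz_four cd) ?_)
    simp only [← map_mul, ← map_inv]; rw [e]; simp
  · refine a1 (carm4 (pz_cube t.ha) (pz_cube t.hb) (pz_cube t.hc) (h.pz_four t.ab) (h.pz_four t.ac)
      (h.pz_four t.bc) (pz_cube hd) (h.pz_four ad) (h.pz_four bd) (h.pz_four cd) ?_)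
    simp only [← map_mul, ← map_inv]; rw [e]; simp

variable [Finite G]

theorem pair {a b : G} (ha : orderOf a = 3) (hb : orderOf b = 3) :
    b = a⁻¹ ∨ b = a ∨ orderOf (a * b) = 4 ∨ orderOf (a * b⁻¹) = 4 ∨
      (orderOf (a * b) = 10 ∧ orderOf (a * b⁻¹) = 10) := by
  obtain ⟨n, ρ, hρ⟩ := h.rep
  exact hρ.pair ha hb

theorem pos {a b c : G} (ha : orderOf a = 3) (hb : orderOf b = 3) (hc : orderOf c = 3)
    (ab : orderOf (a * b) = 4) (ac : orderOf (a * c) = 4) :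
    ∃ g, (g = 1 ∨ g = a ∨ g = a⁻¹) ∧ (g * c * g⁻¹ = b ∨ orderOf (b * (g * c * g⁻¹)) = 4) := by
  obtain ⟨n, ρ, hρ⟩ := h.rep
  by_contra! hn
  have e1 := (hρ.SS_zero ha hb).2 ab
  have key : ∀ g, (g = 1 ∨ g = a ∨ g = a⁻¹) → SS ρ b (g * c * g⁻¹) = 1 ∨
      SS ρ b (g * c * g⁻¹) * SS ρ b (g * c * g⁻¹) = SS ρ b (g * c * g⁻¹) + 1 := fun g hg => by
    have o := (ord_conj g c).trans hc
    rcases hρ.SS_cases hb o with ⟨e, -⟩ | ⟨e, -⟩ | e | e | ⟨-, -, e⟩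
    · have o2 : orderOf (a * b⁻¹) = 4 := by
        rw [← e, ← ac, ← ord_conj2 g a c]
        rcases hg with rfl | rfl | rfl <;> simp
      have e2 := (hρ.SS_zero ha ((orderOf_inv b).trans hb)).2 o2
      rw [hρ.SS_inv hb, e1, sub_zero] at e2
      haveI := hρ.nt
      exact absurd e2 one_ne_zero
    · exact absurd e (hn g hg).1
    · exact absurd ((hρ.SS_zero hb o).1 e) (hn g hg).2
    · exact .inl e
    · exact .inr e
  have := hρ.sum_SS ha e1 ((hρ.SS_zero ha hc).2 ac)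
  exact hρ.not_three (by simpa using key 1 (.inl rfl)) (key a (.inr (.inl rfl)))
    (by simpa using key a⁻¹ (.inr (.inr rfl))) this

theorem inter {a b c d : G} (t : T3 a b c) (hd : orderOf d = 3) (ad : orderOf (a * d) = 4)
    (bd : orderOf (b * d) = 4) {S : Subgroup G} (ha : a ∈ S) (hb : b ∈ S) (hc : c ∈ S) : d ∈ S := by
  obtain ⟨n, ρ, hρ⟩ := h.rep
  have back : ∀ g ∈ S, g * d * g⁻¹ = c → d ∈ S := fun g hg e => by
    have := mul_mem (mul_mem (inv_mem hg) hc) hg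
    rw [← e] at this; simpa [mul_assoc] using this
  obtain ⟨g, hg, e1⟩ := h.pos t.ha t.hc hd t.ac ad
  obtain ⟨k, hk, e2⟩ := h.pos t.hb t.hc hd t.bc bd
  rcases e1 with e1 | e1
  · exact back g (by rcases hg with rfl | rfl | rfl; exacts [one_mem _, ha, inv_mem ha]) e1
  rcases e2 with e2 | e2
  · exact back k (by rcases hk with rfl | rfl | rfl; exacts [one_mem _, hb, inv_mem hb]) e2
  exfalso
  have nq : orderOf (c * d) ≠ 4 := h.no_quad t hd ad bd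
  replace e1 := (hρ.SS_zero t.hc ((ord_conj _ _).trans hd)).2 e1
  replace e2 := (hρ.SS_zero t.hc ((ord_conj _ _).trans hd)).2 e2
  have ac := (hρ.SS_zero t.ha t.hc).2 t.ac
  have bc := (hρ.SS_zero t.hb t.hc).2 t.bc
  have ad' := (hρ.SS_zero t.ha hd).2 ad
  have bd' := (hρ.SS_zero t.hb hd).2 bd
  have ne : a ≠ b := fun e => by
    have := t.ab
    rw [← e, ← sq, orderOf_pow' _ two_ne_zero, t.ha] at this
    norm_num at this
  have d3 : d * d = d⁻¹ := by rw [eq_inv_iff_mul_eq_one, ← pow_three', ← hd, pow_orderOf_eq_one]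
  have c3 : c⁻¹ * c⁻¹ = c := by
    rw [← mul_inv_rev, inv_eq_iff_mul_eq_one, ← pow_three', ← t.hc, pow_orderOf_eq_one]
  have mix : ∀ {a b : G}, orderOf (a * b) = 4 → orderOf (c * d⁻¹) = 10 →
      (ρ c * ρ d - ρ d * ρ c) * (ρ c * ρ d - ρ d * ρ c) = -1 →
      (ρ c * ρ d - ρ d * ρ c) * ρ a = -ρ (d * c⁻¹) →
      ρ b * (ρ c * ρ d - ρ d * ρ c) = ρ (c⁻¹ * d) → False := by
    intro a b ab o w e1 e2
    have : b * a = c⁻¹ * d * (d * c⁻¹) := hρ.inj (by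
      rw [map_mul, map_mul ρ (c⁻¹ * d)]
      exact ring_mix w e1 e2)
    rw [ord_comm, this, show c⁻¹ * d * (d * c⁻¹) = c⁻¹ * ((d * d) * c⁻¹) by group, ord_comm, d3,
      mul_assoc, c3, ord_comm, o] at ab
    omega
  rcases hg with rfl | rfl | rfl
  · exact nq ((hρ.SS_zero t.hc hd).1 (by simpa using e1))
  · obtain ⟨-, o, w⟩ := hρ.gold1 t.ha t.hc hd ac ad' e1
    have f1 := hρ.wA t.ha t.hc ac ad' e1
    rcases hk with rfl | rfl | rfl
    · exact nq ((hρ.SS_zero t.hc hd).1 (by simpa using e2))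
    · have f2 := hρ.wA t.hb t.hc bc bd' e2
      exact ne (hρ.inj (ring_cl w f1 f2))
    · rw [inv_inv] at e2
      exact mix t.ab o w f1 (hρ.Aw t.hb t.hc bc bd' e2)
  · rw [inv_inv] at e1
    obtain ⟨-, o, w⟩ := hρ.gold2 t.ha t.hc hd ac ad' e1
    have f1 := hρ.Aw t.ha t.hc ac ad' e1
    rcases hk with rfl | rfl | rfl
    · exact nq ((hρ.SS_zero t.hc hd).1 (by simpa using e2))
    · exact mix ((ord_comm _ _).trans t.ab) o w (hρ.wA t.hb t.hc bc bd' e2) f1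
    · rw [inv_inv] at e2
      have f2 := hρ.Aw t.hb t.hc bc bd' e2
      exact ne (hρ.inj (ring_cr w f1 f2))

theorem mem_X {a b c d : G} (t : T3 a b c) (hd : orderOf d = 3) (ad : orderOf (a * d) = 4)
    {S : Subgroup G} (ha : a ∈ S) (hb : b ∈ S) (hc : c ∈ S) : d ∈ S := by
  obtain ⟨g, hg, e⟩ := h.pos t.ha t.hb hd t.ab ad
  have gS : g ∈ S := by rcases hg with rfl | rfl | rfl; exacts [one_mem _, ha, inv_mem ha]
  have : g * d * g⁻¹ ∈ S := by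
    rcases e with e | e
    · rwa [e]
    · refine h.inter t ((ord_conj _ _).trans hd) ?_ e ha hb hc
      rw [← ad, ← ord_conj2 g a d]
      rcases hg with rfl | rfl | rfl <;> simp
  simpa [mul_assoc] using mul_mem (mul_mem (inv_mem gS) this) gS

theorem t3_of_gold {a d : G} (ha : orderOf a = 3) (hd : orderOf d = 3)
    (o1 : orderOf (a * d) = 10) (o2 : orderOf (a * d⁻¹) = 10) :
    T3 a (d * a * d⁻¹) (d⁻¹ * a * d) := by
  obtain ⟨n, ρ, hρ⟩ := h.rep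
  have hb := (ord_conj d a).trans ha
  have hc := (ord_conj d⁻¹ a).trans ha
  have e1 := (hρ.SS_zero ha hb).1 (hρ.SS_conj_of_gold ha hd o1)
  have e2 := (hρ.SS_zero ha hc).1 (hρ.SS_conj_of_gold ha ((orderOf_inv d).trans hd) o2)
  rw [inv_inv] at hc e2
  refine ⟨ha, hb, hc, e1, e2, ?_⟩
  have d3 : d * d = d⁻¹ := by rw [eq_inv_iff_mul_eq_one, ← pow_three', ← hd, pow_orderOf_eq_one]
  rw [← e1, ← ord_conj2 d a]
  congr 2
  rw [show d * (d * a * d⁻¹) * d⁻¹ = (d * d) * a * (d * d)⁻¹ by group, d3, inv_inv]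

theorem mem_all {a b c d : G} (t : T3 a b c) (hd : orderOf d = 3)
    {S : Subgroup G} (ha : a ∈ S) (hb : b ∈ S) (hc : c ∈ S) : d ∈ S := by
  rcases h.pair t.ha hd with rfl | rfl | e | e | ⟨o1, o2⟩
  · exact inv_mem ha
  · exact ha
  · exact h.mem_X t hd e ha hb hc
  · exact inv_mem_iff.1 (h.mem_X t ((orderOf_inv d).trans hd) e ha hb hc)
  have t' := h.t3_of_gold t.ha hd o1 o2
  have m1 := h.mem_X t t'.hb t'.ab ha hb hc
  have m2 := h.mem_X t t'.hc t'.ac ha hb hc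
  have d3 : d * d = d⁻¹ := by rw [eq_inv_iff_mul_eq_one, ← pow_three', ← hd, pow_orderOf_eq_one]
  have c1 : d * (d * a * d⁻¹) * d⁻¹ = d⁻¹ * a * d := by
    rw [show d * (d * a * d⁻¹) * d⁻¹ = (d * d) * a * (d * d)⁻¹ by group, d3, inv_inv]
  have c2 : d * (d⁻¹ * a * d) * d⁻¹ = a := by group
  have c0 : d * a * d⁻¹ = d * a * d⁻¹ := rfl
  generalize d⁻¹ * a * d = c' at t' m2 c1 c2
  generalize hb' : d * a * d⁻¹ = b' at t' m1 c1
  have o : orderOf (a⁻¹ * c'⁻¹ * b'⁻¹ * c' * a) = 3 := by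
    rw [← t'.hb, ← orderOf_inv b', ← ord_conj (a⁻¹ * c'⁻¹) b'⁻¹]; congr 1; group
  have e := eq_of_pz (x := a⁻¹ * c'⁻¹ * b'⁻¹ * c' * a)
    (y := d * (a⁻¹ * c'⁻¹ * b'⁻¹ * c' * a) * d⁻¹) (by rw [o]; decide) (by rw [ord_conj, o]; decide)
    (by
      rw [show d * (a⁻¹ * c'⁻¹ * b'⁻¹ * c' * a) * d⁻¹ = (d * a * d⁻¹)⁻¹ * (d * c' * d⁻¹)⁻¹ *
        (d * b' * d⁻¹)⁻¹ * (d * c' * d⁻¹) * (d * a * d⁻¹) by group, hb', c1, c2]
      simp only [map_mul, map_inv]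
      exact carm1 (pz_cube t'.ha) (pz_cube t'.hb) (pz_cube t'.hc) (h.pz_four t'.ab)
        (h.pz_four t'.ac) (h.pz_four t'.bc))
  have m : a⁻¹ * c'⁻¹ * b'⁻¹ * c' * a ∈ S :=
    mul_mem (mul_mem (mul_mem (mul_mem (inv_mem ha) (inv_mem m2)) (inv_mem m1)) m2) ha
  rcases h.eq_or_inv o hd (by conv_lhs => rw [e]; simp only [inv_mul_cancel_right]) with e | e
  · rwa [e]
  · rw [e]; exact inv_mem m

theorem gold_of_t3 {a b c : G} (t : T3 a b c) : ∃ c d : G, orderOf c = 3 ∧ orderOf d = 3 ∧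
    orderOf (c * d) = 10 ∧ orderOf (c * d⁻¹) = 10 := by
  obtain ⟨n, ρ, hρ⟩ := h.rep
  have hd : orderOf (a⁻¹ * c * a) = 3 := by simpa using (ord_conj a⁻¹ c).trans t.hc
  obtain ⟨o1, o2, -⟩ := hρ.gold1 t.ha t.hb hd ((hρ.SS_zero t.ha t.hb).2 t.ab)
    ((hρ.SS_zero t.ha hd).2 (by rw [← t.ac, ← ord_conj2 a⁻¹ a c]; simp))
    (by rw [show a * (a⁻¹ * c * a) * a⁻¹ = c by group]; exact (hρ.SS_zero t.hb t.hc).2 t.bc)
  exact ⟨_, _, t.hb, hd, o1, o2⟩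

end FC

end H8
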