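import Cfsg.Agent.H8.FC2
import Cfsg.Agent.H8.AutA
import Cfsg.Agent.H8.UI2
import Cfsg.Agent.H4.Tri
import Cfsg.Agent.H4.Cover
import Cfsg.Agent.H4.SLBasic
import Cfsg.Agent.H7.NilMax

set_option autoImplicit false

namespace H8
open Subgroup Cfsg H7 H1B
open scoped MatrixGroups commutatorElement

variable {G : Type*} [Group G]

theorem card_le_120 {a b w : G} (h1 : a * a = w) (h2 : w * w = 1) (h3 : b ^ 3 = 1)
    (h4 : (a * b) ^ 5 = w) (h5 : w * b = b * w) :
    Finite (closure ({a, b} : Set G)) ∧ Nat.card (closure ({a, b} : Set G)) ≤ 120 := by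
  set D := closure ({a, b} : Set G) with hD
  have ma : a ∈ D := subset_closure (by simp)
  have mb : b ∈ D := subset_closure (by simp)
  have mw : w ∈ D := h1 ▸ mul_mem ma ma
  have cw : (⟨w, mw⟩ : D) ∈ Z2 D := by
    refine ⟨mem_center_iff.2 fun g => Subtype.ext (mem_cen1.1 ?_), Subtype.ext h2⟩
    refine (closure_le (cen1 w)).2 ?_ g.2
    rintro _ (rfl | rfl)
    · exact mem_cen1.2 (by rw [← h1, mul_assoc])
    · exact mem_cen1.2 h5.symm
  let W := zpowers (⟨w, mw⟩ : D)
  haveI : W.Normal := ⟨fun n hn g => by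
    rw [mem_center_iff.1 (zpowers_le.2 cw.1 hn) g, mul_inv_cancel_right]; exact hn⟩
  have hW : orderOf (⟨w, mw⟩ : D) ∣ 2 := orderOf_dvd_of_pow_eq_one (by rw [sq]; exact cw.2)
  let π := QuotientGroup.mk' W
  have pw : π ⟨w, mw⟩ = 1 := (QuotientGroup.eq_one_iff _).2 (mem_zpowers _)
  obtain ⟨f1, f2⟩ := H4.tri5_card (a := π ⟨a, ma⟩) (b := π ⟨b, mb⟩)
    (by rw [← map_mul, ← pw]; congr 1; exact Subtype.ext h1)
    (by rw [← map_pow, ← map_one π]; congr 1; exact Subtype.ext h3)
    (by rw [← map_mul, ← map_pow, ← pw]; congr 1; exact Subtype.ext h4)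
  have top : closure ({π ⟨a, ma⟩, π ⟨b, mb⟩} : Set (D ⧸ W)) = ⊤ := by
    rw [← Set.image_pair, ← MonoidHom.map_closure, eq_top_iff,
      ← map_top_of_surjective π (QuotientGroup.mk'_surjective W)]
    refine map_mono ?_
    rw [← map_le_map_iff_of_injective D.subtype_injective, MonoidHom.map_closure, Set.image_pair]
    exact (map_subtype_le _).trans le_rfl
  rw [top] at f1 f2
  haveI : Finite (D ⧸ W) := Finite.of_equiv _ topEquiv.toEquiv
  rw [card_top] at f2
  have e := card_eq_card_quotient_mul_card_subgroup W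
  rw [Nat.card_zpowers] at e
  have p1 : 0 < orderOf (⟨w, mw⟩ : D) := Nat.pos_of_dvd_of_pos hW two_pos
  have p2 := Nat.le_of_dvd two_pos hW
  have p3 : 0 < Nat.card (D ⧸ W) := Nat.card_pos
  exact ⟨Nat.finite_of_card_ne_zero (by rw [e]; positivity), by rw [e]; nlinarith⟩

/-- A generator of order four of `SL(2,5)`. -/
def slA : SL(2, ZMod 5) := ⟨!![0, 4; 1, 0], by rw [Matrix.det_fin_two_of]; decide⟩
/-- A generator of order three of `SL(2,5)`. -/
def slB : SL(2, ZMod 5) := ⟨!![0, 4; 1, 4], by rw [Matrix.det_fin_two_of]; decide⟩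

instance fact5 : Fact (Nat.Prime 5) := ⟨by norm_num⟩

theorem card_sl25 : Nat.card SL(2, ZMod 5) = 120 := by rw [H4.card_sl2]; simp

theorem perfect_sl25 : _root_.commutator SL(2, ZMod 5) = ⊤ :=
  Matrix.SL2.commutator_eq_top (a := 2) (by decide) (by decide)

theorem sl_rel : slA * slA * (slA * slA) = 1 ∧ slB ^ 3 = 1 ∧ (slA * slB) ^ 5 = slA * slA ∧
    slA * slA * slB = slB * (slA * slA) ∧ slA * slA ≠ 1 ∧ slB ≠ 1 ∧ (slA * slB) ^ 2 ≠ 1 := by
  decide

theorem index_ne_two_of_perfect (hp : _root_.commutator G = ⊤) (S : Subgroup G) : S.index ≠ 2 := by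
  intro h
  haveI := S.normal_of_index_eq_two h
  haveI := isCyclic_of_prime_card (α := G ⧸ S) (p := 2) h
  have : _root_.commutator G ≤ S := Subgroup.Normal.quotient_commutative_iff_commutator_le.1
    IsCyclic.isMulCommutative
  rw [hp, top_le_iff] at this
  simp [this] at h

theorem sl_gen (S : Subgroup SL(2, ZMod 5)) (ha : slA ∈ S) (hb : slB ∈ S) : S = ⊤ := by
  obtain ⟨r1, r2, r3, -, r5, r6, r7⟩ := sl_rel
  have d : ∀ x ∈ S, orderOf x ∣ Nat.card S := fun x hx => Subgroup.orderOf_dvd_natCard S hx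
  have o4 : orderOf slA = 4 := orderOf_eq_prime_pow (p := 2) (n := 1) (by simpa [sq] using r5)
    (by rw [← r1]; simp [pow_succ, mul_assoc])
  have o3 : orderOf slB = 3 := orderOf_eq_prime r2 r6
  have o5 : orderOf ((slA * slB) ^ 2) = 5 :=
    orderOf_eq_prime (by rw [← pow_mul, mul_comm 2 5, pow_mul, r3, sq, r1]) r7
  have d4 := o4 ▸ d _ ha
  have d3 := o3 ▸ d _ hb
  have d5 := o5 ▸ d _ (pow_mem (mul_mem ha hb) 2)
  have e := S.card_mul_index
  rw [card_sl25] at e
  have := index_ne_two_of_perfect perfect_sl25 S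
  obtain ⟨k, hk⟩ : 60 ∣ Nat.card S :=
    (Nat.Coprime.mul_dvd_of_dvd_of_dvd (by norm_num : Nat.Coprime 12 5)
      (Nat.Coprime.mul_dvd_of_dvd_of_dvd (by norm_num : Nat.Coprime 4 3) d4 d3) d5)
  rw [hk] at e
  have e2 : k * S.index = 2 := by linarith [mul_assoc 60 k S.index]
  rw [← index_eq_one]
  rcases (Nat.dvd_prime Nat.prime_two).1 (Dvd.intro_left _ e2) with h | h
  · exact h
  · exact absurd h this

theorem exists_hom_sl25 {a b : G} (h2 : a * a * (a * a) = 1) (h3 : b ^ 3 = 1)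
    (h4 : (a * b) ^ 5 = a * a) (h5 : a * a * b = b * (a * a)) :
    ∃ φ : SL(2, ZMod 5) →* G, φ slA = a ∧ φ slB = b := by
  obtain ⟨r1, r2, r3, r4, -⟩ := sl_rel
  refine H4.exists_hom_of_pair sl_gen ?_
  rw [card_sl25]
  exact card_le_120 rfl (Prod.ext r1 h2) (Prod.ext r2 h3) (Prod.ext r3 h4) (Prod.ext r4 h5)

/-- The subgroup generated by the elements of order three. -/
def N3 (G : Type*) [Group G] : Subgroup G := closure {a | orderOf a = 3}

theorem mem_N3 {a : G} (h : orderOf a = 3) : a ∈ N3 G := subset_closure h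

instance : (N3 G).Normal := normal_of (nrm_closure fun a _ x hx => (ord_conj a x).trans hx)

/-- There is a pair of elements of order three of icosahedral type. -/
def Gold (G : Type*) [Group G] : Prop :=
  ∃ c d : G, orderOf c = 3 ∧ orderOf d = 3 ∧ orderOf (c * d) = 10 ∧ orderOf (c * d⁻¹) = 10

theorem lift_three {y : G ⧸ Z2 G} (hy : orderOf y = 3) : ∃ x : G, orderOf x = 3 ∧ pz G x = y := by
  obtain ⟨x, rfl⟩ := QuotientGroup.mk'_surjective _ y
  have e : pz G x ^ 3 = 1 := by rw [← hy, pow_orderOf_eq_one]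
  have e4 : pz G (x ^ 4) = pz G x := by rw [map_pow, pow_succ, e, one_mul]
  refine ⟨x ^ 4, orderOf_eq_prime ?_ fun e1 => ?_, e4⟩
  · have := (pz_eq_one.1 ((map_pow _ x 3).trans e)).2
    rw [← pow_mul, show 4 * 3 = (3 + 3) * 2 by rfl, pow_mul, pow_add, this, one_pow]
  · rw [← e4, e1, map_one, orderOf_one] at hy
    omega

/-- Three-cycles through two fixed points. -/
def a5c (i : Fin 5) : alternatingGroup (Fin 5) :=
  ⟨Equiv.swap 0 i * Equiv.swap 0 1 * (Equiv.swap 0 i * Equiv.swap 0 1) *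
    (Equiv.swap 0 i * Equiv.swap 0 1) * (Equiv.swap 0 i * Equiv.swap 0 1),
    Equiv.Perm.mem_alternatingGroup.2 (by revert i; decide)⟩

theorem a5c_rel : (∀ i : Fin 5, 2 ≤ i → a5c i ^ 3 = 1 ∧ a5c i ≠ 1) ∧
    ∀ i j : Fin 5, 2 ≤ i → i < j → a5c i * a5c j * (a5c i * a5c j) = 1 ∧ a5c i * a5c j ≠ 1 := by
  decide +kernel

theorem eq_top_of_index_le_four [Finite G] (hp : _root_.commutator G = ⊤) {S : Subgroup G}
    (hS : S.index ≤ 4) : S = ⊤ := by
  haveI := H4.solvable_perm_of_card_le (α := G ⧸ S) hS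
  let f := MulAction.toPermHom G (G ⧸ S)
  have : f.range = ⊥ := by
    by_contra hne
    haveI := (nontrivial_iff_ne_bot _).2 hne
    refine (Group.IsSolvable.commutator_lt_top_of_nontrivial f.range).ne ?_
    have := map_commutator_eq G f.rangeRestrict
    rw [hp, MonoidHom.range_eq_top.2 f.rangeRestrict_surjective,
      map_top_of_surjective _ f.rangeRestrict_surjective] at this
    exact this.symm
  refine eq_top_iff.2 fun g _ => ?_
  have e : g • ((1 : G) : G ⧸ S) = (1 : G) := congrArg (fun σ : Equiv.Perm (G ⧸ S) => σ (1 : G))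
    (mem_bot.1 (this.le ⟨g, rfl⟩))
  simpa using smul_mk_eq_iff.1 e

namespace FC
variable [Finite G] (h : FC G)
include h

omit [Finite G] in
theorem ui' : H9.UI (⊤ : Subgroup G) := fun _ _ _ _ s1 t1 s2 t2 _ =>
  h.ui (by rwa [← sq]) s1 (by rwa [← sq]) t1

omit [Finite G] in
theorem isZ (h2 : ∀ P : Sylow 2 G, IsCyclic P) : IsZGroup G :=
  ⟨fun p hp P => by
    by_cases e : p = 2
    · subst e; exact h2 P
    · exact h.cyc p hp e _ P.isPGroup'⟩

omit [Finite G] in
theorem card_Z2 {z : G} (hz : z * z = 1) (z1 : z ≠ 1) : Nat.card (Z2 G) = 2 := by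
  have : Z2 G = zpowers z := le_antisymm (fun x hx => by
    by_cases x1 : x = 1
    · rw [x1]; exact one_mem _
    · rw [h.ui hx.2 x1 hz z1]; exact mem_zpowers _) (zpowers_le.2 (h.mem_Z2 hz))
  rw [this, Nat.card_zpowers, ord2.2 ⟨hz, z1⟩]

theorem exists_a5 (hg : Gold G) : ∃ φ : alternatingGroup (Fin 5) →* G ⧸ Z2 G,
    Function.Injective φ ∧ φ.range.comap (pz G) = N3 G ∧ Nat.card (Z2 G) = 2 ∧
      Nonempty (N3 G ≃* SL(2, ZMod 5)) := by
  obtain ⟨c, d, hc, hd, o1, o2⟩ := hg
  have t := h.t3_of_gold hc hd o1 o2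
  set a := c * (d * c * d⁻¹) with ha
  have aN : a ∈ N3 G := mul_mem (mem_N3 hc) (mem_N3 t.hb)
  have a4 : a * a * (a * a) = 1 := by
    rw [show a * a * (a * a) = a ^ 4 by simp [pow_succ, mul_assoc], ← t.ab, pow_orderOf_eq_one]
  have a2 : a * a ≠ 1 := by rw [← sq]; exact pow_ne_one_of_lt_orderOf (by norm_num) (by rw [t.ab]; norm_num)
  have d3 : d ^ 3 = 1 := by rw [← hd, pow_orderOf_eq_one]
  have o : orderOf (a * d) = 10 := by
    have c3 : c * c = c⁻¹ := by rw [eq_inv_iff_mul_eq_one, ← pow_three', ← hc, pow_orderOf_eq_one]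
    rw [ha, show c * (d * c * d⁻¹) * d = (c * d) * c by group, ord_comm, ← mul_assoc, c3,
      ← orderOf_inv, mul_inv_rev, inv_inv, ord_comm, o2]
  have a5 : (a * d) ^ 5 = a * a := h.ui (by rw [← pow_add, show 5 + 5 = orderOf (a * d) from o.symm,
    pow_orderOf_eq_one]) (pow_ne_one_of_lt_orderOf (by norm_num) (by rw [o]; norm_num)) a4 a2
  have aZ := h.mem_Z2 a4
  obtain ⟨φ, hφ, e1, e2⟩ := H4.exists_hom_a5 (a := pz G a) (b := pz G d)
    (by rw [← map_mul, pz_eq_one]; exact aZ) (by rw [← map_pow, d3, map_one])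
    (by rw [← map_mul, ← map_pow, a5, pz_eq_one]; exact aZ) (fun e => a2 (pz_eq_one.1 e).2)
  have cZ := h.card_Z2 a4 a2
  have ZN : Z2 G ≤ N3 G := fun x hx => by
    by_cases x1 : x = 1
    · rw [x1]; exact one_mem _
    · rw [h.ui hx.2 x1 a4 a2]; exact mul_mem aN aN
  have key : φ.range.comap (pz G) = N3 G := by
    refine le_antisymm ?_ ((closure_le _).2 fun x hx => ?_)
    · have := H4.a5_gen (((N3 G).map (pz G)).comap φ) (by
        rw [mem_comap, e1]; exact mem_map_of_mem _ aN) (by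
        rw [mem_comap, e2]; exact mem_map_of_mem _ (mem_N3 hd))
      rintro x ⟨y, hy⟩
      obtain ⟨n, hn, e⟩ := this.ge (mem_top y)
      have := mul_mem hn (ZN (QuotientGroup.eq.1 (e.trans hy)))
      simpa using this
    · have l : ∀ i : Fin 5, 2 ≤ i → ∃ x : G, orderOf x = 3 ∧ pz G x = φ (a5c i) := fun i hi =>
        lift_three (by
          rw [orderOf_injective φ hφ]
          exact orderOf_eq_prime (a5c_rel.1 i hi).1 (a5c_rel.1 i hi).2)
      have r : ∀ {i j : Fin 5} {x y : G}, 2 ≤ i → i < j → pz G x = φ (a5c i) → pz G y = φ (a5c j) →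
          orderOf (x * y) = 4 := fun {i j x y} hi hj ex ey => h.ord_four
        (by rw [map_mul, ex, ey, ← map_mul]; exact fun e => (a5c_rel.2 i j hi hj).2 (hφ (by simpa using e)))
        (by rw [map_mul, ex, ey, ← map_mul, ← map_mul, (a5c_rel.2 i j hi hj).1, map_one])
      obtain ⟨x2, o2, f2⟩ := l 2 (by decide)
      obtain ⟨x3, o3, f3⟩ := l 3 (by decide)
      obtain ⟨x4, o4, f4⟩ := l 4 (by decide)
      exact h.mem_all ⟨o2, o3, o4, r (by decide) (by decide) f2 f3, r (by decide) (by decide) f2 f4,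
        r (by decide) (by decide) f3 f4⟩ hx ⟨_, f2.symm⟩ ⟨_, f3.symm⟩ ⟨_, f4.symm⟩
  refine ⟨φ, hφ, key, cZ, ?_⟩
  obtain ⟨ψ, g1, g2⟩ := exists_hom_sl25 a4 d3 a5 (mem_center_iff.1 aZ.1 d).symm
  have cN : Nat.card (N3 G) = 120 := by
    rw [← key, H1.card_comap_mk', cZ,
      ← Nat.card_congr (MonoidHom.ofInjective hφ).toEquiv, H4.card_alt5]
  have le : N3 G ≤ ψ.range := by
    have := H4.a5_gen ((ψ.range.map (pz G)).comap φ) (by
        rw [mem_comap, e1]; exact mem_map_of_mem _ ⟨_, g1⟩) (by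
        rw [mem_comap, e2]; exact mem_map_of_mem _ ⟨_, g2⟩)
    rw [← key]
    rintro x ⟨y, hy⟩
    obtain ⟨n, hn, e⟩ := this.ge (mem_top y)
    have m : n⁻¹ * x ∈ ψ.range := by
      have hx : n⁻¹ * x ∈ Z2 G := QuotientGroup.eq.1 (e.trans hy)
      by_cases x1 : n⁻¹ * x = 1
      · rw [x1]; exact one_mem _
      · rw [h.ui hx.2 x1 a4 a2]; exact mul_mem ⟨_, g1⟩ ⟨_, g1⟩
    simpa using mul_mem hn m
  have c1 := card_le_of_le le
  have c2 : Nat.card ψ.range ≤ 120 :=
    card_sl25 ▸ Nat.card_le_card_of_surjective _ ψ.rangeRestrict_surjective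
  have b : Function.Bijective ψ.rangeRestrict :=
    ψ.rangeRestrict_surjective.bijective_of_nat_card_le (by rw [card_sl25]; omega)
  exact ⟨(MulEquiv.subgroupCongr (eq_of_le_of_card_ge le (by omega))).trans
    (MulEquiv.ofBijective _ b).symm⟩

theorem trivial_of_perfect (hp : _root_.commutator G = ⊤) (hg : ¬ Gold G) : Subsingleton G := by
  by_cases h3 : 3 ∣ Nat.card G
  · exfalso
    obtain ⟨a, ha⟩ := exists_prime_orderOf_dvd_card' 3 h3
    obtain ⟨b, hb⟩ : ∃ b : G, ∀ d : G, orderOf d = 3 → zpowers d ∈ ({zpowers a, zpowers b,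
        zpowers (a * b * a⁻¹), zpowers (a⁻¹ * b * a)} : Set (Subgroup G)) := by
      by_cases hX : ∃ b, orderOf b = 3 ∧ orderOf (a * b) = 4
      · obtain ⟨b, hb, ab⟩ := hX
        have X : ∀ d : G, orderOf d = 3 → orderOf (a * d) = 4 → zpowers d ∈ ({zpowers a, zpowers b,
            zpowers (a * b * a⁻¹), zpowers (a⁻¹ * b * a)} : Set (Subgroup G)) := fun d hd ad => by
          obtain ⟨g, hg', e | e⟩ := h.pos ha hb hd ab ad
          · rw [← e]; rcases hg' with rfl | rfl | rfl <;> simp [mul_assoc]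
          · refine absurd (h.gold_of_t3 ⟨ha, hb, (ord_conj _ _).trans hd, ab, ?_, e⟩) hg
            rw [← ad, ← ord_conj2 g a d]
            rcases hg' with rfl | rfl | rfl <;> simp
        refine ⟨b, fun d hd => ?_⟩
        rcases h.pair ha hd with rfl | rfl | e | e | e
        · simp
        · simp
        · exact X d hd e
        · rw [← zpowers_inv (g := d)]; exact X _ ((orderOf_inv d).trans hd) e
        · exact absurd ⟨a, d, ha, hd, e⟩ hg
      · refine ⟨a, fun d hd => ?_⟩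
        rcases h.pair ha hd with rfl | rfl | e | e | e
        · simp
        · simp
        · exact absurd ⟨d, hd, e⟩ hX
        · exact absurd ⟨_, (orderOf_inv d).trans hd, e⟩ hX
        · exact absurd ⟨a, d, ha, hd, e⟩ hg
    have hN : nrm (zpowers a) = ⊤ := by
      refine eq_top_of_index_le_four hp ?_
      let f : G ⧸ nrm (zpowers a) → ({zpowers a, zpowers b,
        zpowers (a * b * a⁻¹), zpowers (a⁻¹ * b * a)} : Set (Subgroup G)) := fun x =>
        ⟨_, hb (x.out * a * x.out⁻¹) ((ord_conj _ _).trans ha)⟩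
      have hf : Function.Injective f := fun x y e => by
        have e1 : zpowers (x.out * a * x.out⁻¹) = zpowers (y.out * a * y.out⁻¹) :=
          congrArg Subtype.val e
        rw [← H2.cj_zpowers, ← H2.cj_zpowers] at e1
        rw [← x.out_eq', ← y.out_eq', QuotientGroup.eq, ← cj_eq_self_iff, cj_mul]
        exact (congrArg (cj x.out⁻¹) e1).symm.trans (cj_inv_cj _ _)
      refine (Nat.card_le_card_of_injective f hf).trans ?_
      rw [Nat.card_coe_set_eq]
      exact (Set.ncard_insert_le _ _).trans (Nat.succ_le_succ ((Set.ncard_insert_le _ _).trans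
        (Nat.succ_le_succ ((Set.ncard_insert_le _ _).trans (by simp)))))
    have hC : a ∈ center G := by
      haveI := normal_of hN.ge
      haveI : IsCyclic (zpowers a) := inferInstance
      have := H1.commutator_le_centralizer_of_isCyclic (C := zpowers a) (A := ⊤) (B := ⊤) hN.ge hN.ge
      exact mem_center_iff.2 fun g => (mem_cen.1 (this (hp.ge (mem_top g))) a (mem_zpowers a)).symm
    obtain ⟨R, hR⟩ := IsPGroup.exists_le_sylow (isPGroup_zpowers_of_orderOf ha)
    haveI := h.cyc 3 Nat.prime_three (by norm_num) _ R.isPGroup'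
    have := eq_one_of_central_commutator R (hR (mem_zpowers a)) hC (hp.ge (mem_top a))
    simp [this] at ha
  have hn := npc_of_ui h.ui' fun g _ hg => absurd (hg.trans (orderOf_dvd_natCard g)) h3
  have ho : ¬ 2 ∣ Nat.card G := fun h2 =>
    let ⟨M, hM⟩ := exists_index_of_npc hn h2; index_ne_two_of_perfect hp M hM
  haveI := h.isZ fun P => by
    rw [show (P : Subgroup G) = ⊥ from by_contra fun e =>
      ho ((dvd_card_of_isPGroup P.isPGroup' e).trans (card_subgroup_dvd_card _))]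
    infer_instance
  by_contra! hne
  exact (IsZGroup.commutator_lt (G := G)).ne hp

theorem gold_of_not_solvable (hs : ¬ Group.IsSolvable G) : Gold G := by
  by_contra hg
  obtain ⟨R, -, -, hR, hsol⟩ := exists_perfect_res (⊤ : Subgroup G)
  haveI := (h.sub R).trivial_of_perfect (by
    rw [← map_subtype_inj, map_commutator_eq, range_subtype, hR, ← MonoidHom.range_eq_map,
      range_subtype]) fun ⟨c, d, h1, h2, h3, h4⟩ => hg ⟨c, d, by simpa using h1, by simpa using h2,
        (orderOf_coe (c * d)).trans h3, (orderOf_coe (c * d⁻¹)).trans h4⟩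
  haveI := hsol inferInstance
  exact hs (Group.isSolvable_of_surjective (f := (⊤ : Subgroup G).subtype) fun x => ⟨⟨x, trivial⟩, rfl⟩)

theorem exists_s5 (hg : Gold G) : ∃ ψ : G →* Equiv.Perm (Fin 5),
    ψ.ker = cen (N3 G) ∧ (N3 G).map ψ = alternatingGroup (Fin 5) ∧ N3 G ⊓ ψ.ker = Z2 G := by
  obtain ⟨φ, hφ, key, -, -⟩ := h.exists_a5 hg
  have hr : φ.range = (N3 G).map (pz G) := by
    rw [← key, map_comap_eq_self_of_surjective (QuotientGroup.mk'_surjective _)]
  haveI : φ.range.Normal := hr ▸ Subgroup.Normal.map inferInstance _ (QuotientGroup.mk'_surjective _)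
  have c5 : 4 ≤ Nat.card (Fin 5) := by simp
  have bj : Function.Bijective
      (MulAut.conjNormal : Equiv.Perm (Fin 5) →* MulAut (alternatingGroup (Fin 5))) :=
    ⟨conjNormal_inj c5, fun α => by
      obtain ⟨σ, hσ⟩ := aut_alt c5 α (.inl (by simp))
      exact ⟨σ, MulEquiv.ext fun g => Subtype.ext (hσ g).symm⟩⟩
  let e := MonoidHom.ofInjective hφ
  let ψ : G →* Equiv.Perm (Fin 5) := (MulEquiv.ofBijective _ bj).symm.toMonoidHom.comp
    ((MulAut.congr e).symm.toMonoidHom.comp ((MulAut.conjNormal (H := φ.range)).comp (pz G)))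
  have hψ : ∀ g x, φ (MulAut.conjNormal (ψ g) x) = pz G g * φ x * (pz G g)⁻¹ := fun g x => by
    have : MulAut.conjNormal (ψ g) = (MulAut.congr e).symm (MulAut.conjNormal (H := φ.range) (pz G g)) :=
      (MulEquiv.ofBijective _ bj).apply_symm_apply _
    rw [this]
    exact congrArg Subtype.val (e.apply_symm_apply _)
  have val : ∀ n y, pz G n = φ y → ψ n = y := fun n y hy => bj.1 (MulEquiv.ext fun x => hφ (by
    rw [hψ, hy, ← map_inv, ← map_mul, ← map_mul]; rfl))
  refine ⟨ψ, le_antisymm (fun g hg => ?_) fun g hg => bj.1 (MulEquiv.ext fun x => hφ ?_),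
    le_antisymm ?_ fun y hy => ?_, le_antisymm (fun g hg => ?_) fun g hg => ⟨key.le ?_, ?_⟩⟩
  · refine le_cen_symm (A := N3 G) (B := zpowers g) ((closure_le _).2 fun x hx => ?_) (mem_zpowers g)
    rw [cen_zpowers]
    obtain ⟨y, hy⟩ := key.ge (mem_N3 hx)
    have := hψ g y
    rw [MonoidHom.mem_ker.1 hg, map_one, MulAut.one_apply, hy] at this
    exact mem_cen1.2 (comm_of_pz (by rw [show orderOf x = 3 from hx]; decide)
      (by rw [← mul_inv_eq_iff_eq_mul, ← this])).symm
  · obtain ⟨n, hn, e1⟩ := hr.le ⟨x, rfl⟩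
    rw [hψ, map_one, MulAut.one_apply, ← e1, ← map_inv, ← map_mul, ← map_mul,
      conj_eq_of_mem_cen hg hn]
  · rintro _ ⟨n, hn, rfl⟩
    obtain ⟨y, hy⟩ := key.ge hn
    rw [val n y hy.symm]; exact y.2
  · obtain ⟨n, hn, e1⟩ := hr.le ⟨⟨y, hy⟩, rfl⟩
    exact ⟨n, hn, val n _ e1⟩
  · obtain ⟨y, hy⟩ := key.ge hg.1
    have := val g y hy.symm
    rw [MonoidHom.mem_ker.1 hg.2] at this
    rw [← pz_eq_one, ← hy, show y = 1 from Subtype.ext this.symm, map_one]
  · rw [mem_comap, pz_eq_one.2 hg]; exact one_mem _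
  · exact val g 1 (by rw [pz_eq_one.2 hg, map_one])

end FC

end H8
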