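import Cfsg.Agent.H8.FC3
import Cfsg.Agent.H8.FrobSol

set_option autoImplicit false

namespace H8
open Subgroup Cfsg H7 H1B
open scoped MatrixGroups commutatorElement

variable {G : Type*} [Group G]

namespace FC
variable [Finite G] (h : FC G)
include h

theorem mem_zpowers_of_comm {u v : G} (e : u * v = v * u) (hd : orderOf u ∣ orderOf v) :
    u ∈ zpowers v := by
  haveI := h.ab (closure {u, v}) (isMulCommutative_closure (by
    rintro _ (rfl | rfl) _ (rfl | rfl)
    exacts [rfl, e, e.symm, rfl]))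
  exact mem_zpowers_of_orderOf_dvd (C := closure {u, v}) (subset_closure (by simp))
    (subset_closure (by simp)) hd

theorem card_N3 (hg : Gold G) : Nat.card (N3 G) = 120 := by
  obtain ⟨-, -, -, -, ⟨e⟩⟩ := h.exists_a5 hg
  rw [Nat.card_congr e.toEquiv, card_sl25]

theorem inf_cen (hg : Gold G) : N3 G ⊓ cen (N3 G) = Z2 G := by
  obtain ⟨ψ, h1, -, h3⟩ := h.exists_s5 hg
  rw [← h1, h3]

theorem cen_ord (hg : Gold G) {u : G} (hu : u ∈ cen (N3 G))
    (ho : orderOf u = 3 ∨ orderOf u = 4 ∨ orderOf u = 5) : False := by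
  obtain ⟨v, hv, e⟩ : ∃ v ∈ N3 G, orderOf v = orderOf u := by
    rcases ho with e | e | e <;> rw [e]
    · exact ⟨u, mem_N3 e, e⟩
    · obtain ⟨c, d, hc, hd, o1, o2⟩ := hg
      have t := h.t3_of_gold hc hd o1 o2
      exact ⟨_, mul_mem (mem_N3 hc) (mem_N3 t.hb), t.ab⟩
    · obtain ⟨v, hv⟩ := exists_prime_orderOf_dvd_card' (G := N3 G) 5 (by rw [h.card_N3 hg]; norm_num)
      exact ⟨v, v.2, (orderOf_coe v).trans hv⟩
  have m := zpowers_le.2 hv (h.mem_zpowers_of_comm (mem_cen.1 hu v hv).symm e.symm.dvd)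
  have := orderOf_dvd_of_pow_eq_one (x := u) (n := 2)
    (by rw [sq]; exact ((h.inf_cen hg).le ⟨m, hu⟩).2)
  rcases ho with e | e | e <;> rw [e] at this <;> omega

/-- The centraliser of `SL(2,5)` is `Z2 × M`. -/
theorem exists_M (hg : Gold G) : ∃ M : Subgroup G, Z2 G ⊔ M = cen (N3 G) ∧ Z2 G ⊓ M = ⊥ ∧
    (Nat.card M).Coprime 30 := by
  obtain ⟨-, -, -, cZ, -⟩ := h.exists_a5 hg
  set C := cen (N3 G) with hC
  have ZC : Z2 G ≤ C := (h.inf_cen hg).ge.trans inf_le_right
  have cZ' : Nat.card ((Z2 G).subgroupOf C) = 2 := by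
    rw [Nat.card_congr (subgroupOfEquivOfLe ZC).toEquiv, cZ]
  have n2 : ¬ 2 ∣ ((Z2 G).subgroupOf C).index := fun hd => by
    obtain ⟨y, hy⟩ := exists_prime_orderOf_dvd_card' (G := C ⧸ (Z2 G).subgroupOf C) 2 hd
    obtain ⟨x, rfl⟩ := QuotientGroup.mk_surjective y
    refine h.cen_ord hg x.2 (.inr (.inl (h.ord_four (fun e => (ord2.1 hy).2 ?_) ?_)))
    · exact (QuotientGroup.eq_one_iff x).2 (pz_eq_one.1 e)
    · rw [← map_mul, pz_eq_one]
      exact (QuotientGroup.eq_one_iff (x * x)).1 (ord2.1 hy).1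
  obtain ⟨K, hK⟩ := exists_right_complement'_of_coprime (N := (Z2 G).subgroupOf C)
    (by rw [cZ']; exact (Nat.Prime.coprime_iff_not_dvd Nat.prime_two).2 n2)
  refine ⟨K.map C.subtype, ?_, ?_, ?_⟩
  · rw [← map_subgroupOf_eq_of_le ZC, ← Subgroup.map_sup, hK.sup_eq_top, ← MonoidHom.range_eq_map,
      range_subtype]
  · rw [← map_subgroupOf_eq_of_le ZC, ← Subgroup.map_inf _ _ _ C.subtype_injective,
      hK.disjoint.eq_bot, Subgroup.map_bot]
  · rw [card_map_of_injective C.subtype_injective]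
    have np : ∀ p : ℕ, p.Prime → p = 3 ∨ p = 5 → (Nat.card K).Coprime p := fun p hp e => by
      haveI := Fact.mk hp
      refine ((Nat.Prime.coprime_iff_not_dvd hp).2 fun hd => ?_).symm
      obtain ⟨y, hy⟩ := exists_prime_orderOf_dvd_card' (G := K) p hd
      refine h.cen_ord hg y.1.2 ?_
      rw [orderOf_coe, orderOf_coe, hy]; omega
    show (Nat.card K).Coprime (2 * 3 * 5)
    refine Nat.Coprime.mul_right (Nat.Coprime.mul_right ?_
      (np 3 (by norm_num) (.inl rfl))) (np 5 (by norm_num) (.inr rfl))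
    rw [← hK.symm.index_eq_card]
    exact ((Nat.Prime.coprime_iff_not_dvd Nat.prime_two).2 n2).symm

omit [Finite G] in
theorem isZ_of_odd {M : Subgroup G} [Finite M] (ho : ¬ 2 ∣ Nat.card M) : IsZGroup M :=
  (h.sub M).isZ fun P => by
    rw [show (P : Subgroup M) = ⊥ from by_contra fun e =>
      ho ((dvd_card_of_isPGroup P.isPGroup' e).trans (card_subgroup_dvd_card _))]
    infer_instance

/-- Zassenhaus' theorem on non-solvable Frobenius complements. -/
theorem structure_of_gold (hg : Gold G) : ∃ M : Subgroup G, (N3 G ⊔ M).Normal ∧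
    (N3 G ⊔ M).index ∣ 2 ∧ N3 G ⊓ M = ⊥ ∧ M ≤ cen (N3 G) ∧ Z2 G ⊔ M = cen (N3 G) ∧ IsZGroup M ∧
      (Nat.card M).Coprime 30 := by
  obtain ⟨M, h1, h2, h3⟩ := h.exists_M hg
  obtain ⟨ψ, k1, k2, k3⟩ := h.exists_s5 hg
  have MC : M ≤ cen (N3 G) := le_sup_right.trans h1.le
  have ZN : Z2 G ≤ N3 G := k3.ge.trans inf_le_left
  have e : N3 G ⊔ M = (alternatingGroup (Fin 5)).comap ψ := by
    rw [← k2, comap_map_eq, k1, ← h1, ← sup_assoc, sup_eq_left.2 ZN]
  refine ⟨M, e ▸ inferInstance, ?_, ?_, MC, h1, h.isZ_of_odd fun hd => ?_, h3⟩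
  · rw [e, index_comap, ← alternatingGroup.index_eq_two (α := Fin 5)]
    exact relIndex_dvd_index_of_normal _ _
  · rw [eq_bot_iff, ← h2, ← h.inf_cen hg]
    exact le_inf (inf_le_inf_left _ MC) inf_le_right
  · exact absurd (Nat.eq_one_of_dvd_coprimes h3 hd (by norm_num)) (by norm_num)

theorem sl25_of_perfect [Nontrivial G] (hp : _root_.commutator G = ⊤) :
    Nonempty (G ≃* SL(2, ZMod 5)) := by
  have hg : Gold G := by_contra fun hg => not_subsingleton G (h.trivial_of_perfect hp hg)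
  obtain ⟨M, -, h2, h3, h4, -, h5, -⟩ := h.structure_of_gold hg
  obtain ⟨-, -, -, -, ⟨e⟩⟩ := h.exists_a5 hg
  have top : N3 G ⊔ M = ⊤ := index_eq_one.1
    (((Nat.dvd_prime Nat.prime_two).1 h2).resolve_right (index_ne_two_of_perfect hp _))
  let π := QuotientGroup.mk' (N3 G)
  have hs : Function.Surjective (π.comp M.subtype) := by
    rw [← MonoidHom.range_eq_top, MonoidHom.range_comp, range_subtype, eq_top_iff,
      ← map_top_of_surjective π (QuotientGroup.mk'_surjective _), ← top, Subgroup.map_sup,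
      (Subgroup.map_eq_bot_iff _).2 (QuotientGroup.ker_mk' _).ge, bot_sup_eq]
  haveI := Group.isSolvable_of_surjective hs
  have : N3 G = ⊤ := by
    by_contra hne
    haveI : Nontrivial (G ⧸ N3 G) := QuotientGroup.nontrivial_iff.2 hne
    refine (Group.IsSolvable.commutator_lt_top_of_nontrivial (G ⧸ N3 G)).ne ?_
    have := map_commutator_eq G π
    rw [hp, MonoidHom.range_eq_top.2 (QuotientGroup.mk'_surjective _),
      map_top_of_surjective _ (QuotientGroup.mk'_surjective _)] at this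
    exact this.symm
  exact ⟨topEquiv.symm.trans ((MulEquiv.subgroupCongr this.symm).trans e)⟩

end FC

end H8
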