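import Cfsg.Agent.H8.FC4
import Cfsg.Agent.H8.AbC2
import Cfsg.Agent.H1.Two1
import Cfsg.Agent.H4.Klein
import Cfsg.Agent.S3742

set_option autoImplicit false

namespace H8
open Subgroup Cfsg H7 H1B
open scoped MatrixGroups commutatorElement

variable {G : Type*} [Group G]

theorem mx_of_Quat {P : Subgroup G} {a : G} {n : ℕ} (h : H9.Quat P a n) : MX P a 1 n :=
  ⟨h.mem, h.ord, h.card, fun b hb hba => by rw [mul_one]; exact h.inv b hb hba, .inl rfl⟩

theorem equiv_of_Quat [Finite G] {P : Subgroup G} {a : G} {n : ℕ} (h : H9.Quat P a n) :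
    Nonempty (P ≃* QuaternionGroup (2 ^ (n + 1))) :=
  let ⟨b, hb, hba⟩ := h.ex
  (mx_of_Quat h).quat rfl hb hba (by rw [← sq]; exact h.sq b hb hba)

/-- A solvable group with no odd core and a unique involution. -/
theorem core_free_s4 [Finite G] [Group.IsSolvable G] (ui : H9.UI (⊤ : Subgroup G))
    (hO : pPrimeCore 2 G = ⊥) : ∃ N : Subgroup G, ∃ _ : N.Normal, IsCyclic N ∧ IsPGroup 2 N ∧
      (N = ⊤ ∨ IsKleinFour (G ⧸ N) ∨
        ∃ f : G →* Equiv.Perm (Fin 4), f.ker = N ∧ 12 ∣ Nat.card f.range) := by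
  by_cases h2 : IsPGroup 2 G
  · rcases ui.cyclic_or_quat (h2.to_subgroup ⊤) with hc | ⟨a, n, h⟩
    · exact ⟨⊤, inferInstance, hc, h2.to_subgroup ⊤, .inl rfl⟩
    have m := mx_of_Quat h
    haveI := normal_of m.le_nrmB
    refine ⟨zpowers (a ^ 2), inferInstance, inferInstance, h2.to_subgroup _, .inr (.inl
      (H4.isKleinFour_of ?_ fun g => ?_))⟩
    · have := relIndex_mul_relIndex _ _ _ (zp_pow_le a 2) m.le
      rw [m.relIndexB, m.relIndex, relIndex_top_right] at this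
      exact this.symm
    · obtain ⟨g, rfl⟩ := QuotientGroup.mk_surjective g
      rw [← QuotientGroup.mk_mul, QuotientGroup.eq_one_iff, ← sq]
      exact m.sq_mem trivial
  obtain ⟨g, g1, go⟩ : ∃ g : G, g ≠ 1 ∧ Odd (orderOf g) := by
    obtain ⟨p, hp, hd, p2⟩ : ∃ p : ℕ, p.Prime ∧ p ∣ Nat.card G ∧ p ≠ 2 := by
      by_contra! hh
      exact h2 (IsPGroup.of_card (Nat.eq_prime_pow_of_unique_prime_dvd Nat.card_pos.ne'
        fun hp hd => hh _ hp hd))
    haveI := Fact.mk hp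
    obtain ⟨g, hg⟩ := exists_prime_orderOf_dvd_card' p hd
    exact ⟨g, fun e => hp.one_lt.ne' (by rw [← hg, e, orderOf_one]), hg ▸ hp.odd_of_ne_two p2⟩
  set Q := pCore 2 G with hQ
  have hC : cen Q ≤ Q := H1.centralizer_pCore_le_of_isSolvable hO
  have pQ : IsPGroup 2 Q := H1.isPGroup_pCore
  have gC : g ∉ cen Q := fun e => g1 (by
    obtain ⟨k, hk⟩ := pQ ⟨g, hC e⟩
    exact orderOf_eq_one_iff.1 (Nat.eq_one_of_dvd_coprimes ((Nat.coprime_two_right.2 go).pow_right k)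
      dvd_rfl (orderOf_dvd_of_pow_eq_one (congrArg Subtype.val hk))))
  have gN : g ∈ nrm Q := le_normalizer_of_normal (mem_top g)
  have c8 := ((ui_cen pQ (ui.mono le_top) gN go).resolve_left gC).1
  obtain ⟨a, n, h⟩ := ((ui.mono le_top).cyclic_or_quat pQ).resolve_left fun _ =>
    gC (cen_of_cyclic_two pQ gN go)
  obtain rfl : n = 0 := by
    have := h.card.symm.trans c8
    rw [show 8 = 2 ^ 3 by rfl] at this
    have := Nat.pow_right_injective le_rfl this
    omega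
  obtain ⟨e⟩ := equiv_of_Quat h
  obtain ⟨e'⟩ := Cfsg.Agent.S3742.result
  let f : G →* Equiv.Perm (Fin 4) :=
    ((MulAut.congr e).trans e').toMonoidHom.comp (MulAut.conjNormal (H := Q))
  have hk : f.ker = cen Q := by
    ext x
    rw [MonoidHom.mem_ker]
    show ((MulAut.congr e).trans e') _ = 1 ↔ _
    rw [EmbeddingLike.map_eq_one_iff, MulEquiv.ext_iff]
    exact ⟨fun hx => mem_cen.2 fun y hy => (mul_inv_eq_iff_eq_mul.1
      (congrArg Subtype.val (hx ⟨y, hy⟩))).symm, fun hx y => Subtype.ext (conj_eq_of_mem_cen hx y.2)⟩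
  have m := mx_of_Quat h
  have hz : cen Q = zpowers (a ^ 2 ^ (0 + 1)) := by rw [← m.ctr, inf_eq_right.2 hC]
  refine ⟨cen Q, inferInstance, hz ▸ inferInstance, pQ.to_le hC, .inr (.inr ⟨f, hk, ?_⟩)⟩
  refine Nat.Coprime.mul_dvd_of_dvd_of_dvd (by norm_num : Nat.Coprime 3 4) ?_ ?_
  · have o1 : orderOf (f g) ≠ 1 := fun e => gC (hk.le (orderOf_eq_one_iff.1 e))
    have o2 : Odd (orderOf (f g)) := go.of_dvd_nat (orderOf_map_dvd f g)
    have o3 : orderOf (f g) ∣ 24 := H4.card_sym4 ▸ orderOf_dvd_natCard _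
    have o4 := Subgroup.orderOf_dvd_natCard f.range ⟨g, rfl⟩
    have := Nat.le_of_dvd (by norm_num) o3
    rw [Nat.odd_iff] at o2
    generalize orderOf (f g) = k at *
    interval_cases k <;> omega
  · have e2 := (cen Q).card_mul_index
    have e3 := c8 ▸ card_subgroup_dvd_card Q
    rw [← index_ker, hk]
    rw [hz, Nat.card_zpowers, m.z_ord, ← hz] at e2
    omega

namespace FC
variable [Finite G] (h : FC G)
include h

theorem solv_cases [Group.IsSolvable G] : ∃ N : Subgroup G, ∃ _ : N.Normal, IsZGroup N ∧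
    (N = ⊤ ∨ IsKleinFour (G ⧸ N) ∨
      ∃ f : G →* Equiv.Perm (Fin 4), f.ker = N ∧ 12 ∣ Nat.card f.range) := by
  set O := pPrimeCore 2 G with hO
  let π := QuotientGroup.mk' O
  have hs := QuotientGroup.mk'_surjective O
  have oO : Odd (ord O) := Nat.coprime_two_right.1 H1.coprime_pPrimeCore
  have ho : ∀ t ∈ π.ker, orderOf t ≠ 2 := by
    rw [QuotientGroup.ker_mk']; exact odd_iff_no_inv.1 oO
  obtain ⟨N, hN, h1, h2, h3⟩ := core_free_s4 (G := G ⧸ O) (fun s _ t _ s1 t1 s2 t2 _ => by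
    obtain ⟨s, e1, rfl⟩ := lift_two ho hs (ord2'.2 ⟨s2, s1⟩)
    obtain ⟨t, e2, rfl⟩ := lift_two ho hs (ord2'.2 ⟨t2, t1⟩)
    rw [h.ui (ord2.1 e1).1 (ord2.1 e1).2 (ord2.1 e2).1 (ord2.1 e2).2])
    H1.pPrimeCore_quotient_pPrimeCore
  refine ⟨N.comap π, inferInstance, ?_, ?_⟩
  · haveI := h.isZ_of_odd (M := O) oO.not_two_dvd_nat
    have le : O ≤ N.comap π := (QuotientGroup.ker_mk' O).ge.trans (ker_le_comap _ _)
    refine isZGroup_of_coprime (f := inclusion le) (f' := π.subgroupComap N) (fun x hx => ?_) ?_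
    · exact ⟨⟨x, (QuotientGroup.eq_one_iff _).1 (congrArg Subtype.val hx)⟩, rfl⟩
    · obtain ⟨k, hk⟩ := IsPGroup.iff_card.1 h2
      rw [hk]; exact (Nat.coprime_two_right.2 oO).pow_right k
  · rcases h3 with rfl | h3 | ⟨f, h3, h4⟩
    · exact .inl (comap_top _)
    · refine .inr (.inl (H4.isKleinFour_of ((index_comap_of_surjective _ hs).trans h3.card_four)
        fun g => ?_))
      obtain ⟨g, rfl⟩ := QuotientGroup.mk_surjective g
      rw [← QuotientGroup.mk_mul, QuotientGroup.eq_one_iff, mem_comap, map_mul,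
        ← QuotientGroup.eq_one_iff, QuotientGroup.mk_mul]
      exact IsKleinFour.mul_self _
    · exact .inr (.inr ⟨f.comp π, by rw [← MonoidHom.comap_ker, h3], by
        rwa [MonoidHom.range_comp, MonoidHom.range_eq_top.2 hs, ← MonoidHom.range_eq_map]⟩)

theorem isZ_cen (hg : Gold G) : IsZGroup (cen (N3 G)) := (h.sub _).isZ fun P =>
  (h.sub _).ab _ ⟨⟨fun a b => by
    have : ∀ x : P, x * x = 1 := fun x => by
      obtain ⟨k, hk⟩ := IsPGroup.iff_orderOf.1 P.isPGroup' x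
      rcases k with _ | _ | k
      · rw [orderOf_eq_one_iff.1 hk, one_mul]
      · exact (ord2.1 hk).1
      · refine (h.cen_ord hg (x ^ 2 ^ k).1.2 (.inr (.inl ?_))).elim
        rw [orderOf_coe, orderOf_coe]
        exact ord_pow_two (m := 2) (by rw [hk]; congr 1; omega)
    rw [← inv_eq_of_mul_self (this (a * b)), mul_inv_rev, inv_eq_of_mul_self (this a),
      inv_eq_of_mul_self (this b)]⟩⟩

end FC

end H8
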