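import Cfsg.Agent.H8.BSW9
import Cfsg.Agent.H9.Q8
import Cfsg.Agent.H8.FrobSol

/-! The principal 2-block of a group with Klein four Sylow 2-subgroups. -/

set_option maxSynthPendingDepth 3

namespace H8

open Subgroup Cfsg H7 H3
open scoped ComplexConjugate

variable {G : Type*} [Group G] [Finite G] {t g : G} {V : Subgroup G}

theorem isConj_of_pElt (hV : IsSylowIn 2 V ⊤) (cls : ∀ v ∈ V, v ≠ 1 → IsConj t v) (hg : H9.IsPElt 2 g) (h1 : g ≠ 1) :
    IsConj t g := by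
  obtain ⟨k, hk⟩ := hg
  obtain ⟨c, -, hc⟩ := hV.exists_cj_le (Q := zpowers g) (isPGroup_zpowers (k := k) (hk ▸ pow_orderOf_eq_one g)) le_top
  exact (cls _ (hc (H2.conj_mem_cj (mem_zpowers g))) (mt conj_eq_one_iff.1 h1)).trans
    (IsConj.symm (isConj_iff.2 ⟨c, rfl⟩))

theorem klein_block (hV : IsSylowIn 2 V ⊤) (h4 : ord V = 4) (t1 : t ≠ 1) (t2 : t * t = 1) (hVt : V ≤ cen1 t)
    (cls : ∀ v ∈ V, v ≠ 1 → IsConj t v) (hC : HasNormalPComplement 2 (cen1 t)) :
    ∃ a b c : G → ℂ, SIrr G a ∧ SIrr G b ∧ SIrr G c ∧ a t = 1 ∧ b t = 1 ∧ c t = 1 ∧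
      ∀ g, 1 + a g + b g + c g = if 2 ∣ orderOf g then 4 else 0 := by
  classical
  obtain ⟨M, hM⟩ := H9.exists_pmod Nat.prime_two
  haveI : H9.PMod 2 M := ⟨hM⟩
  have ht : H9.IsPElt 2 t := ⟨1, orderOf_eq_prime (p := 2) (by rw [pow_two, t2]) t1⟩
  have hf : 2 ^ (Nat.card (H9.cen1 t)).factorization 2 = 4 := by
    rw [← h4, ← card_subgroupOf_of_le hVt]; exact ((hV.mono hVt le_top).toSylow.card_eq_multiplicity).symm
  choose m hm using fun χ : IrrCharacter G => H9.exists_int_of_sq_eq_one χ.2.isGen ((pow_two t).trans t2)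
  have h1 := H9.sum_B0_normSq_of_npc (M := M) ht hC
  rw [hf] at h1
  have h0 : (H9.trivChar G).1 = fun _ => 1 := rfl
  have hs : ∀ f : IrrCharacter G → ℂ, ∑ χ with χ ∈ (H9.B0 M G).1, f χ = f (H9.trivChar G) +
      ∑ χ ∈ (Finset.univ.filter (· ∈ (H9.B0 M G).1)).erase (H9.trivChar G), f χ := fun f =>
    (Finset.add_sum_erase _ _ (Finset.mem_filter.2 ⟨Finset.mem_univ _, H9.trivChar_mem_B0⟩)).symm
  set s := (Finset.univ.filter (· ∈ (H9.B0 M G).1)).erase (H9.trivChar G)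
  have h2 : ∑ χ ∈ s, m χ ^ 2 = 3 := by
    rw [hs, h0] at h1
    simp only [hm, map_intCast, map_one, ← pow_two] at h1
    exact_mod_cast (by push_cast at h1 ⊢; linear_combination h1 : ((∑ χ ∈ s, m χ ^ 2 : ℤ) : ℂ) = 3)
  have h3 : ∀ χ ∈ s, m χ = 1 ∨ m χ = -1 := fun χ hχ => by
    have h5 := Finset.single_le_sum (f := fun χ => m χ ^ 2) (fun _ _ => sq_nonneg _) hχ
    obtain ⟨g, hg, g1, h6⟩ := H9.B0_exists_apply_ne_zero (dvd_trans (by rw [h4]; decide) V.card_subgroup_dvd_card)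
      (Finset.mem_filter.1 (Finset.mem_of_mem_erase hχ)).2
    obtain ⟨c, rfl⟩ := isConj_iff.1 (isConj_of_pElt hV cls hg g1)
    rw [χ.2.isClassFunction, hm, Int.cast_ne_zero] at h6
    rw [h2] at h5
    have : m χ ≤ 1 := by nlinarith
    have : -1 ≤ m χ := by nlinarith
    omega
  have h5 : ∀ χ ∈ s, m χ ^ 2 = 1 := fun χ hχ => by rcases h3 χ hχ with e | e <;> simp [e]
  rw [Finset.sum_congr rfl h5, Finset.sum_const, nsmul_eq_mul, mul_one] at h2
  obtain ⟨a, b, c, ab, ac, bc, e⟩ := Finset.card_eq_three.1 (by exact_mod_cast h2 : s.card = 3)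
  have f : ∀ χ ∈ s, SIrr G ((m χ : ℂ) • χ.1) ∧ ((m χ : ℂ) • χ.1) t = 1 := fun χ hχ =>
    ⟨SIrr.sign_smul (Or.inl χ.2) (by exact_mod_cast h3 χ hχ), by
      rw [Pi.smul_apply, hm, smul_eq_mul, ← pow_two]; exact_mod_cast h5 χ hχ⟩
  have fa := f a (by simp [e]); have fb := f b (by simp [e]); have fc := f c (by simp [e])
  refine ⟨_, _, _, fa.1, fb.1, fc.1, fa.2, fb.2, fc.2, fun g => ?_⟩
  have h6 : H9.kap M t g = 1 + ((m a : ℂ) • a.1) g + ((m b : ℂ) • b.1) g + ((m c : ℂ) • c.1) g := by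
    rw [H9.kap, H9.blockPart_dl, hs, e, Finset.sum_insert (by simp [ab, ac]), Finset.sum_pair bc, h0]
    simp only [hm, map_intCast, map_one, Pi.smul_apply, smul_eq_mul]; ring
  rw [← h6]
  split_ifs with h7
  · rw [H9.span_const_of_npc ht hC (H9.kap_span t) (isConj_of_pElt hV cls (H9.isPElt_pp g)
      (mt H9.pp_eq_one_iff.1 (not_not.2 h7))), H9.kap_self_of_npc ht hC, hf]
    norm_num
  · exact H9.kap_eq_zero ht (by rw [H9.pp_of_isPRegular h7]; simpa using t1)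

theorem klein_index (hV : IsSylowIn 2 V ⊤) (h4 : ord V = 4) (ht : t ∈ V) (t1 : t ≠ 1) (t2 : t * t = 1)
    (hVt : V ≤ cen1 t) (cls : ∀ v ∈ V, v ≠ 1 → IsConj t v) (hC : HasNormalPComplement 2 (cen1 t))
    (hN : ∀ u ∈ cen1 t, u * u = 1 → u ∈ V) : (cen1 t).index < 27 := by
  classical
  haveI := Fintype.ofFinite G
  obtain ⟨a, b, c, sa, sb, sc, ha, hb, hc, h⟩ := klein_block hV h4 t1 t2 hVt cls hC
  have f : ∀ {a : G → ℂ}, SIrr G a → a t = 1 → ∃ α : ℤ, a 1 = α ∧ α % 4 = 1 := fun {a} sa ha => by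
    obtain ⟨n, hn⟩ := exists_int_deg_of_vanish ((sa.isGen.sub isIrrCharacter_one.isGen).res V) fun v hv => by
      obtain ⟨c, hc⟩ := isConj_iff.1 (cls v v.2 fun e => hv (Subtype.ext e))
      simp [← hc, sa.isClassFunction _ _, ha]
    refine ⟨4 * n + 1, ?_, by omega⟩
    rw [h4] at hn; push_cast; exact eq_add_of_sub_eq (hn.trans (by push_cast; ring))
  obtain ⟨α, h1, a4⟩ := f sa ha
  obtain ⟨β, h2, b4⟩ := f sb hb
  obtain ⟨γ, h3, c4⟩ := f sc hc
  have h5 : nPr t t = 2 := by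
    rw [show 2 = ((V : Set G) \ {1, t}).ncard by
      rw [Set.ncard_sdiff (by simp [Set.insert_subset_iff, ht]), Set.ncard_pair t1.symm, ← Nat.card_coe_set_eq]
      exact (congrArg (· - 2) h4).symm, ← Nat.card_coe_set_eq]
    refine Nat.card_congr (Equiv.subtypeEquivRight fun u => ⟨fun ⟨h1, h2⟩ => ⟨hN u (mem_cen1.2 ?_)
      (sq_of_isConj t2 h1), ?_⟩, fun ⟨h1, h2⟩ => ?_⟩)
    · have h3 := sq_of_isConj t2 h2
      rw [inv_eq_of_mul_eq_one_right (sq_of_isConj t2 h1)] at h3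
      rw [eq_inv_of_mul_eq_one_left h3, mul_inv_rev, inv_eq_of_mul_eq_one_right t2,
        inv_eq_of_mul_eq_one_right (sq_of_isConj t2 h1)]
    · rintro (e | e)
      · exact ne_one_of_isConj t1 h1 e
      · exact ne_one_of_isConj t1 h2 (by rw [e, inv_mul_cancel])
    · simp only [Set.mem_insert_iff, Set.mem_singleton_iff, not_or] at h2
      exact ⟨cls u h1 h2.1, cls _ (mul_mem (inv_mem h1) ht) fun e => h2.2 (inv_mul_eq_one.1 e)⟩
  have h6 : ∀ g, (1 + a g + b g + c g) * nPr t g = 8 * classInd t g := fun g => by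
    rw [h, classInd]
    by_cases e : IsConj t g
    · obtain ⟨c, rfl⟩ := isConj_iff.1 e
      rw [if_pos e, nPr_conj, h5, if_pos (orderOf_eq_prime (p := 2) (by rw [pow_two, sq_of_isConj t2 e])
        (ne_one_of_isConj t1 e)).symm.dvd]
      norm_num
    rw [if_neg e, mul_zero, mul_eq_zero]
    split_ifs with h7
    · refine Or.inr (Nat.cast_eq_zero.2 (by_contra fun h8 => e ?_))
      obtain ⟨u, hu, hv⟩ := exists_of_card_ne h8
      obtain ⟨k, hk⟩ := isConj_iff.1 (isConj_of_pElt hV cls (H9.isPElt_pp g)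
        (mt H9.pp_eq_one_iff.1 (not_not.2 h7))).symm
      have h9 : u * g * u⁻¹ = g⁻¹ := by
        have := sq_of_isConj t2 hv
        rw [inv_eq_of_mul_eq_one_right (sq_of_isConj t2 hu)] at this ⊢
        exact eq_inv_of_mul_eq_one_left (by rw [← this]; group)
      have h10 : k * u * k⁻¹ ∈ cen1 t := by
        rw [← hk, ← cj_cen1, conj_mem_cj, mem_cen1, ← mul_inv_eq_iff_eq_mul, ← H9.pp_conj, h9, H9.pp_inv]
        exact inv_eq_of_mul_eq_one_right (by simpa [← hk] using t2)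
      have h11 : k * g * k⁻¹ ∈ cen1 t := by
        rw [← hk, ← cj_cen1, conj_mem_cj, mem_cen1]; exact (H9.commute_pp g).symm
      have h12 := hN _ h10 (sq_of_isConj t2 (hu.trans (isConj_iff.2 ⟨k, rfl⟩)))
      have h13 := hN _ (mul_mem (inv_mem h10) h11) (sq_of_isConj t2 (hv.trans (isConj_iff.2 ⟨k, by group⟩)))
      exact (cls _ ((mul_mem_cancel_left (inv_mem h12)).1 h13) (mt conj_eq_one_iff.1 fun e => by
        simp [e] at h7)).trans (IsConj.symm (isConj_iff.2 ⟨k, rfl⟩))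
    · exact Or.inl rfl
  have h7 := Finset.sum_congr rfl fun g (_ : g ∈ Finset.univ) => h6 g
  have e0 := sum_mul_nPr (Or.inl isIrrCharacter_one) t
  have e1 := sum_mul_nPr sa t
  have e2 := sum_mul_nPr sb t
  have e3 := sum_mul_nPr sc t
  have e4 := sum_classInd_mul t isIrrCharacter_one.isClassFunction
  simp only [mul_one] at e4
  simp only [add_mul, Finset.sum_add_distrib, ← Finset.mul_sum, e4, one_mul] at h7 e0
  have hn : ((cen1 t).index : ℂ) ≠ 0 := Nat.cast_ne_zero.2 index_ne_zero_of_finite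
  rw [h1, ha] at e1; rw [h2, hb] at e2; rw [h3, hc] at e3
  have h8 := h 1
  rw [h1, h2, h3, orderOf_one, if_neg (by decide)] at h8
  exact_mod_cast klein_bound (n := (cen1 t).index) (by exact_mod_cast Nat.pos_of_ne_zero index_ne_zero_of_finite)
    a4 b4 c4 (by exact_mod_cast h8) (by
      exact_mod_cast mul_left_cancel₀ hn (by
        linear_combination (α * β * γ) * h7 - (α * β * γ) * e0 - β * γ * e1 - α * γ * e2 - α * β * e3 :
        ((cen1 t).index : ℂ) * ((cen1 t).index * (α * β * γ + β * γ + α * γ + α * β)) =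
          (cen1 t).index * (8 * (α * β * γ))))

end H8
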