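import Cfsg.Agent.H8.ME
import Cfsg.Agent.H6.More

/-! The concrete group `Spor.M11`. -/

set_option autoImplicit false
set_option linter.style.haveILetI false

namespace H8
open Cfsg Subgroup H9

theorem spor_m11 : IsSimpleGroup Spor.M11 ∧ Nat.card Spor.M11 = 7920 := by
  have hp : H6.pt 0 ∈ H6.D0 := by decide +kernel
  obtain ⟨e⟩ := H6.isoM11 H6.D0_mem hp
  haveI := H6.simple_M11 H6.D0_mem hp
  exact ⟨e.isSimpleGroup, (Nat.card_congr e.toEquiv).trans (H6.card_M11 H6.D0_mem hp)⟩

theorem dvd_ncard_order {G : Type*} [Group G] [Finite G] {p n : ℕ} [Fact p.Prime] {a : G}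
    (ha : orderOf a = p) (h : ∀ x, Commute a x → orderOf x ≠ n) :
    p ∣ {x : G | orderOf x = n}.ncard := by
  have := ncard_modEq_of_isPGroup (p := p) (P := zpowers (ConjAct.toConjAct a))
    (IsPGroup.of_card (n := 1) (by rw [Nat.card_zpowers, MulEquiv.orderOf_eq, ha, pow_one]))
    {x : G | orderOf x = n} (Set.toFinite _) fun g _ x hx => (orderOf_conj _ x).trans hx
  rw [show {x ∈ {x : G | orderOf x = n} | ∀ g ∈ zpowers (ConjAct.toConjAct a), g • x = x} = ∅ from
    Set.eq_empty_of_forall_notMem fun x hx => h x (mul_inv_eq_iff_eq_mul.1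
      (hx.2 _ (mem_zpowers _))) hx.1, Set.ncard_empty] at this
  exact (Nat.modEq_zero_iff_dvd).1 this

theorem m11_nse {G : Type*} [Group G] [Finite G] [IsSimpleGroup G] (hN : Nat.card G = 7920) (n : ℕ) :
    {x : G | orderOf x = n}.ncard = 1 ∨ {x : G | orderOf x = n}.ncard = 1440 ∨
      11 ∣ {x : G | orderOf x = n}.ncard := by
  haveI : Fact (Nat.Prime 11) := ⟨by norm_num⟩
  obtain ⟨a, ha⟩ := exists_prime_orderOf_dvd_card' (G := G) 11 (by rw [hN]; norm_num)
  by_cases h1 : n = 1
  · exact .inl (by simp [h1])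
  by_cases h2 : n = 11
  · obtain ⟨P, e⟩ := sylow_eq_zpowers (fun P => ((m11_11 hN).2 P).1) ha
    have h4 := (nrm (P : Subgroup G)).card_mul_index
    rw [hN, show (nrm (P : Subgroup G)).index = _ from P.card_eq_index_normalizer.symm, e,
      (m11_nrm hN ha).1] at h4
    rw [h2, ncard_order_prime P ((m11_11 hN).2 P).1]
    omega
  refine .inr (.inr (dvd_ncard_order ha fun x hx e => ?_))
  have := orderOf_dvd_of_mem_zpowers ((m11_cen11 hN ha).le (mem_centralizer_singleton_iff.2 hx.symm))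
  rw [e, ha] at this
  exact ((Nat.dvd_prime Fact.out).1 this).elim h1 h2

end H8
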