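import Cfsg.Agent.H8.MF
import Cfsg.Agent.S0389

/-! More on the simple group of order 7920: classes of elements of prime order, subgroups. -/

set_option autoImplicit false
set_option linter.style.haveILetI false
set_option linter.unusedSectionVars false

namespace H8
open Cfsg H9 Subgroup Equiv MulAction MD

universe u

theorem iso_s5_of_inj {K Ω : Type*} [Group K] [Finite Ω] (f : K →* Perm Ω)
    (inj : Function.Injective f) (cΩ : Nat.card Ω = 6) (cK : Nat.card K = 120) :
    Nonempty (K ≃* Perm (Fin 5)) := by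
  classical
  haveI := Fintype.ofFinite Ω
  have c1 : Nat.card f.range = 120 := (Nat.card_congr (MonoidHom.ofInjective inj).toEquiv).symm.trans cK
  have c2 : Nat.card (Perm Ω) = 720 := by rw [Nat.card_perm, cΩ]; rfl
  have c3 : Nat.card (Perm Ω ⧸ f.range) = 6 := by
    have := f.range.card_mul_index
    rw [c1, c2] at this
    rw [← index]; omega
  have k : f.range.normalCore = ⊥ := by
    by_contra h
    have := card_le_of_le ((Perm.alternatingGroup_le_of_normal (by
      rw [cΩ]; norm_num) ((nontrivial_iff_ne_bot _).2 h)).trans f.range.normalCore_le)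
    have h2 := (alternatingGroup Ω).card_mul_index
    haveI : Nontrivial Ω := Finite.one_lt_card_iff_nontrivial.1 (by omega)
    rw [alternatingGroup.index_eq_two, c2] at h2
    omega
  let o : Perm Ω ⧸ f.range := ((1 : Perm Ω) : Perm Ω ⧸ f.range)
  have c4 : Nat.card (SubMulAction.ofStabilizer (Perm Ω) o) = 5 := by
    have := SubMulAction.nat_card_ofStabilizer_add_one_eq (G := Perm Ω) o
    omega
  letI : MulAction (stabilizer (Perm Ω) o) (SubMulAction.ofStabilizer (Perm Ω) o) :=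
    SubMulAction.mulAction _
  have inj2 : Function.Injective
      (toPermHom (stabilizer (Perm Ω) o) (SubMulAction.ofStabilizer (Perm Ω) o)) := by
    rw [injective_iff_map_eq_one]
    intro g hg
    refine Subtype.ext (mem_bot.1 (k ▸ (normalCore_eq_ker f.range).ge (Equiv.ext fun x => ?_)))
    by_cases e : x = o
    · rw [e]; exact g.2
    · exact congrArg Subtype.val (DFunLike.congr_fun hg ⟨x, e⟩)
  exact ⟨(MonoidHom.ofInjective inj).trans ((MulEquiv.subgroupCongr (stabilizer_quotient _).symm).trans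
    ((MulEquiv.ofBijective _ ((Nat.bijective_iff_injective_and_card _).2 ⟨inj2, by
      rw [Nat.card_perm, c4, stabilizer_quotient, c1]; rfl⟩)).trans
      (Finite.equivFinOfCardEq c4).permCongrHom))⟩

variable {G : Type u} [Group G] [Finite G]

theorem mem_of_nodup {H : Type*} [Group H] (f : G →* H) {S : Subgroup G} {l : List G}
    (h1 : ∀ x ∈ l, x ∈ S) (h2 : (l.map f).Nodup) (h3 : Nat.card S = l.length) {z : G} (hz : z ∈ S) :
    z ∈ l := by
  classical
  have := Set.eq_of_subset_of_ncard_le (s := (l.toFinset : Set G)) (t := S) (fun x hx => h1 x (by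
    simpa using hx)) (by
      rw [Set.ncard_coe_finset, List.toFinset_card_of_nodup (h2.of_map _), ← h3]; rfl)
  simpa using this.ge hz

variable [IsSimpleGroup G]

local instance fact11b : Fact (Nat.Prime 11) := ⟨by norm_num⟩
local instance fact5b : Fact (Nat.Prime 5) := ⟨by norm_num⟩

theorem not_normal_of_nrm {p : ℕ} [Fact p.Prime] {J : Subgroup G} (hd : p ∣ Nat.card J)
    (h : ∀ u : G, orderOf u = p → Nat.card (nrm (zpowers u)) < Nat.card J)
    (h2 : ¬ p ^ 2 ∣ Nat.card J) : Nat.card (Sylow p J) ≠ 1 := fun e => by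
  haveI := (Nat.card_eq_one_iff_unique.1 e).1
  obtain ⟨u, hu⟩ := exists_prime_orderOf_dvd_card' p hd
  obtain ⟨P, hP⟩ := sylow_eq_zpowers (fun P => card_sylow_of_not_sq hd h2 P) hu
  have h3 : (zpowers u).Normal := hP ▸ P.normal_of_subsingleton
  refine (h u ((orderOf_coe u).trans hu)).not_ge (card_le_of_le fun g hg => ?_)
  refine mem_normalizer_fintype fun z hz => ?_
  obtain ⟨k, rfl⟩ := mem_zpowers_iff.1 hz
  obtain ⟨j, hj⟩ := mem_zpowers_iff.1 (h3.conj_mem _ (zpow_mem (mem_zpowers u) k) ⟨g, hg⟩)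
  exact ⟨j, congrArg Subtype.val hj⟩

theorem m11_660 (hN : Nat.card G = 7920) {L : Subgroup G} (hL : Nat.card L = 660) :
    IsSimpleGroup L := by
  rcases syl_red (p := 11) (m := 720) (L := [2, 3, 5]) (by decide) (by decide) (by decide +kernel) L
    (by rw [hL]; norm_num) with e | ⟨S, _, _, b1, b2, b3, b4, b5, b6⟩
  · exact absurd e (not_normal_of_nrm (by rw [hL]; norm_num) (fun u hu => by
      rw [(m11_nrm hN hu).1, hL]; norm_num) (by rw [hL]; norm_num))
  have h1 := Nat.le_of_dvd (by norm_num) (hL ▸ b4)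
  have h2 := DC.small_orders b2 (by omega)
  exact b6 (by simp at h2; omega)

theorem m11_120 (hN : Nat.card G = 7920) {J : Subgroup G} (hJ : Nat.card J = 120) :
    Nonempty (J ≃* Perm (Fin 5)) := by
  have n1 : Nat.card (Sylow 5 J) ≠ 1 := not_normal_of_nrm (by rw [hJ]; norm_num) (fun u hu => by
    obtain ⟨P, e⟩ := sylow_eq_zpowers (fun P => ((m11_5 hN).2 P).1) hu
    obtain ⟨a1, a2, a3⟩ := (m11_5 hN).2 P
    have := H7.card_le_relIndex_mul (cen (P : Subgroup G)) (nrm (P : Subgroup G))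
    rw [a3, a2, inf_eq_left.2 le_normalizer, a1] at this
    rw [← e, this, hJ]; norm_num) (by rw [hJ]; norm_num)
  have c := fun P : Sylow 5 J => card_sylow_pow (k := 1) (m := 24) (hJ.trans (by norm_num))
    (by norm_num) P
  have n2 := card_sylow_modEq_one 5 J
  have n3 := (c default).2 ▸ (default : Sylow 5 J).card_dvd_index
  have : ∀ n ∈ Nat.divisors 24, n % 5 = 1 → n = 1 ∨ n = 6 := by decide
  refine iso_s5_of_inj (toPermHom J (Sylow 5 J)) ((MonoidHom.ker_eq_bot_iff _).1 ?_)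
    ((this _ (Nat.mem_divisors.2 ⟨n3, by norm_num⟩) n2).resolve_left n1) hJ
  set K := (toPermHom J (Sylow 5 J)).ker
  have e := K.card_mul_index
  have h5 : ¬ 5 ∣ Nat.card K := fun h => n1 (Nat.card_eq_one_iff_unique.2 ⟨⟨fun P Q => by
    have := sylow_le_of_normal_of_not_dvd_index K (p := 5) (fun h' => by
      have := Nat.mul_dvd_mul h h'
      rw [e, hJ] at this; norm_num at this) P
    have h2 := P.2.inf_normalizer_sylow Q
    rw [inf_eq_left.2 fun x hx => Sylow.smul_eq_iff_mem_normalizer.1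
      (DFunLike.congr_fun (this hx) Q)] at h2
    exact (Sylow.ext (P.3 Q.2 (inf_eq_left.1 h2.symm))).symm⟩, inferInstance⟩)
  obtain ⟨u, hu⟩ := exists_prime_orderOf_dvd_card' (G := J) 5 (by rw [hJ]; norm_num)
  have h6 := le_cen_of_cop (p := 5) (m := 24) (L := [2, 3]) (by decide) (by decide) (by decide)
    (P := zpowers u) (K := K) (IsPGroup.of_card (n := 1) (by rw [Nat.card_zpowers, hu, pow_one]))
    ((Nat.coprime_comm.1 ((Nat.Prime.coprime_iff_not_dvd Fact.out).2 h5)).dvd_of_dvd_mul_left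
      ((card_subgroup_dvd_card K).trans hJ.dvd)) (le_top.trans (normalizer_eq_top K).ge)
  rw [eq_bot_iff_forall]
  intro x hx
  have h7 : orderOf (x : G) ∣ orderOf (u : G) := orderOf_dvd_of_mem_zpowers
    ((m11_cen5 hN ((orderOf_coe u).trans hu)).le (mem_centralizer_singleton_iff.2
      (congrArg Subtype.val (mem_centralizer_iff.1 (h6 hx) u (mem_zpowers u))).symm))
  rw [orderOf_coe, orderOf_coe, hu] at h7
  exact orderOf_eq_one_iff.1 (((Nat.dvd_prime Fact.out).1 h7).resolve_right fun e =>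
    h5 (e ▸ K.orderOf_dvd_natCard hx))

theorem conj_of_list {p : ℕ} [Fact p.Prime] {S : Sylow p G} {s : G}
    (h : ∀ z ∈ (S : Subgroup G), orderOf z = p → IsConj s z) {x y : G} (hx : orderOf x = p)
    (hy : orderOf y = p) : IsConj x y := by
  have k : ∀ x : G, orderOf x = p → IsConj s x := fun x hx => by
    obtain ⟨g, hg⟩ := exists_conj_mem_sylow S (x := x) ⟨1, by rw [hx, pow_one]⟩
    refine (h _ hg ?_).trans (isConj_iff.2 ⟨g, by group⟩)
    rw [← hx, ← orderOf_conj g⁻¹ x, inv_inv]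
  exact (k x hx).symm.trans (k y hy)

theorem m11_cls3 (hN : Nat.card G = 7920) {x y : G} (hx : orderOf x = 3) (hy : orderOf y = 3) :
    IsConj x y := by
  haveI : Fact (Nat.Prime 3) := Nat.fact_prime_three
  obtain ⟨f, inj, hf⟩ := m11_rep hN
  obtain ⟨a, ha⟩ : mA ∈ f.range := hf ▸ subset_closure (by simp)
  obtain ⟨w, hw⟩ : mW ∈ f.range := hf ▸ subset_closure (by simp)
  obtain ⟨g, x, y, x3, y3, c, n1, n2⟩ : ∃ g x y : G, x ^ 3 = 1 ∧ y ^ 3 = 1 ∧ Commute x y ∧
      (((List.range 9).map fun i => x ^ (i / 3) * y ^ (i % 3)).map f).Nodup ∧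
      ∀ i ∈ List.range 9, i = 0 ∨ ∃ k ∈ List.range 8,
        f (g ^ k * x) = f (x ^ (i / 3) * y ^ (i % 3) * g ^ k) := by
    refine ⟨a ^ 3 * w ^ 3, w ^ 2 * a ^ 3, a ^ 3 * w ^ 3 * (w ^ 2 * a ^ 3) * (a ^ 3 * w ^ 3)⁻¹, inj ?_,
      inj ?_, inj ?_, ?_, ?_⟩ <;>
    simp only [List.map_map, Function.comp_def, map_mul, map_pow, map_inv, map_one, ha, hw] <;>
    decide +kernel
  have pz : ∀ z : G, z ^ 3 = 1 → IsPGroup 3 (zpowers z) := fun z h =>
    isPGroup_zpowers_of_pow_eq_one (k := 1) (by simpa using h)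
  obtain ⟨S, hS⟩ := ((pz x x3).to_sup_of_normal_left' (pz y y3) (zpowers_le.2
    (centralizer_le_normalizer _ ((cen_zpowers x).ge
      (mem_centralizer_singleton_iff.2 c.symm))))).exists_le_sylow
  refine conj_of_list (S := S) (s := x) (fun z hz oz => ?_) hx hy
  obtain ⟨i, hi, rfl⟩ := List.mem_map.1 (mem_of_nodup f (fun z hz => by
    obtain ⟨i, -, rfl⟩ := List.mem_map.1 hz
    exact hS (mul_mem_sup (pow_mem (mem_zpowers x) _) (pow_mem (mem_zpowers y) _))) n1
    (card_sylow_pow (k := 2) (m := 880) (hN.trans (by norm_num)) (by norm_num) S).1 hz)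
  rcases n2 i hi with rfl | ⟨k, -, e⟩
  · simp at oz
  · exact isConj_iff.2 ⟨g ^ k, mul_inv_eq_iff_eq_mul.2 (inj e)⟩

theorem m11_cls2 (hN : Nat.card G = 7920) {x y : G} (hx : orderOf x = 2) (hy : orderOf y = 2) :
    IsConj x y := by
  obtain ⟨f, inj, hf⟩ := m11_rep hN
  obtain ⟨a, ha⟩ : mA ∈ f.range := hf ▸ subset_closure (by simp)
  obtain ⟨w, hw⟩ : mW ∈ f.range := hf ▸ subset_closure (by simp)
  obtain ⟨g, s, h, x3, y3, c, n1, n2⟩ : ∃ g s h : G, g ^ 2 ^ 3 = 1 ∧ s ^ 2 ^ 1 = 1 ∧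
      s * g * s⁻¹ = g ^ 3 ∧ (((List.range 16).map fun i => g ^ (i / 2) * s ^ (i % 2)).map f).Nodup ∧
      ∀ i ∈ List.range 16, f ((g ^ (i / 2) * s ^ (i % 2)) ^ 2) = 1 → i = 0 ∨
        f (h * s) = f (g ^ (i / 2) * s ^ (i % 2) * h) ∨ ∃ k ∈ List.range 8,
        f (g ^ k * s) = f (g ^ (i / 2) * s ^ (i % 2) * g ^ k) := by
    refine ⟨a ^ 3 * w ^ 3, a * w * a * w ^ 3 * a * w ^ 3, w * a * w ^ 2 * a ^ 2 * w * a, inj ?_,
      inj ?_, inj ?_, ?_, ?_⟩ <;>
    simp only [List.map_map, Function.comp_def, map_mul, map_pow, map_inv, map_one, ha, hw] <;>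
    decide +kernel
  obtain ⟨S, hS⟩ := ((isPGroup_zpowers_of_pow_eq_one x3).to_sup_of_normal_left'
    (isPGroup_zpowers_of_pow_eq_one y3) (zpowers_le.2 (mem_normalizer_fintype fun z hz => by
      obtain ⟨k, rfl⟩ := mem_zpowers_iff.1 hz
      rw [← conj_zpow, c]; exact zpow_mem (pow_mem (mem_zpowers g) 3) k))).exists_le_sylow
  refine conj_of_list (S := S) (s := s) (fun z hz oz => ?_) hx hy
  obtain ⟨i, hi, rfl⟩ := List.mem_map.1 (mem_of_nodup f (fun z hz => by
    obtain ⟨i, -, rfl⟩ := List.mem_map.1 hz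
    exact hS (mul_mem_sup (pow_mem (mem_zpowers g) _) (pow_mem (mem_zpowers s) _))) n1
    (card_sylow_pow (k := 4) (m := 495) (hN.trans (by norm_num)) (by norm_num) S).1 hz)
  rcases n2 i hi (by rw [orderOf_dvd_iff_pow_eq_one.1 oz.dvd, map_one]) with rfl | e | ⟨k, -, e⟩
  · simp at oz
  · exact isConj_iff.2 ⟨h, mul_inv_eq_iff_eq_mul.2 (inj e)⟩
  · exact isConj_iff.2 ⟨g ^ k, mul_inv_eq_iff_eq_mul.2 (inj e)⟩

section Conc
open scoped Pointwise
variable {d : Finset GolayPt} (hd : d ∈ dodecads) {p : GolayPt} (hp : p ∈ d)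
include hd

theorem card_compl_dodecad : dᶜ.card = 12 := by
  rw [Finset.card_compl, (H6.mem_dodecads.1 hd).2]; rfl

theorem exists_emb3 {a b : GolayPt} (ha : a ∉ d) (hb : b ∉ d) (h : a ≠ b) :
    ∃ x : Fin 3 ↪ GolayPt, (∀ i, x i ∉ d) ∧ x 0 = a ∧ x 1 = b := by
  obtain ⟨c, h1, h2⟩ := Finset.exists_mem_notMem_of_card_lt_card (s := {a, b}) (t := dᶜ)
    (by rw [card_compl_dodecad hd, Finset.card_pair h]; norm_num)
  simp only [Finset.mem_insert, Finset.mem_singleton, not_or, Finset.mem_compl] at h1 h2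
  refine ⟨⟨![a, b, c], fun i j e => ?_⟩, fun i => ?_, rfl, rfl⟩
  · fin_cases i <;> fin_cases j <;> simp_all [eq_comm]
  · fin_cases i <;> simpa

include hp in
theorem tr2_compl {a b a' b' : GolayPt} (ha : a ∉ d) (hb : b ∉ d) (h : a ≠ b) (ha' : a' ∉ d)
    (hb' : b' ∉ d) (h' : a' ≠ b') : ∃ g : ↥(stabilizer M24 d ⊓ stabilizer M24 p),
      g • a = a' ∧ g • b = b' := by
  obtain ⟨x, x1, rfl, rfl⟩ := exists_emb3 hd ha hb h
  obtain ⟨y, y1, rfl, rfl⟩ := exists_emb3 hd ha' hb' h'
  obtain ⟨g, g1, g2⟩ := Cfsg.Agent.S0389.result d hd p hp x y x1 y1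
  exact ⟨⟨g, g1⟩, g2 0, g2 1⟩

omit hd in
theorem smul_notMem (g : ↥(stabilizer M24 d ⊓ stabilizer M24 p)) {a : GolayPt} (ha : a ∉ d) :
    g • a ∉ d := fun h => ha (by
  have e : (g : M24) • d = d := g.2.1
  exact (Finset.smul_mem_smul_finset_iff (g : M24)).1 (e.symm ▸ h))

theorem exists_ne_compl (a : GolayPt) : ∃ b, b ∉ d ∧ a ≠ b := by
  obtain ⟨c, h1, h2⟩ := Finset.exists_mem_notMem_of_card_lt_card (s := {a}) (t := dᶜ)
    (by rw [card_compl_dodecad hd]; simp)
  exact ⟨c, by simpa using h1, fun e => h2 (by simp [e])⟩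

include hp in
theorem card_stab_compl {q : GolayPt} (hq : q ∉ d) :
    Nat.card (stabilizer ↥(stabilizer M24 d ⊓ stabilizer M24 p) q) = 660 := by
  have := (stabilizer ↥(stabilizer M24 d ⊓ stabilizer M24 p) q).card_mul_index
  rw [H6.card_M11 hd hp, index_stabilizer, show orbit _ q = (dᶜ : Finset GolayPt) from Set.ext fun x =>
    ⟨by rintro ⟨g, rfl⟩; simpa using smul_notMem g hq, fun hx => by
      obtain ⟨b, b1, b2⟩ := exists_ne_compl hd q
      obtain ⟨c, c1, c2⟩ := exists_ne_compl hd x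
      obtain ⟨g, e, -⟩ := tr2_compl hd hp hq b1 b2 (by simpa using hx) c1 c2
      exact ⟨g, e⟩⟩, Set.ncard_coe_finset, card_compl_dodecad hd] at this
  omega

include hp in
theorem card_stab_pair {q r : GolayPt} (hq : q ∉ d) (hr : r ∉ d) (h : q ≠ r) :
    Nat.card (stabilizer ↥(stabilizer M24 d ⊓ stabilizer M24 p) ({q, r} : Finset GolayPt)) = 120 := by
  have := (stabilizer ↥(stabilizer M24 d ⊓ stabilizer M24 p) ({q, r} : Finset GolayPt)).card_mul_index
  rw [H6.card_M11 hd hp, index_stabilizer, show orbit _ ({q, r} : Finset GolayPt) =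
    (Finset.powersetCard 2 dᶜ : Finset _) from Set.ext fun x => ⟨by
      rintro ⟨g, rfl⟩
      simp only [Finset.mem_coe, Finset.mem_powersetCard, Finset.card_smul_finset,
        Finset.card_pair h, and_true]
      simpa [Finset.smul_finset_insert, Finset.insert_subset_iff] using
        And.intro (smul_notMem g hq) (smul_notMem g hr), fun hx => by
      obtain ⟨h1, h2⟩ := Finset.mem_powersetCard.1 hx
      obtain ⟨a, b, n, rfl⟩ := Finset.card_eq_two.1 h2
      simp only [Finset.insert_subset_iff, Finset.singleton_subset_iff, Finset.mem_compl] at h1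
      obtain ⟨g, e1, e2⟩ := tr2_compl hd hp hq hr h h1.1 h1.2 n
      exact ⟨g, by simp [Finset.smul_finset_insert, e1, e2]⟩⟩, Set.ncard_coe_finset, Finset.card_powersetCard,
    card_compl_dodecad hd, show Nat.choose 12 2 = 66 by rfl] at this
  omega

end Conc

end H8
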