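import Cfsg.Agent.H2.NPC
import Cfsg.Agent.H7.GL2

/-! A nilpotent maximal subgroup with abelian Sylow `2`-subgroup forces solvability. -/

namespace H8

open Subgroup Cfsg H7

variable {G : Type*} [Group G] [Finite G] {M S : Subgroup G}

theorem solv_of_coatom_core (hM : IsCoatom M) (hn : Group.IsNilpotent M) (hS : IsSylowIn 2 S M)
    (hc : IsMulCommutative S) (h0 : ∀ W ≤ M, W.Normal → W = ⊥) : Group.IsSolvable G := by
  have h1 : ∀ W ≤ M, W ≠ ⊥ → M ≤ nrm W → nrm W = M := fun W h1 h2 h3 =>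
    (h3.eq_or_lt.resolve_right fun h => h2 (h0 W h1 (normal_iff_top_le_nrm.2 (hM.2 _ h).ge))).symm
  have h2 : ∀ p, p.Prime → p ∣ ord M → NPC p (⊤ : Subgroup G) ∧ ∃ P, IsSylowIn p P ⊤ ∧ P ≤ M :=
    fun p hp hd => by
      haveI := Fact.mk hp
      have h3 : ∀ P, IsSylowIn p P M → M ≤ nrm P ∧ nrm P = M ∧ IsSylowIn p P ⊤ := fun P hP => by
        have e : M ≤ nrm P := by
          rw [← (npc_of_nilp (p := p) hn).sup hP]
          exact sup_le ((nilp_cen_of_coprime hn (Opi_le _ _) hP.le (coprime_of_isPGroup hP.isPGroup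
            (coprime_Op' p M))).trans (cen_le_nrm P)) (le_nrm_self P)
        have e' := h1 P hP.le (syl_ne_bot hP hd) e
        exact ⟨e, e', syl_of_nrm le_top (by rwa [top_inf_eq, e'])⟩
      obtain ⟨P, hP⟩ := H2.exists_isSylowIn p M
      refine ⟨?_, P, (h3 P hP).2.2, hP.le⟩
      by_cases h4 : p = 2
      · subst h4
        refine npc_burnside (h3 S hS).2.2 ?_
        rw [top_inf_eq, (h3 S hS).2.1, ← (npc_of_nilp (p := 2) hn).sup hS]
        exact sup_le (nilp_cen_of_coprime hn (Opi_le _ _) hS.le (coprime_of_isPGroup hS.isPGroup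
          (coprime_Op' 2 M))) (isComm_iff.1 hc)
      refine npc_iff.1 (H2.glauberman_thompson h4 (Or.inl rfl) (h3 P hP).2.2 (npc_iff.2 ?_))
      rw [top_inf_eq, h1 _ ((H2.ZJ_le P).trans hP.le) (H2.ZJ_ne_bot (Or.inl rfl) hP.isPGroup
        (syl_ne_bot hP hd)) (H2.nrm_ZJ (h3 P hP).1)]
      exact npc_of_nilp hn
  let L := Opi {p | ¬ p ∣ ord M} (⊤ : Subgroup G)
  have hL : (ord M).Coprime (ord L) := Nat.coprime_of_dvd fun p hp h h' => piN_Opi _ _ p hp h' h
  have h3 : ⊤ ≤ L ⊔ M := le_of_sylows_le fun q hq _ => by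
    haveI := Fact.mk hq
    by_cases hd : q ∣ ord M
    · obtain ⟨P, hP, hP'⟩ := (h2 q hq hd).2
      exact ⟨P, hP, le_sup_of_le_right hP'⟩
    obtain ⟨Q, hQ⟩ := H2.exists_isSylowIn q (⊤ : Subgroup G)
    refine ⟨Q, hQ, le_sup_of_le_left (le_normalClosure.trans (le_Opi le_top (le_nrm_of_normal _ _)
      fun p hp hp' hd' => ?_))⟩
    haveI := Fact.mk hp
    haveI : (Op' p (⊤ : Subgroup G)).Normal := normal_iff_top_le_nrm.2 (le_nrm_Opi _ _)
    exact hp.one_lt.ne' (((coprime_Op' p ⊤).coprime_dvd_left (card_dvd_of_le (normalClosure_le_normal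
      ((h2 p hp hd').1.le_Op' le_top (coprime_of_isPGroup hQ.isPGroup
        ((Nat.coprime_primes hp hq).2 fun e => hd (e ▸ hd'))).symm)))).symm.eq_one_of_dvd hp')
  obtain ⟨q, hq, hd⟩ := exists_prime_dvd (H := L) fun e => hM.1 (by simpa [e] using h3)
  haveI := Fact.mk hq
  obtain ⟨Q, hQ, hQ'⟩ := Cop.exists_syl q ⟨le_top.trans (le_nrm_Opi _ _), hL, Or.inl (solv_of_nilp hn)⟩
  have h4 : M ⊔ Q = ⊤ := hM.2 _ (left_lt_sup.2 fun h => syl_ne_bot hQ hd
    (eq_bot_iff.2 ((le_inf h hQ.le).trans (eq_bot_of_coprime hL).le)))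
  have := solv_sup hQ' (solv_of_nilp hn) (solv_of_isPGroup hQ.isPGroup)
  rw [h4] at this
  exact Group.isSolvable_of_surjective (f := (⊤ : Subgroup G).subtype) fun g => ⟨⟨g, trivial⟩, rfl⟩

theorem solv_of_coatom (hM : IsCoatom M) (hn : Group.IsNilpotent M) (hS : IsSylowIn 2 S M)
    (hc : IsMulCommutative S) : Group.IsSolvable G := by
  let π := QuotientGroup.mk' M.normalCore
  have hπ : Function.Surjective π := QuotientGroup.mk'_surjective _
  have hk : π.ker = M.normalCore := QuotientGroup.ker_mk' _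
  have e : (M.map π).comap π = M := by rw [comap_map_eq, hk, sup_eq_left.2 (normalCore_le M)]
  haveI := solv_of_coatom_core (M := M.map π) ⟨fun h => hM.1 (by rw [← e, h, comap_top]),
    fun K h => comap_injective hπ (hM.2 _ (e.symm.trans_lt ((comap_lt_comap_of_surjective hπ).2 h)))⟩
    (Group.nilpotent_of_surjective _ (π.subgroupMap_surjective M)) (hS.map π) inferInstance fun W h1 h2 =>
      comap_injective hπ (by
        rw [MonoidHom.comap_bot, hk]
        exact le_antisymm (normal_le_normalCore.2 ((comap_mono h1).trans e.le)) (hk.ge.trans (ker_le_comap π W)))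
  haveI := solv_of_le (normalCore_le M) (solv_of_nilp hn)
  exact Group.isSolvable_of_ker_le_range M.normalCore.subtype π (by rw [hk, range_subtype])

end H8
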