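import Mathlib
import Cfsg.Prelude.Def_FischerSpaces

/-! Small facts on sets of 3-transpositions (no closure under conjugation assumed). -/

set_option autoImplicit false

namespace H8
open Cfsg

variable {G : Type*} [Group G] {E : Set G} {a b c e : G}

theorem sq1 (h : orderOf a = 2) : a * a = 1 := by rw [← pow_two, ← h, pow_orderOf_eq_one]

theorem ll1 (h : a * a = 1) (x : G) : a * (a * x) = x := by rw [← mul_assoc, h, one_mul]

theorem inv1 (h : a * a = 1) : a⁻¹ = a := inv_eq_of_mul_eq_one_left h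

theorem comm_of_sq1 (ha : a * a = 1) (hb : b * b = 1) (h : (a * b) ^ 2 = 1) : Commute a b := by
  have := inv1 (pow_two (a * b) ▸ h)
  rw [mul_inv_rev, inv1 ha, inv1 hb] at this
  exact this.symm

theorem braid1 (ha : a * a = 1) (hb : b * b = 1) (h : (a * b) ^ 3 = 1) :
    a * b * a = b * a * b := by
  have : a * b * a * (b * a * b) = 1 := by rw [← h]; simp [pow_succ, mul_assoc]
  rw [eq_inv_of_mul_eq_one_left this]
  simp [inv1 ha, inv1 hb, mul_assoc]

theorem t3_sq (hE : IsThreeTranspositionSet E) (ha : a ∈ E) : a * a = 1 := sq1 (hE.1 a ha)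

theorem t3_cube (hE : IsThreeTranspositionSet E) (ha : a ∈ E) (hb : b ∈ E) (h : ¬ Commute a b) :
    (a * b) ^ 3 = 1 :=
  (hE.2 a ha b hb).resolve_left fun e => h (comm_of_sq1 (t3_sq hE ha) (t3_sq hE hb) e)

theorem t3_braid (hE : IsThreeTranspositionSet E) (ha : a ∈ E) (hb : b ∈ E) (h : ¬ Commute a b) :
    a * b * a = b * a * b := braid1 (t3_sq hE ha) (t3_sq hE hb) (t3_cube hE ha hb h)

theorem t3_comm_mul (hE : IsThreeTranspositionSet E) (ha : a ∈ E) (hb : b ∈ E) (he : e ∈ E)
    (hab : a ≠ b) (hc : Commute a b) (h : Commute e (a * b)) : Commute e a := by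
  by_contra hn
  have h1 := t3_cube hE he ha hn
  have h2 : e * b = (e * a) * (a * b) := by rw [mul_assoc, ll1 (t3_sq hE ha)]
  have h3 : Commute (e * a) (a * b) := h.mul_left ((Commute.refl a).mul_right hc)
  have h4 : (a * b) ^ 2 = 1 := by
    rw [hc.mul_pow, pow_two, pow_two, t3_sq hE ha, t3_sq hE hb, one_mul]
  rcases hE.2 e he b hb with k | k <;> rw [h2, h3.mul_pow] at k
  · rw [h4, mul_one] at k
    exact hn (comm_of_sq1 (t3_sq hE he) (t3_sq hE ha) k)
  · rw [h1, one_mul, pow_succ, h4, one_mul] at k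
    exact hab (by rw [eq_inv_of_mul_eq_one_left k, inv1 (t3_sq hE hb)])

theorem cox_sq (hb : b * b = 1) (hac : Commute a c)
    (h1 : a * b * a = b * a * b) (h2 : b * c * b = c * b * c) :
    (a * (b * c)) ^ 2 = b * (a * c) * b := by
  calc (a * (b * c)) ^ 2 = a * b * (c * a) * b * c := by simp [pow_two, mul_assoc]
    _ = (a * b * a) * (c * b * c) := by rw [← hac.eq]; simp [mul_assoc]
    _ = _ := by rw [h1, ← h2]; simp [mul_assoc, ll1 hb]

theorem cox_four (ha : a * a = 1) (hb : b * b = 1) (hc : c * c = 1) (hac : Commute a c)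
    (h1 : a * b * a = b * a * b) (h2 : b * c * b = c * b * c) : (a * (b * c)) ^ 4 = 1 := by
  rw [show 4 = 2 * 2 from rfl, pow_mul, cox_sq hb hac h1 h2, pow_two]
  calc b * (a * c) * b * (b * (a * c) * b) = b * (a * (c * a) * c) * b := by
        simp [mul_assoc, ll1 hb]
    _ = 1 := by rw [← hac.eq]; simp [mul_assoc, ll1 ha, ll1 hc, hb]

end H8
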