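import Cfsg.Agent.H8.BSW10
import Cfsg.Agent.H9.ZStar
import Cfsg.Agent.H1.Frob

/-! Involution centraliser `2 × S₄`. -/

namespace H8

open Subgroup Cfsg H7 Equiv

variable {G : Type*} [Group G] [Finite G] {t s a x g u v : G} {S H O M Q : Subgroup G} {n : ℕ}

theorem d8_all (ht : orderOf t = 2) (e : cen1 t ≃* DihedralGroup 4) :
    Op' 2 ⊤ ⊔ cen1 t = ⊤ ∨ Nat.card G ≤ 168 ∨ Nonempty (G ≃* alternatingGroup (Fin 6)) := by
  obtain ⟨a, s, h, h1, h2, h3⟩ := d8_setup ht e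
  have t1 : t ≠ 1 := fun e => by simp [e] at ht
  have t2 : t * t = 1 := by rw [← pow_two, ← ht, pow_orderOf_eq_one]
  have f : ∀ {s}, Dih (cen1 t) a s → ¬ IsConj s t → IsConj (s * a) t → Op' 2 ⊤ ⊔ cen1 t = ⊤ ∨ Nat.card G ≤ 168 ∨
      Nonempty (G ≃* alternatingGroup (Fin 6)) := fun h e1 e2 =>
    (d8_mixed h h1 t2 t1 h2 h3 e1 e2).imp_right fun e => Or.inl (by
      rcases e with ⟨⟨e⟩⟩ | ⟨⟨e⟩⟩ <;> simp [Nat.card_congr e.toEquiv, Fintype.card_perm, Nat.factorial])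
  by_cases e1 : IsConj s t <;> by_cases e2 : IsConj (s * a) t
  · exact Or.inr (((h.bsw_two h3 h1 t2 t1 e1 e2).four (by rw [Nat.card_zpowers, h2])).imp (·.1.le) (·.2))
  · exact f (h.swap h.sa_mem) e2 (IsConj.trans (isConj_iff.2 ⟨a, by
      calc a * (s * a * a) * a⁻¹ = s⁻¹ * (s * a * s⁻¹) * a⁻¹⁻¹ * (a⁻¹ * (s * s) * a) := by group
        _ = s := by rw [h.inv, h.s2, inv_eq_of_mul_eq_one_right h.s2]; group⟩) e1)
  · exact f h e1 e2
  · exact Or.inl (h.npc h3 h1 t2 t1 (fun g _ e => e1 (isConj_iff.2 ⟨g, e⟩)) fun g _ e => e2 (isConj_iff.2 ⟨g, e⟩))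

theorem a6_three (φ : MulAut (alternatingGroup (Fin 6))) {y : alternatingGroup (Fin 6)} (hy : orderOf y = 3)
    (h : φ y = y) : ∃ g : alternatingGroup (Fin 6), (g : Perm (Fin 6)).IsThreeCycle ∧
      (φ g : Perm (Fin 6)).IsThreeCycle := by
  by_contra! e
  have h1 : (Finset.univ.filter fun g : Perm (Fin 6) => g ^ 3 = 1 ∧ g ≠ 1 ∧ g.support.card ≠ 3).card =
      (Finset.univ.filter fun g : Perm (Fin 6) => g.support.card = 3).card := by decide +kernel
  have h2 : ∀ g : alternatingGroup (Fin 6), orderOf g = 3 → ¬ (g : Perm (Fin 6)).IsThreeCycle → (g : Perm (Fin 6)) ∈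
      Finset.univ.filter fun g : Perm (Fin 6) => g ^ 3 = 1 ∧ g ≠ 1 ∧ g.support.card ≠ 3 := fun g h1 h2 =>
    Finset.mem_filter.2 ⟨Finset.mem_univ _, congrArg Subtype.val (h1 ▸ pow_orderOf_eq_one g),
      fun e => by simp [show g = 1 from Subtype.ext e] at h1, mt card_support_eq_three_iff.1 h2⟩
  have h3 : ¬ (y : Perm (Fin 6)).IsThreeCycle := fun e' => e y e' (by rwa [h])
  have h5 := Finset.card_erase_lt_of_mem (h2 y hy h3)
  rw [h1] at h5
  refine h5.not_ge (Finset.card_le_card_of_injective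
    (f := fun g => ⟨φ ⟨g, (card_support_eq_three_iff.1 (Finset.mem_filter.1 g.2).2).mem_alternatingGroup⟩,
      ?_⟩) fun a b e => Subtype.ext (Subtype.mk.inj (φ.injective (Subtype.ext (Subtype.mk.inj e)))))
  have h4 := card_support_eq_three_iff.1 (Finset.mem_filter.1 g.2).2
  refine Finset.mem_erase.2 ⟨fun e' => h3 ?_, h2 _ (by rw [φ.orderOf_eq, ← orderOf_coe]; exact h4.orderOf) (e _ h4)⟩
  rw [← φ.injective ((Subtype.ext e').trans h.symm)]; exact h4

namespace Z2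

abbrev K := Multiplicative (ZMod 2) × Perm (Fin 4)
def t0 : K := (.ofAdd 1, 1)
def z0 : K := (1, swap 0 1 * swap 2 3)
def s0 : K := (1, swap 0 1)
def a0 : K := (1, swap 0 2 * swap 2 1 * swap 1 3)
def y0 : K := (1, swap 0 1 * swap 1 2)

theorem f1 : ∀ x : K, x * z0 = z0 * x → (x * x = 1 ∨ x * x = z0) ∧
    ∀ y : K, y * z0 = z0 * y → x * y * x⁻¹ * y⁻¹ = 1 ∨ x * y * x⁻¹ * y⁻¹ = z0 := by decide +kernel
theorem f2 : ∀ x : K, x * s0 = s0 * x → x * a0 = a0 * x → x = 1 ∨ x = t0 ∨ x = z0 ∨ x = t0 * z0 := by decide +kernel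
theorem f3 : ∀ x : K, x * x = 1 → x = 1 ∨ x = t0 ∨ ∃ k, k * x * k⁻¹ = z0 ∨ k * x * k⁻¹ = t0 * z0 ∨
    k * x * k⁻¹ = s0 ∨ k * x * k⁻¹ = t0 * s0 := by decide +kernel
theorem f4 : ∀ x : K, x * x = 1 → x.1 = 1 → x = 1 ∨ ∃ k, k * x * k⁻¹ = z0 ∨ k * x * k⁻¹ = s0 := by decide +kernel
theorem f5 : ∀ x : K, x * z0 = z0 * x ∧ x.1 = 1 ↔ ∃ k : Fin 4, x = a0 ^ (k : ℕ) ∨ s0 * x = a0 ^ (k : ℕ) := by
  decide +kernel
theorem f6 : Fintype.card {x : K // x * z0 = z0 * x} = 16 := by decide +kernel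
theorem f7 : (Finset.univ.filter fun x : K => x = t0 ∨ ∃ k, k * (t0 * s0) * k⁻¹ = x).card = 7 := by decide +kernel
theorem f8 : ∀ x : K, x * t0 = t0 * x ∧ (x.1 = 1 ∨ (t0 * x).1 = 1) := by decide +kernel

theorem card_K : Nat.card K = 48 := by simp [Fintype.card_perm, Nat.factorial]

theorem card_cen : ord (cen1 z0) = 16 := by
  rw [← f6, ← Nat.card_eq_fintype_card]; exact Nat.card_congr (Equiv.subtypeEquivRight fun _ => mem_cen1)

/-- the automorphism `(c, σ) ↦ (c · sgn σ, σ)` -/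
def al : K →* K := MonoidHom.mk' (fun x => if Perm.sign x.2 = 1 then x else t0 * x) (by decide +kernel)

theorem al_al : ∀ x, al (al x) = x := by decide +kernel

def Q0 : Subgroup K := cen1 z0 ⊓ (MonoidHom.fst _ _).ker

theorem dih0 : Dih Q0 a0 s0 := by
  have h : ∀ x, x ∈ zpowers a0 ↔ ∃ k : Fin 4, x = a0 ^ (k : ℕ) := fun x =>
    ⟨fun ⟨k, hk⟩ => ⟨⟨(k % 4).toNat, by omega⟩, by
      rw [← hk, ← zpow_natCast, Int.toNat_of_nonneg (by omega)]
      exact zpow_eq_zpow_emod k (by decide)⟩, fun ⟨k, hk⟩ => hk ▸ npow_mem_zpowers _ _⟩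
  exact ⟨by decide, by decide, by rw [h]; decide, fun g => by
    rw [h, h, ← exists_or, ← f5]; exact and_congr_left' mem_cen1⟩

theorem ord_a0 : orderOf a0 = 4 := orderOf_eq_prime_pow (p := 2) (n := 1) (by decide) (by decide)

/-- the configuration of an embedding of `2 × S₄` as an involution centraliser -/
structure Cf (f : K →* G) : Prop where
  inj : Function.Injective f
  rg : f.range = cen1 (f t0)
  cz : cen1 (f z0) ≤ f.range

variable {f : K →* G} (h : Cf f)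
include h

omit [Finite G] in
theorem Cf.twist : Cf (f.comp al) := by
  have : (f.comp al).range = f.range := by
    rw [MonoidHom.range_comp, MonoidHom.range_eq_top.2 fun x => ⟨_, al_al x⟩, MonoidHom.range_eq_map]
  exact ⟨h.inj.comp (Function.LeftInverse.injective al_al), this.trans h.rg, h.cz.trans this.ge⟩

omit [Finite G] in
theorem Cf.cen_eq : cen1 (f z0) = (cen1 z0).map f := by
  ext x; refine ⟨fun hx => ?_, fun ⟨y, hy, e⟩ => e ▸ mem_cen1.2 (by rw [← map_mul, mem_cen1.1 hy, map_mul])⟩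
  obtain ⟨y, rfl⟩ := h.cz hx
  exact ⟨y, mem_cen1.2 (h.inj (by rw [map_mul, mem_cen1.1 hx, map_mul])), rfl⟩

omit [Finite G] in
theorem Cf.card_z : ord (cen1 (f z0)) = 16 := by rw [h.cen_eq, card_map_of_injective h.inj, card_cen]

omit [Finite G] in
theorem Cf.card_t : ord (cen1 (f t0)) = 48 := by
  rw [← h.rg, ← card_K]; exact Nat.card_congr (MonoidHom.ofInjective h.inj).toEquiv.symm

omit [Finite G] in
theorem Cf.nrm_le : nrm (cen1 (f z0)) ≤ cen1 (f z0) := fun g hg => by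
  have h1 := nconj_mem hg (h.cen_eq.ge ⟨a0, mem_cen1.2 (by decide), rfl⟩)
  obtain ⟨x, hx, e⟩ := h.cen_eq.le h1
  have h2 : g * f z0 * g⁻¹ = f (x * x) := by
    rw [map_mul, e, show z0 = a0 * a0 by decide, map_mul]; group
  refine mem_cen1.2 (mul_inv_eq_iff_eq_mul.1 ?_)
  rcases (f1 x (mem_cen1.1 hx)).1 with e' | e' <;> rw [e'] at h2
  · rw [map_one, conj_eq_one_iff, map_eq_one_iff f h.inj] at h2; exact absurd h2 (by decide)
  · exact h2

theorem Cf.syl : IsSylowIn 2 (cen1 (f z0)) ⊤ :=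
  syl_of_nrm_le (M := cen1 (f z0)) (by simpa using syl_self (IsPGroup.of_card (n := 4) h.card_z)) h.nrm_le

omit [Finite G] in
theorem Cf.zt : cen1 (f z0) ≤ cen1 (f t0) := h.rg ▸ h.cz

theorem Cf.fus {x y : K} (hx : cen1 z0 ≤ cen1 x) (hy : cen1 z0 ≤ cen1 y) (e : IsConj (f x) (f y)) : x = y := by
  have h1 : ∀ {x}, cen1 z0 ≤ cen1 x → cen1 (f z0) ≤ cen1 (f x) := fun hx => h.cen_eq ▸ fun _ ⟨y, hy, e⟩ =>
    e ▸ mem_cen1.2 (by rw [← map_mul, mem_cen1.1 (hx hy), map_mul])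
  obtain ⟨g, hg⟩ := isConj_iff.1 e
  obtain ⟨c, hc, h2⟩ := (h.syl.mono (h1 hy) le_top).exists_cj_le (Q := cj g (cen1 (f z0)))
    (h.syl.isPGroup.map _) (by rw [← hg, ← cj_cen1]; exact cj_mono _ (h1 hx))
  rw [← cj_mul] at h2
  have h3 := mem_cen1.1 (h1 hx (h.nrm_le (mem_nrm_of_cj_le h2)))
  refine h.inj ?_
  calc f x = c * (g * f x * g⁻¹) * c⁻¹ := by rw [← mul_assoc, ← mul_assoc, h3]; group
    _ = _ := by rw [hg, mem_cen1.1 hc, mul_inv_cancel_right]

theorem Cf.cases {x : K} (e : IsConj (f t0) (f x)) :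
    x = t0 ∨ ∃ k, k * x * k⁻¹ = s0 ∨ k * x * k⁻¹ = t0 * s0 := by
  have h1 : ∀ k, IsConj (f t0) (f (k * x * k⁻¹)) := fun k => e.trans (f.map_isConj (isConj_iff.2 ⟨k, rfl⟩))
  have h2 : cen1 z0 ≤ cen1 t0 := fun y _ => mem_cen1.2 (f8 y).1
  rcases f3 x (h.inj (by rw [map_mul, sq_of_isConj (by rw [← map_mul]; exact congrArg f (by decide) |>.trans f.map_one) e,
    map_one])) with rfl | rfl | ⟨k, e' | e' | e'⟩
  · exact absurd (h.inj ((isConj_one_left.1 (f.map_one ▸ e)).trans f.map_one.symm)) (by decide)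
  · exact Or.inl rfl
  · exact absurd (h.fus h2 le_rfl (e' ▸ h1 k)) (by decide)
  · exact absurd (h.fus h2 (fun y hy => mem_cen1.2 (by
      rw [← mul_assoc, (f8 y).1, mul_assoc, mem_cen1.1 hy, mul_assoc])) (e' ▸ h1 k)) (by decide)
  · exact Or.inr ⟨k, e'⟩

theorem Cf.not_both (h1 : IsConj (f s0) (f t0)) (h2 : IsConj (f (t0 * s0)) (f t0)) : False := by
  obtain ⟨g, hg⟩ := isConj_iff.1 h1
  have h3 : cen1 z0 ≤ cen1 t0 := fun y _ => mem_cen1.2 (f8 y).1
  obtain ⟨x, hx⟩ : g * f z0 * g⁻¹ ∈ f.range := by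
    rw [h.rg, ← hg, ← cj_cen1, conj_mem_cj, mem_cen1, ← map_mul, ← map_mul]; exact congrArg f (by decide)
  have h4 : ∀ k, IsConj (f z0) (f (k * x * k⁻¹)) := fun k =>
    (isConj_iff.2 ⟨g, hx.symm⟩).trans (f.map_isConj (isConj_iff.2 ⟨k, rfl⟩))
  have h5 : ¬ IsConj (f z0) (f t0) := fun e => absurd (h.fus le_rfl h3 e) (by decide)
  rcases f3 x (h.inj (by rw [map_mul, sq_of_isConj (by rw [← map_mul]; exact congrArg f (by decide) |>.trans f.map_one)
    (by simpa using h4 1 : IsConj (f z0) (f x)), map_one])) with rfl | rfl | ⟨k, e' | e' | e' | e'⟩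
  · exact absurd (h.inj ((isConj_one_left.1 (by simpa using h4 1)).trans f.map_one.symm)) (by decide)
  · exact h5 (by simpa using h4 1)
  · have h6 : f k * g ∈ cen1 (f t0) := h.zt (mem_cen1.2 (mul_inv_eq_iff_eq_mul.1 (by
      conv_rhs => rw [← e', map_mul, map_mul, hx, map_inv]
      group)))
    have h7 := mem_cen1.1 ((mul_mem_cancel_left (h.rg.le ⟨k, rfl⟩)).1 h6)
    rw [mul_inv_eq_iff_eq_mul, ← h7, mul_right_inj] at hg
    exact absurd (h.inj hg) (by decide)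
  · exact absurd (h.fus le_rfl (fun y hy => mem_cen1.2 (by
      rw [← mul_assoc, (f8 y).1, mul_assoc, mem_cen1.1 hy, mul_assoc])) (e' ▸ h4 k)) (by decide)
  · exact h5 ((e' ▸ h4 k).trans h1)
  · exact h5 ((e' ▸ h4 k).trans h2)

theorem Cf.top (h1 : ¬ IsConj (f s0) (f t0)) (h2 : ¬ IsConj (f (t0 * s0)) (f t0)) : cen1 (f t0) = ⊤ := by
  have h3 := H9.zstar (t := f t0) (by rw [← map_pow]; exact (congrArg f (by decide)).trans f.map_one) fun g hg => by
    obtain ⟨x, hx⟩ := h.rg.ge (mem_cen1.2 hg.symm.eq)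
    have e : IsConj (f t0) (f x) := isConj_iff.2 ⟨g, hx.symm⟩
    rcases h.cases e with rfl | ⟨k, e' | e'⟩
    · exact hx.symm
    · exact (h1 (e' ▸ (e.trans (f.map_isConj (isConj_iff.2 ⟨k, rfl⟩))).symm)).elim
    · exact (h2 (e' ▸ (e.trans (f.map_isConj (isConj_iff.2 ⟨k, rfl⟩))).symm)).elim
  have h4 : ∀ k : K, ∀ w ∈ pPrimeCore 2 G, f (k * z0 * k⁻¹) * w * (f (k * z0 * k⁻¹))⁻¹ = w⁻¹ := fun k w hw =>
    H1.inverts_of_fpf_involution (by
      rw [← map_mul, sq_of_isConj (by decide) (isConj_iff.2 ⟨k, rfl⟩), map_one]; exact one_mem _)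
      (le_nrm_of_normal ⊤ _ (mem_top _)) (disjoint_of_coprime_natCard (by
        rw [map_mul, map_mul, map_inv, ← cj_cen1, card_cj, h.card_z]
        exact H1.coprime_pPrimeCore.pow_right 4)).eq_bot hw
  refine top_le_iff.1 fun g _ => mem_cen1.2 (mul_inv_eq_iff_eq_mul.1 (mul_inv_eq_one.1 ?_)).symm
  refine eq_one_of_odd (Nat.coprime_two_right.1 H1.coprime_pPrimeCore) (h3 g) (mul_eq_one_iff_eq_inv.2 ?_)
  have h5 := h4 1 _ (inv_mem (h3 g))
  rw [inv_inv, ← h4 y0 _ (h3 g)] at h5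
  rw [← h4 (y0 * y0) _ (h3 g), show y0 * y0 * z0 * (y0 * y0)⁻¹ = (1 * z0 * 1⁻¹) * (y0 * z0 * y0⁻¹) by decide,
    map_mul]
  exact h5.symm.trans (by group)

theorem Cf.big (h2 : IsConj (f (t0 * s0)) (f t0)) : 336 < Nat.card G := by
  classical
  by_contra! e
  have h1 := (cen1 (f t0)).card_mul_index
  rw [h.card_t, ← H3.card_isConj_eq_index] at h1
  have h3 : ((Finset.univ.filter fun x : K => x = t0 ∨ ∃ k, k * (t0 * s0) * k⁻¹ = x).image f : Set G) =
      {x | IsConj (f t0) x} := Set.eq_of_subset_of_ncard_le (by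
    simp only [Finset.coe_image, Set.image_subset_iff, Finset.coe_filter]
    rintro x ⟨-, rfl | ⟨k, rfl⟩⟩
    · exact IsConj.refl _
    · exact h2.symm.trans (f.map_isConj (isConj_iff.2 ⟨k, rfl⟩))) (by
    rw [Set.ncard_coe_finset, Finset.card_image_of_injective _ h.inj, f7, ← Nat.card_coe_set_eq]
    exact Nat.le_of_mul_le_mul_left (h1.trans_le e) (by norm_num : 0 < 48))
  obtain ⟨g, hg⟩ := isConj_iff.1 h2
  obtain ⟨x, -, hx⟩ := Finset.mem_image.1 (h3.ge (h2.symm.trans ((f.map_isConj (isConj_iff.2 ⟨y0, rfl⟩)).trans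
    (isConj_iff.2 ⟨g, rfl⟩))))
  have h4 := h.rg.le ⟨x, hx⟩
  rw [← hg, ← cj_cen1, conj_mem_cj, mem_cen1, ← map_mul, ← map_mul] at h4
  exact absurd (h.inj h4) (by decide)

theorem Cf.s6 (h1 : ¬ IsConj (f s0) (f t0)) (h2 : IsConj (f (t0 * s0)) (f t0)) : Nonempty (G ≃* Perm (Fin 6)) := by
  have hQ : Q0.map f ≤ cen1 (f z0) := h.cen_eq ▸ map_mono inf_le_left
  have cQ : ord (Q0.map f) = 8 := by rw [card_map_of_injective h.inj, dih0.card, ord_a0]
  have t2 : f t0 * f t0 = 1 := by rw [← map_mul]; exact (congrArg f (by decide)).trans f.map_one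
  obtain ⟨M, -, m1, m2⟩ := tt_rel h.syl (Q := Q0.map f) (by
    have := relIndex_mul_card' hQ; rw [cQ, h.card_z] at this; omega) (u := f t0)
    (h.cen_eq.ge ⟨t0, mem_cen1.2 (by decide), rfl⟩) t2 fun g _ ⟨x, hx, e⟩ => by
      have e' : IsConj (f t0) (f x) := isConj_iff.2 ⟨g, e.symm⟩
      rcases f4 x (h.inj (by rw [map_mul, sq_of_isConj t2 e', map_one])) hx.2 with rfl | ⟨k, e'' | e''⟩
      · exact absurd (h.inj ((isConj_one_left.1 (f.map_one ▸ e')).trans f.map_one.symm)) (by decide)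
      · exact absurd (h.fus (fun y _ => mem_cen1.2 (f8 y).1) le_rfl (e'' ▸ e'.trans
          (f.map_isConj (isConj_iff.2 ⟨k, rfl⟩)))) (by decide)
      · exact h1 (e'' ▸ (e'.trans (f.map_isConj (isConj_iff.2 ⟨k, rfl⟩))).symm)
  rw [relIndex_top_right] at m1
  haveI hM := normal_of_index_eq_two m1
  have sq : ∀ x, f (x * x) ∈ M := fun x => map_mul f x x ▸ mul_self_mem_of_index_two m1 _
  have sM : f s0 ∈ M := by_contra fun e => by
    obtain ⟨g, hg⟩ := isConj_iff.1 h2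
    exact m2 (hg ▸ hM.conj_mem _ (by rw [map_mul, mul_mem_iff_of_index_two m1]; tauto) g)
  have yM : f y0 ∈ M := by rw [show y0 = y0⁻¹ * y0⁻¹ by decide]; exact sq _
  have zM : f z0 ∈ M := by rw [show z0 = a0 * a0 by decide]; exact sq _
  have aM : f a0 ∈ M := by
    rw [show a0 = (y0 * z0 * y0⁻¹) * s0 by decide, map_mul, map_mul, map_mul, map_inv]
    exact mul_mem (hM.conj_mem _ zM _) sM
  have QM : Q0.map f ≤ M := map_le_iff_le_comap.2 fun x hx => by
    have : zpowers a0 ≤ M.comap f := zpowers_le.2 aM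
    exact ((dih0.mem x).1 hx).elim (fun e => this e) fun e =>
      (mul_mem_cancel_left (show s0 ∈ M.comap f from sM)).1 (this e)
  have h3 : cen1 (⟨f z0, zM⟩ : M) = (Q0.map f).subgroupOf M := by
    rw [cen1_coe]; ext x; refine ⟨fun hx => ?_, fun hx => hQ hx⟩
    obtain ⟨y, hy, e⟩ := h.cen_eq.le hx
    rcases (f8 y).2 with e' | e'
    · exact ⟨y, ⟨hy, e'⟩, e⟩
    · have := QM ⟨t0 * y, ⟨mul_mem (mem_cen1.2 (by decide)) hy, e'⟩, rfl⟩
      rw [map_mul, e] at this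
      exact (m2 ((mul_mem_cancel_right x.2).1 this)).elim
  obtain ⟨e0⟩ := ord_a0 ▸ dih0.equiv
  have hb := h.big h2
  have hG := M.card_mul_index
  rw [m1] at hG
  rcases d8_all (t := (⟨f z0, zM⟩ : M)) (by
    rw [← orderOf_coe, orderOf_injective f h.inj]; exact orderOf_eq_prime (by decide) (by decide))
    ((MulEquiv.subgroupCongr h3).trans ((subgroupOfEquivOfLe QM).trans
      ((Q0.equivMapOfInjective f h.inj).symm.trans e0))) with e | e | ⟨⟨e⟩⟩
  · obtain ⟨o, ho, c, hc, e'⟩ := (H2.mem_sup_of_le_normalizer' (le_top.trans (le_nrm_Opi _ _))).1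
      (e.ge (mem_top (⟨f y0, yM⟩ : M)))
    have h4 : (⟨f y0, yM⟩ * ⟨f z0, zM⟩ * (⟨f y0, yM⟩ : M)⁻¹ * (⟨f z0, zM⟩ : M)⁻¹ : M) ∈ Op' 2 ⊤ := by
      rw [← e', mul_inv_rev, mul_assoc o, mem_cen1.1 hc]
      simpa [mul_assoc] using mul_mem ho (nconj_mem (le_nrm_Opi _ _ (mem_top ⟨f z0, zM⟩)) (inv_mem ho))
    have := congrArg Subtype.val (eq_one_of_odd (Nat.coprime_two_right.1 (coprime_Op' 2 _)) h4 (Subtype.ext (by
      simp only [coe_mul, coe_inv, ← map_inv, ← map_mul]; exact (congrArg f (by decide)).trans f.map_one)))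
    simp only [coe_mul, coe_inv, ← map_inv, ← map_mul] at this
    exact absurd (h.inj (this.trans f.map_one.symm)) (by decide)
  · omega
  have hc : cen M = ⊥ := eq_bot_iff.2 fun c hc => cen_inf_eq_bot (by simp) e hc (by_contra fun hcM => by
    have h4 : ∀ g : G, g * c = c * g := fun g => by
      by_cases hg : g ∈ M
      · exact hc g hg
      · have := hc (g * c) (by rw [SetLike.mem_coe, mul_mem_iff_of_index_two m1]; tauto)
        rwa [← mul_assoc, mul_left_inj] at this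
    obtain ⟨x, rfl⟩ := h.cz (mem_cen1.2 (h4 _).symm)
    have h5 : ∀ y, x * y = y * x := fun y => h.inj (by rw [map_mul, ← h4, map_mul])
    rcases f2 x (h5 _) (h5 _) with rfl | rfl | rfl | rfl
    · exact hcM (f.map_one ▸ one_mem M)
    · have := h.card_t
      rw [show cen1 (f t0) = ⊤ from top_le_iff.1 fun g _ => mem_cen1.2 (h4 g), card_top] at this
      omega
    · exact hcM zM
    · exact absurd (h5 y0) (by decide))
  obtain ⟨σ, hσ⟩ := aut_alt (by simp) (MulAut.congr e (MulAut.conjNormal (f t0))) (Or.inr (a6_three _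
    (y := e ⟨f y0, yM⟩) (by
      rw [e.orderOf_eq, ← orderOf_coe, orderOf_injective f h.inj]; exact orderOf_eq_prime (by decide) (by decide))
    (by
      simp only [MulAut.congr_apply, MulEquiv.trans_apply, MulEquiv.symm_apply_apply, EmbeddingLike.apply_eq_iff_eq]
      exact Subtype.ext (by
        simp only [MulAut.conjNormal_apply, ← map_inv, ← map_mul]; exact congrArg f (by decide)))))
  have h5 : ∀ g : M, ∀ x, e (MulAut.conjNormal (g : G) (e.symm x)) = e g * x * (e g)⁻¹ := fun g x => by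
    rw [show MulAut.conjNormal (g : G) (e.symm x) = g * e.symm x * g⁻¹ from rfl]; simp
  refine perm_of_alt (by simp) e m1 hc fun g => ?_
  by_cases hg : g ∈ M
  · exact ⟨e ⟨g, hg⟩, fun x => congrArg Subtype.val (h5 ⟨g, hg⟩ x)⟩
  have h6 : f t0 * g ∈ M := by rw [mul_mem_iff_of_index_two m1]; tauto
  refine ⟨σ * e ⟨_, h6⟩, fun x => ?_⟩
  have h7 := hσ (e ⟨_, h6⟩ * x * (e ⟨_, h6⟩)⁻¹)
  rw [← h5] at h7
  conv_lhs => rw [show g = f t0 * (f t0 * g) by rw [← mul_assoc, t2, one_mul], map_mul]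
  refine Eq.trans ?_ (h7.trans ?_)
  · simp
  · rw [h5]; simp [mul_assoc]

theorem Cf.main : cen1 (f t0) = ⊤ ∨ Nonempty (G ≃* Perm (Fin 6)) := by
  by_cases h1 : IsConj (f s0) (f t0) <;> by_cases h2 : IsConj (f (t0 * s0)) (f t0)
  · exact (h.not_both h1 h2).elim
  · exact Or.inr (h.twist.s6 h2 (by
      rwa [MonoidHom.comp_apply, show Z2.al (t0 * s0) = s0 by decide]))
  · exact Or.inr (h.s6 h1 h2)
  · exact Or.inl (h.top h1 h2)

end Z2

end H8
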